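import Cfsg.Agent.Recog3222.Small
import Cfsg.Agent.Invol.BrauerFowler
import Cfsg.Agent.M12U.Tools
import Cfsg.Agent.Invol.Isolated
import Mathlib.GroupTheory.Transfer
import Mathlib.GroupTheory.GroupAction.Quotient

/-! Groups in which three involutions of an abelian Sylow 2-subgroup are self-centralizing. -/

set_option autoImplicit false
set_option linter.unusedSectionVars false
set_option linter.style.haveILetI false

namespace CfsgLib.ChzL34

open Subgroup
open CfsgLib.Invol (orderOf_conj_eq)

variable {Y : Type*} [Group Y] [Finite Y]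

theorem card_conjClass (x : Y) :
    Nat.card {y : Y // IsConj x y} * Nat.card (centralizer ({x} : Set Y)) = Nat.card Y :=
  BrauerFowler.card_class_mul x

/-- An abelian self-normalizing Sylow subgroup with three self-centralizing involutions of a four group
is the whole group. -/
theorem eq_top_of_self_norm (P : Sylow 2 Y) (hP : normalizer (P : Set Y) ≤ centralizer (P : Set Y))
    {x y : Y} (hx : x ∈ P) (hy : y ∈ P) (hxx : x * x = 1) (hyy : y * y = 1)
    (hcx : centralizer ({x} : Set Y) ≤ P) (hcy : centralizer ({y} : Set Y) ≤ P)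
    (hcxy : centralizer ({x * y} : Set Y) ≤ P) : (P : Subgroup Y) = ⊤ := by
  haveI : Fact (Nat.Prime 2) := ⟨Nat.prime_two⟩
  set R := (MonoidHom.transferSylow P hP).ker with hR
  have hc := MonoidHom.ker_transferSylow_isComplement' P hP
  rw [← hR] at hc
  haveI : R.Normal := by rw [hR]; infer_instance
  have hbot : R ⊓ P = ⊥ := disjoint_iff.1 hc.disjoint
  have hfix : ∀ w : Y, w * w = 1 → centralizer ({w} : Set Y) ≤ P → ∀ n ∈ R, w * n * w⁻¹ = n⁻¹ :=
    fun w hw hcw => (M12U.inverts_of_fpf hw (fun n hn => Normal.conj_mem inferInstance n hn w)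
      fun n hn h => mem_bot.1 (hbot ▸ mem_inf.2 ⟨hn, hcw (mem_centralizer_singleton_iff.2
        (mul_inv_eq_iff_eq_mul.1 h).symm)⟩)).1
  have hxy : (x * y) * (x * y) = 1 := by
    have : x * y = y * x := mem_centralizer_iff.1 (hP (le_normalizer hy)) x hx
    calc x * y * (x * y) = x * y * (y * x) := by rw [← this]
      _ = x * (y * y) * x := by simp only [mul_assoc]
      _ = 1 := by rw [hyy, mul_one, hxx]
  have hR1 : R = ⊥ := by
    refine (eq_bot_iff_forall _).2 fun n hn => ?_
    have h1 := hfix x hxx hcx n⁻¹ (inv_mem hn)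
    have h2 := hfix y hyy hcy n hn
    have h3 := hfix _ hxy hcxy n hn
    have h4 : x * y * n * (x * y)⁻¹ = n := by
      rw [show x * y * n * (x * y)⁻¹ = x * (y * n * y⁻¹) * x⁻¹ by group, h2, h1, inv_inv]
    have hnn : n * n = 1 := mul_eq_one_iff_eq_inv.2 (h4.symm.trans h3)
    by_contra hne
    have h2n : orderOf n = 2 := orderOf_eq_prime (by rw [pow_two, hnn]) hne
    have hd : 2 ∣ Nat.card R := h2n ▸ R.orderOf_dvd_natCard hn
    exact MonoidHom.not_dvd_card_ker_transferSylow P hP (hR ▸ hd)
  have h := hc.card_mul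
  rw [hR1, card_bot, one_mul] at h
  exact eq_top_of_card_eq _ h

/-- Every involution is conjugate into a subgroup of odd index. -/
theorem exists_conj_mem {V : Subgroup Y} {n : ℕ} (hV : Nat.card V = 2 ^ n) (hodd : Odd V.index)
    {t : Y} (ht : orderOf t = 2) : ∃ g : Y, g * t * g⁻¹ ∈ V := by
  haveI : Fact (Nat.Prime 2) := ⟨Nat.prime_two⟩
  have hp : IsPGroup 2 V := IsPGroup.of_card hV
  let P : Sylow 2 Y := hp.toSylow (fun h => Nat.not_even_iff_odd.2 hodd (even_iff_two_dvd.2 h))
  have h2 : IsPGroup 2 (zpowers t) := IsPGroup.of_card (n := 1) (by rw [Nat.card_zpowers, ht, pow_one])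
  obtain ⟨Q, hQ⟩ := h2.exists_le_sylow
  obtain ⟨g, hg⟩ := MulAction.exists_smul_eq Y Q P
  refine ⟨g, ?_⟩
  have : g * t * g⁻¹ ∈ (g • Q : Sylow 2 Y) := ⟨t, hQ (mem_zpowers t), rfl⟩
  rwa [hg] at this

/-- The pairs of involutions with product of odd order. -/
theorem card_odd_pairs {V : Subgroup Y} (hV : Nat.card V = 4) (hsq : ∀ w ∈ V, w * w = 1)
    (hC : ∀ w ∈ V, w ≠ 1 → centralizer ({w} : Set Y) = V) (hodd : Odd V.index) :
    Nat.card {p : Y × Y // (orderOf p.1 = 2 ∧ orderOf p.2 = 2) ∧ Odd (orderOf (p.1 * p.2))} =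
      Nat.card {t : Y // orderOf t = 2} * (Nat.card {t : Y // orderOf t = 2} - 2) := by
  classical
  haveI := Fintype.ofFinite Y
  set I := Finset.univ.filter fun t : Y => orderOf t = 2 with hI
  have hcard : Nat.card {t : Y // orderOf t = 2} = I.card := by
    rw [Nat.card_eq_fintype_card, Fintype.card_subtype]
  have hcomm : ∀ a ∈ V, ∀ b ∈ V, a * b = b * a := by
    intro a ha b hb
    calc a * b = a * (a * b * (a * b)) * b := by rw [hsq _ (mul_mem ha hb), mul_one]
      _ = (a * a) * (b * a) * (b * b) := by simp only [mul_assoc]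
      _ = b * a := by rw [hsq a ha, hsq b hb, one_mul, mul_one]
  have key : ∀ t ∈ I, (I.filter fun u => ¬ Odd (orderOf (t * u))).card = 2 := by
    intro t ht
    have ht' : orderOf t = 2 := (Finset.mem_filter.1 ht).2
    obtain ⟨g, hg⟩ := exists_conj_mem (n := 2) (by rw [hV]; norm_num) hodd ht'
    set w := g * t * g⁻¹
    have hw1 : w ≠ 1 := fun h => Invol.ne_one ht' (by simpa [w] using h)
    have hset : (I.filter fun u => ¬ Odd (orderOf (t * u))) =
        ((Finset.univ.filter fun v : Y => v ∈ V).erase 1 |>.erase w).image (fun v => g⁻¹ * v * g) := by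
      ext u
      simp only [Finset.mem_filter, Finset.mem_image, Finset.mem_erase, Finset.mem_univ, true_and, hI]
      constructor
      · rintro ⟨hu, hev⟩
        rw [Nat.not_odd_iff_even] at hev
        obtain ⟨hj, hjt, hju⟩ := Invol.half_props ht' hu hev
        set j := (t * u) ^ (orderOf (t * u) / 2) with hjdef
        have hjV : g * j * g⁻¹ ∈ V := by
          rw [← hC w hg hw1, mem_centralizer_singleton_iff]
          show Commute (g * j * g⁻¹) (g * t * g⁻¹)
          exact (show Commute j t from hjt).map (MulAut.conj g).toMonoidHom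
        have hj1 : g * j * g⁻¹ ≠ 1 := fun h => Invol.ne_one hj (by simpa using h)
        have huV : g * u * g⁻¹ ∈ V := by
          rw [← hC _ hjV hj1, mem_centralizer_singleton_iff]
          show Commute (g * u * g⁻¹) (g * j * g⁻¹)
          exact (show Commute u j from hju.symm).map (MulAut.conj g).toMonoidHom
        refine ⟨g * u * g⁻¹, ⟨fun h => ?_, fun h => Invol.ne_one hu (by simpa using h), huV⟩, by group⟩
        have : u = t := by simpa [w] using h
        rw [this, Invol.mul_self_eq_one ht', orderOf_one] at hev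
        exact absurd hev (by decide)
      · rintro ⟨v, ⟨hvw, hv1, hv⟩, rfl⟩
        have hv2 : orderOf v = 2 := orderOf_eq_prime (by rw [pow_two, hsq v hv]) hv1
        refine ⟨by rw [show g⁻¹ * v * g = g⁻¹ * v * g⁻¹⁻¹ by group, orderOf_conj_eq, hv2], ?_⟩
        rw [show t * (g⁻¹ * v * g) = g⁻¹ * (w * v) * g⁻¹⁻¹ by simp only [w]; group, orderOf_conj_eq,
          orderOf_eq_prime (by rw [pow_two, hsq _ (mul_mem hg hv)]) (fun h => hvw ?_)]
        · decide
        · rw [mul_eq_one_iff_eq_inv] at h
          rw [h, inv_eq_of_mul_eq_one_right (hsq v hv)]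
    rw [hset, Finset.card_image_of_injective _ (fun a b h => by simpa using h),
      Finset.card_erase_of_mem (Finset.mem_erase.2 ⟨hw1, Finset.mem_filter.2 ⟨Finset.mem_univ _, hg⟩⟩),
      Finset.card_erase_of_mem (Finset.mem_filter.2 ⟨Finset.mem_univ _, one_mem V⟩)]
    have : (Finset.univ.filter fun v : Y => v ∈ V).card = 4 := by
      rw [← hV, Nat.card_eq_fintype_card, Fintype.card_subtype]
    convert (show 4 - 1 - 1 = 2 from rfl) using 3
  rw [hcard, Nat.card_eq_fintype_card, Fintype.card_subtype]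
  have hsplit : (Finset.univ.filter fun p : Y × Y =>
      (orderOf p.1 = 2 ∧ orderOf p.2 = 2) ∧ Odd (orderOf (p.1 * p.2))) =
      I.biUnion fun t => (I.filter fun u => Odd (orderOf (t * u))).image (fun u => (t, u)) := by
    ext ⟨t, u⟩
    simp [hI]
    tauto
  rw [hsplit, Finset.card_biUnion]
  · rw [Finset.sum_congr rfl (g := fun _ => I.card - 2), Finset.sum_const, smul_eq_mul]
    intro t ht
    rw [Finset.card_image_of_injective _ fun a b h => (Prod.ext_iff.1 h).2]
    have := Finset.card_filter_add_card_filter_not (s := I) fun u => Odd (orderOf (t * u))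
    rw [key t ht] at this
    omega
  · intro a _ b _ hab
    rw [Function.onFun, Finset.disjoint_left]
    rintro ⟨p, q⟩ h1 h2
    simp at h1 h2
    exact hab (h1.2.trans h2.2.symm)

/-- The possible orders and counts. -/
theorem four_cases {V : Subgroup Y} (hV : Nat.card V = 4) (hsq : ∀ w ∈ V, w * w = 1)
    (hC : ∀ w ∈ V, w ≠ 1 → centralizer ({w} : Set Y) = V) :
    Odd V.index ∧ ((Nat.card Y = 4 ∧ Nat.card {t : Y // orderOf t = 2} = 3) ∨
      (Nat.card Y = 12 ∧ Nat.card {t : Y // orderOf t = 2} = 3) ∨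
      (Nat.card Y = 60 ∧ commutator Y = ⊤ ∧ Nat.card {t : Y // orderOf t = 2} = 15)) := by
  classical
  haveI : Fact (Nat.Prime 2) := ⟨Nat.prime_two⟩
  haveI := Fintype.ofFinite Y
  obtain ⟨v, hv, hv1⟩ : ∃ v ∈ V, v ≠ 1 := by
    by_contra h
    push Not at h
    rw [(eq_bot_iff_forall _).2 h, card_bot] at hV
    omega
  set N := normalizer (V : Set Y)
  -- a normalizing element fixing an involution of `V` lies in `V`
  have hfix : ∀ q ∈ N, ∀ w ∈ V, w ≠ 1 → q * w * q⁻¹ = w → q ∈ V := fun q _ w hw hw1 h => by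
    rw [← hC w hw hw1, mem_centralizer_singleton_iff]
    exact mul_inv_eq_iff_eq_mul.1 h
  have hNcases : ∀ q ∈ N, q ∉ V → ∀ w ∈ V, w ≠ 1 →
      w = v ∨ w = q * v * q⁻¹ ∨ w = q * (q * v * q⁻¹) * q⁻¹ := by
    intro q hq hqV w hw hw1
    have hmem : ∀ r, r ∈ V → q * r * q⁻¹ ∈ V := fun r hr => (mem_normalizer_iff.1 hq r).1 hr
    have hne : ∀ r, r ∈ V → r ≠ 1 → q * r * q⁻¹ ≠ r := fun r hr hr1 h => hqV (hfix q hq r hr hr1 h)
    set v1 := q * v * q⁻¹
    set v2 := q * v1 * q⁻¹
    have m1 : v1 ∈ V := hmem v hv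
    have m2 : v2 ∈ V := hmem v1 m1
    have n1 : v1 ≠ 1 := fun h => hv1 (by simpa [v1] using h)
    have n2 : v2 ≠ 1 := fun h => n1 (by simpa [v2] using h)
    have d1 : v1 ≠ v := hne v hv hv1
    have d2 : v2 ≠ v1 := hne v1 m1 n1
    have d3 : v2 ≠ v := by
      intro h
      -- the product is then fixed
      have hp : q * (v * v1) * q⁻¹ = v1 * v2 := by simp only [v1, v2]; group
      rw [h] at hp
      have hcomm : v1 * v = v * v1 := by
        have := hC v hv hv1 ▸ m1
        exact mem_centralizer_singleton_iff.1 this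
      rw [hcomm] at hp
      exact hne _ (mul_mem hv m1) (fun h' => d1 (by
        rw [mul_eq_one_iff_eq_inv.1 h', inv_eq_of_mul_eq_one_right (hsq v1 m1)] at *)) hp
    by_contra hcon
    simp only [not_or] at hcon
    have hsub : ({1, v, v1, v2, w} : Finset Y) ⊆ Finset.univ.filter (· ∈ V) := by
      intro r hr
      simp only [Finset.mem_insert, Finset.mem_singleton] at hr
      rcases hr with rfl | rfl | rfl | rfl | rfl <;> simp [one_mem, hv, m1, m2, hw]
    have hle := Finset.card_le_card hsub
    rw [← Fintype.card_subtype, ← Nat.card_eq_fintype_card] at hle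
    rw [Finset.card_insert_of_notMem (by simp [hv1.symm, n1.symm, n2.symm, hw1.symm]),
      Finset.card_insert_of_notMem (by simp [d1.symm, d3.symm, hcon.1, Ne.symm hcon.1]),
      Finset.card_insert_of_notMem (by simp [d2.symm, Ne.symm hcon.2.1]),
      Finset.card_insert_of_notMem (by simp [Ne.symm hcon.2.2]), Finset.card_singleton, hV] at hle
    omega
  -- the normalizer has order at most twelve, and order eight is impossible
  have hN : Nat.card N = 4 ∨ Nat.card N = 12 := by
    by_cases hle : N ≤ V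
    · exact Or.inl (by rw [le_antisymm hle le_normalizer, hV])
    obtain ⟨q, hq, hqV⟩ := SetLike.not_le_iff_exists.1 hle
    right
    have hVN : V ≤ N := le_normalizer
    set C := (centralizer ({v} : Set Y)).subgroupOf N
    have hC4 : Nat.card C = 4 := by
      rw [← hV]
      refine Nat.card_congr (Equiv.trans (Equiv.refl _) ?_)
      refine ⟨fun a => ⟨a.1.1, hC v hv hv1 ▸ a.2⟩, fun a => ⟨⟨a.1, hVN a.2⟩, ?_⟩, fun _ => rfl, fun _ => rfl⟩
      show a.1 ∈ centralizer ({v} : Set Y)
      rw [hC v hv hv1]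
      exact a.2
    have hidx : C.index = 3 := by
      have e : {r : Y // r ∈ V ∧ r ≠ 1} ≃ N ⧸ C := by
        refine (Equiv.ofBijective (fun a : N ⧸ C => Quotient.liftOn' a
          (fun n => (⟨(n : Y) * v * (n : Y)⁻¹, (mem_normalizer_iff.1 n.2 v).1 hv,
            fun h => hv1 (by simpa using h)⟩ : {r : Y // r ∈ V ∧ r ≠ 1})) ?_) ⟨?_, ?_⟩).symm
        · intro a b hab
          rw [QuotientGroup.leftRel_apply, mem_subgroupOf, mem_centralizer_singleton_iff] at hab
          refine Subtype.ext ?_
          show (a : Y) * v * (a : Y)⁻¹ = (b : Y) * v * (b : Y)⁻¹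
          push_cast at hab
          calc (a : Y) * v * (a : Y)⁻¹ = a * (v * ((a : Y)⁻¹ * b)) * (b : Y)⁻¹ := by group
            _ = _ := by rw [← hab]; group
        · intro a b
          induction a using Quotient.inductionOn' with | h a => ?_
          induction b using Quotient.inductionOn' with | h b => ?_
          intro h
          have h' : (a : Y) * v * (a : Y)⁻¹ = (b : Y) * v * (b : Y)⁻¹ := congrArg Subtype.val h
          refine Quotient.sound' ?_
          rw [QuotientGroup.leftRel_apply, mem_subgroupOf, mem_centralizer_singleton_iff]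
          push_cast
          calc (a : Y)⁻¹ * b * v = (a : Y)⁻¹ * ((b : Y) * v * (b : Y)⁻¹) * b := by group
            _ = _ := by rw [← h']; group
        · rintro ⟨r, hr, hr1⟩
          rcases hNcases q hq hqV r hr hr1 with rfl | rfl | rfl
          · exact ⟨Quotient.mk'' 1, Subtype.ext (by simp)⟩
          · exact ⟨Quotient.mk'' ⟨q, hq⟩, rfl⟩
          · exact ⟨Quotient.mk'' ⟨q * q, mul_mem hq hq⟩, Subtype.ext (by simp [mul_assoc])⟩
      rw [index_eq_card, ← Nat.card_congr e, Nat.card_eq_fintype_card, Fintype.card_subtype,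
        show (Finset.univ.filter fun r : Y => r ∈ V ∧ r ≠ 1) = (Finset.univ.filter (· ∈ V)).erase 1 by
          ext r; simp [and_comm],
        Finset.card_erase_of_mem (by simp [one_mem]), ← Fintype.card_subtype, ← Nat.card_eq_fintype_card, hV]
    rw [← C.card_mul_index, hC4, hidx]
  have hodd : Odd V.index := by
    rw [← Nat.not_even_iff_odd, even_iff_two_dvd]
    intro h
    have hd : 2 ^ (2 + 1) ∣ Nat.card Y := by
      rw [← V.card_mul_index, hV]
      exact Nat.mul_dvd_mul (dvd_refl 4) h
    have := Sylow.prime_pow_dvd_card_normalizer hd (H := V) (by rw [hV]; norm_num)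
    rcases hN with h' | h' <;> rw [h'] at this <;> norm_num at this
  refine ⟨hodd, ?_⟩
  have hclass : ∀ t : Y, orderOf t = 2 → ∃ g w, w ∈ V ∧ w ≠ 1 ∧ g * t * g⁻¹ = w := fun t ht => by
    obtain ⟨g, hg⟩ := exists_conj_mem (n := 2) (by rw [hV]; norm_num) hodd ht
    exact ⟨g, _, hg, fun h => Invol.ne_one ht (by simpa using h), rfl⟩
  by_cases hle : N ≤ V
  · left
    let P : Sylow 2 Y := (IsPGroup.of_card (n := 2) (by rw [hV]; norm_num)).toSylow
      (fun h => Nat.not_even_iff_odd.2 hodd (even_iff_two_dvd.2 h))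
    have hPV : (P : Subgroup Y) = V := rfl
    obtain ⟨w, hw, hw1, hwv⟩ : ∃ w ∈ V, w ≠ 1 ∧ w ≠ v := by
      by_contra h
      push Not at h
      have hle2 : V ≤ zpowers v := fun r hr => by
        by_cases hr1 : r = 1
        · rw [hr1]; exact one_mem _
        · rw [h r hr hr1]; exact mem_zpowers v
      have := card_le_of_le hle2
      rw [Nat.card_zpowers, orderOf_eq_prime (by rw [pow_two, hsq v hv]) hv1, hV] at this
      omega
    have htop := eq_top_of_self_norm P (fun q hq => mem_centralizer_iff.2 fun r hr => by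
      have hqV : q ∈ centralizer ({v} : Set Y) := by rw [hC v hv hv1]; exact hle hq
      rcases eq_or_ne r 1 with rfl | hr1
      · simp
      · exact (mem_centralizer_singleton_iff.1 (show q ∈ centralizer ({r} : Set Y) by
          rw [hC r hr hr1]; exact hle hq)).symm)
      hv hw (hsq v hv) (hsq w hw) (le_of_eq (hC v hv hv1)) (le_of_eq (hC w hw hw1))
      (le_of_eq (hC _ (mul_mem hv hw) fun h => hwv (by
        rw [mul_eq_one_iff_eq_inv.1 h, inv_eq_of_mul_eq_one_right (hsq w hw)])))
    have h4 : Nat.card Y = 4 := by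
      rw [← hV, ← hPV, htop, card_top]
    refine ⟨h4, ?_⟩
    rw [show Nat.card {t : Y // orderOf t = 2} = Nat.card {t : Y // t ≠ 1} from
      Nat.card_congr (Equiv.subtypeEquivRight fun t => ⟨fun h => Invol.ne_one h, fun h =>
        orderOf_eq_prime (by rw [pow_two, hsq t (by rw [← hPV, htop]; exact mem_top t)]) h⟩)]
    rw [Nat.card_eq_fintype_card, Fintype.card_subtype, Finset.filter_ne', Finset.card_erase_of_mem
      (Finset.mem_univ _), Finset.card_univ, ← Nat.card_eq_fintype_card, h4]
  · right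
    obtain ⟨q, hq, hqV⟩ := SetLike.not_le_iff_exists.1 hle
    have hfus : ∀ w ∈ V, w ≠ 1 → IsConj v w := fun w hw hw1 => by
      rcases hNcases q hq hqV w hw hw1 with rfl | rfl | rfl
      · exact IsConj.refl _
      · exact isConj_iff.2 ⟨q, rfl⟩
      · exact isConj_iff.2 ⟨q * q, by group⟩
    have F : CfsgLib.S3222.FourHyp V v :=
      ⟨hV, hsq, hv, hv1, hC v hv hv1, hfus, hodd⟩
    have hm : Nat.card {t : Y // orderOf t = 2} * 4 = Nat.card Y := by
      rw [← hV, ← hC v hv hv1, ← card_conjClass v]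
      congr 1
      refine Nat.card_congr (Equiv.subtypeEquivRight fun t => ⟨fun ht => ?_, fun ht => ?_⟩)
      · obtain ⟨g, w, hw, hw1, hgw⟩ := hclass t ht
        exact (hfus w hw hw1).trans (isConj_iff.2 ⟨g, hgw⟩).symm
      · obtain ⟨g, rfl⟩ := isConj_iff.1 ht
        rw [orderOf_conj_eq]
        exact orderOf_eq_prime (by rw [pow_two, hsq v hv]) hv1
    rcases F.card_cases hq hqV with h | ⟨h, hp⟩
    · exact Or.inl ⟨h, by omega⟩
    · exact Or.inr ⟨h, hp, by omega⟩

end CfsgLib.ChzL34
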