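import Cfsg.Agent.ChzL34.Transfer
import Cfsg.Agent.ChzL34.Four
import Cfsg.Agent.Kinf.OrderFormula

/-! The normal subgroup of index four and the order formula. -/

set_option autoImplicit false
set_option linter.unusedSectionVars false
set_option linter.style.haveILetI false
set_option maxRecDepth 100000

namespace CfsgLib.ChzL34

open Subgroup
open CfsgLib.Invol (orderOf_conj_eq)

variable {G : Type*} [Group G]

/-- The split centralizer together with a normal subgroup of index four. -/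
structure Big (z : G) (c : Nat → G) (N : Subgroup G) : Prop where
  sys : Sys z c
  normal : N.Normal
  index : N.index = 4
  mem : ∀ n, n < 768 → (c n ∈ N ↔ inH1 n = true)

theorem Cod.card_cent {z : G} {tw : Nat} {c : Nat → G} (K : Cod z tw c) :
    Nat.card (centralizer ({z} : Set G)) = 768 := by
  rw [show Nat.card (centralizer ({z} : Set G)) = Nat.card {v : G // v * z = z * v ∧ True} from
    Nat.card_congr (Equiv.subtypeEquivRight fun v => by rw [mem_centralizer_singleton_iff, and_true]),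
    K.card_filter (fun _ => True) (fun _ => true) fun _ _ => by simp]
  rw [List.filter_eq_self.2 (by simp), List.length_range]

theorem card_cent_eq (b : G) : Nat.card (centralizer ({b} : Set G)) = Nat.card {v : G // v * b = b * v} :=
  Nat.card_congr (Equiv.subtypeEquivRight fun _ => mem_centralizer_singleton_iff)

/-- Pairs of involutions with `b` in the group generated by their product. -/
theorem pairs_count [Finite G] {z b : G} (hz : orderOf z = 2) (hb : orderOf b = 2) (hzb : ¬ IsConj z b)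
    (hub : ∀ u, IsConj z u → Commute b u → IsConj b (u * b)) :
    Nat.card {q : G × G // IsConj z q.1 ∧ IsConj b q.2 ∧ b ∈ zpowers (q.1 * q.2)} =
      Nat.card {p : G × G // ((IsConj z p.1 ∧ Commute b p.1) ∧ (IsConj z p.2 ∧ Commute b p.2)) ∧
        Odd (orderOf (p.1 * p.2))} := by
  have hord : ∀ {x y : G}, IsConj x y → orderOf x = 2 → orderOf y = 2 := fun {x y} h hx => by
    obtain ⟨g, rfl⟩ := isConj_iff.1 h
    rw [orderOf_conj_eq, hx]
  have hbb : b * b = 1 := Invol.mul_self_eq_one hb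
  have hb1 : b ≠ 1 := Invol.ne_one hb
  -- forward
  have fwd : ∀ q : G × G, IsConj z q.1 → IsConj b q.2 → b ∈ zpowers (q.1 * q.2) →
      ((IsConj z q.1 ∧ Commute b q.1) ∧ (IsConj z (q.2 * b) ∧ Commute b (q.2 * b))) ∧
        Odd (orderOf (q.1 * (q.2 * b))) := by
    rintro ⟨u, v⟩ hu hv hmem
    have hu2 := hord hu hz
    have hv2 := hord hv hb
    have hr : Commute b (u * v) := by
      obtain ⟨k, hk⟩ := mem_zpowers_iff.1 hmem
      have : Commute ((u * v) ^ k) (u * v) := (Commute.refl (u * v)).zpow_left k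
      rwa [hk] at this
    have hinv : u * (u * v) * u⁻¹ = (u * v)⁻¹ := by
      rw [mul_inv_rev, inv_eq_of_mul_eq_one_right (Invol.mul_self_eq_one hu2),
        inv_eq_of_mul_eq_one_right (Invol.mul_self_eq_one hv2), ← mul_assoc u u v,
        Invol.mul_self_eq_one hu2, one_mul]
    have hbu : Commute b u := by
      obtain ⟨k, hk⟩ := mem_zpowers_iff.1 hmem
      have e : u * b * u⁻¹ = b := by
        conv_lhs => rw [← hk]
        rw [← conj_zpow, hinv, inv_zpow, hk, inv_eq_of_mul_eq_one_right hbb]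
      exact (mul_inv_eq_iff_eq_mul.1 e).symm
    have hbv : Commute b v := by
      have := (hbu.inv_right).mul_right hr
      rwa [inv_mul_cancel_left] at this
    have hd : 2 ∣ orderOf (u * v) := by
      have := orderOf_dvd_of_mem_zpowers hmem
      rwa [hb] at this
    obtain ⟨k, hk⟩ := hd
    have hbk : (u * v) ^ k = b := by
      have hev : Even (orderOf (u * v)) := ⟨k, by omega⟩
      have h1 := (Invol.half_props hu2 hv2 hev).1
      rw [show orderOf (u * v) / 2 = k by omega] at h1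
      exact Kinf.invol_unique h1 hb (pow_mem (mem_zpowers _) _) hmem
    rcases Nat.even_or_odd k with ⟨j, hj⟩ | hodd
    · exfalso
      refine hzb (hu.trans (IsConj.trans ?_ (hub u hu hbu).symm))
      refine isConj_iff.2 ⟨(u * v) ^ (-(j : ℤ)), ?_⟩
      rw [Invol.zpow_conj_invol (Invol.mul_self_eq_one hu2) hinv, ← hbk, ← zpow_natCast (u * v) k]
      congr 2
      omega
    · have hpow : (u * (v * b)) ^ k = 1 := by
        rw [← mul_assoc, hr.symm.mul_pow, hbk]
        obtain ⟨i, rfl⟩ := hodd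
        rw [pow_add, pow_mul, pow_two, hbb, one_pow, one_mul, pow_one, hbb]
      have hodd' : Odd (orderOf (u * (v * b))) := hodd.of_dvd_nat (orderOf_dvd_of_pow_eq_one hpow)
      have hvb : orderOf (v * b) = 2 := by
        refine orderOf_eq_prime (by rw [pow_two, mul_assoc, ← mul_assoc b, hbv.eq, mul_assoc v b b, hbb,
          mul_one, Invol.mul_self_eq_one hv2]) fun h => ?_
        have e : v = b := by
          rw [mul_eq_one_iff_eq_inv.1 h, inv_eq_of_mul_eq_one_right hbb]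
        rw [h, mul_one, hu2] at hodd'
        exact absurd hodd' (by decide)
      obtain ⟨i, hi⟩ := Invol.exists_pow_conj_of_odd hu2 hvb hodd'
      exact ⟨⟨⟨hu, hbu⟩, hu.trans (isConj_iff.2 ⟨_, hi⟩), hbv.mul_right (Commute.refl b)⟩, hodd'⟩
  -- backward
  have bwd : ∀ p : G × G, ((IsConj z p.1 ∧ Commute b p.1) ∧ (IsConj z p.2 ∧ Commute b p.2)) →
      Odd (orderOf (p.1 * p.2)) →
      IsConj z p.1 ∧ IsConj b (p.2 * b) ∧ b ∈ zpowers (p.1 * (p.2 * b)) := by
    rintro ⟨u, w⟩ ⟨⟨hu, hbu⟩, hw, hbw⟩ hodd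
    refine ⟨hu, hub w hw hbw, ?_⟩
    have hc : Commute (u * w) b := (hbu.mul_right hbw).symm
    obtain ⟨i, hi⟩ := hodd
    refine mem_zpowers_iff.2 ⟨(orderOf (u * w) : ℕ), ?_⟩
    rw [zpow_natCast, ← mul_assoc, hc.mul_pow, pow_orderOf_eq_one, one_mul, hi, pow_add, pow_mul,
      pow_two, hbb, one_pow, one_mul, pow_one]
  refine Nat.card_congr
    { toFun := fun q => ⟨(q.1.1, q.1.2 * b), (fwd q.1 q.2.1 q.2.2.1 q.2.2.2)⟩
      invFun := fun p => ⟨(p.1.1, p.1.2 * b), bwd p.1 p.2.1 p.2.2⟩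
      left_inv := fun q => Subtype.ext (Prod.ext rfl (by simp [mul_assoc, hbb]))
      right_inv := fun p => Subtype.ext (Prod.ext rfl (by simp [mul_assoc, hbb])) }

/-- Pairs in a subgroup whose involutions are the given ones. -/
theorem pairs_in (Y : Subgroup G) (P : G → Prop) (hP : ∀ x, P x ↔ x ∈ Y ∧ orderOf x = 2) :
    Nat.card {p : G × G // (P p.1 ∧ P p.2) ∧ Odd (orderOf (p.1 * p.2))} =
      Nat.card {p : Y × Y // (orderOf p.1 = 2 ∧ orderOf p.2 = 2) ∧ Odd (orderOf (p.1 * p.2))} := by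
  refine Nat.card_congr
    { toFun := fun p => ⟨(⟨p.1.1, ((hP _).1 p.2.1.1).1⟩, ⟨p.1.2, ((hP _).1 p.2.1.2).1⟩), ?_⟩
      invFun := fun p => ⟨((p.1.1 : G), (p.1.2 : G)), ?_⟩
      left_inv := fun p => rfl
      right_inv := fun p => rfl }
  · refine ⟨⟨?_, ?_⟩, ?_⟩
    · rw [← orderOf_coe]; exact ((hP _).1 p.2.1.1).2
    · rw [← orderOf_coe]; exact ((hP _).1 p.2.1.2).2
    · rw [← orderOf_coe]; exact p.2.2
  · obtain ⟨⟨h1, h2⟩, h3⟩ := p.2
    rw [← orderOf_coe] at h1 h2 h3
    exact ⟨⟨(hP _).2 ⟨p.1.1.2, h1⟩, (hP _).2 ⟨p.1.2.2, h2⟩⟩, h3⟩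

namespace Big

variable {z : G} {c : Nat → G} {N : Subgroup G} (B : Big z c N)

include B

theorem z_mem : z ∈ N := by
  rw [B.sys.cod.zeq, B.mem 16 (by norm_num)]
  decide +kernel

theorem class_mem {x : G} (h : IsConj z x) : x ∈ N := by
  obtain ⟨g, rfl⟩ := isConj_iff.1 h
  exact B.normal.conj_mem _ B.z_mem g

/-- Nodes in a common coset. -/
theorem coset_iff {p q : Nat} (hp : p < 768) (hq : q < 768) :
    (c p)⁻¹ * c q ∈ N ↔ psiE p = psiE q ∧ psiS p = psiS q := by
  obtain ⟨r, hr, hre⟩ := B.sys.cod.surj ((c p)⁻¹ * c q)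
    ((show Commute (c p) z from B.sys.cod.mem p hp).inv_left.mul_left (B.sys.cod.mem q hq)).eq
  have e : m 0 p r = q := by
    refine B.sys.cod.inj _ (B.sys.cod.lt p hp r hr) _ hq ?_
    rw [← B.sys.cod.mul p hp r hr, ← hre, mul_inv_cancel_left]
  obtain ⟨h1, h2, -⟩ := psi_mul hp hr
  rw [e] at h1 h2
  rw [hre, B.mem r hr, h1, h2, inH1]
  cases psiE p <;> cases psiS p <;> cases psiE r <;> cases psiS r <;> decide

/-- Every element is the product of an element of `N` and of a node. -/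
theorem split [Finite G] (g : G) : ∃ k ∈ N, ∃ n, n < 768 ∧ g = k * c n := by
  haveI := B.normal
  let f : Fin 4 → G ⧸ N := fun i => QuotientGroup.mk (c (([0, 1, 32, 33] : List Nat).getD i.val 0))
  have hinj : Function.Injective f := by
    intro i j h
    have hlt : ∀ i : Fin 4, ([0, 1, 32, 33] : List Nat).getD i.val 0 < 768 := by decide
    have h1 := (B.coset_iff (hlt i) (hlt j)).1 (QuotientGroup.eq.1 h)
    revert h1
    clear h
    revert i j
    decide +kernel
  have hbij := (Nat.bijective_iff_injective_and_card f).2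
    ⟨hinj, by rw [Nat.card_fin, ← index_eq_card, B.index]⟩
  obtain ⟨i, hi⟩ := hbij.2 (QuotientGroup.mk g)
  set n := ([0, 1, 32, 33] : List Nat).getD i.val 0
  refine ⟨g * (c n)⁻¹, ?_, n, (by decide : ∀ i : Fin 4, ([0, 1, 32, 33] : List Nat).getD i.val 0 < 768) i, by simp⟩
  have := QuotientGroup.eq.1 hi
  rw [show g * (c n)⁻¹ = c n * ((c n)⁻¹ * g) * (c n)⁻¹ by group]
  exact B.normal.conj_mem _ this (c n)

theorem conj_in [Finite G] {x : G} (h : IsConj z x) : ∃ k ∈ N, k * z * k⁻¹ = x := by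
  obtain ⟨g, rfl⟩ := isConj_iff.1 h
  obtain ⟨k, hk, n, hn, rfl⟩ := B.split g
  refine ⟨k, hk, ?_⟩
  rw [show k * c n * z * (k * c n)⁻¹ = k * (c n * z * (c n)⁻¹) * k⁻¹ by group, B.sys.cod.mem n hn,
    mul_inv_cancel_right]

theorem conj_psi [Finite G] {p q : Nat} (hp : p < 768) (hq : q < 768) (h : IsConj (c p) (c q)) :
    psiE p = psiE q ∧ psiS p = psiS q := by
  obtain ⟨g, hg⟩ := isConj_iff.1 h
  obtain ⟨k, hk, n, hn, rfl⟩ := B.split g
  obtain ⟨r, hr, hre⟩ := B.sys.cod.surj (c n * c p * (c n)⁻¹)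
    (((show Commute (c n) z from B.sys.cod.mem n hn).mul_left (B.sys.cod.mem p hp)).mul_left
      (show Commute (c n) z from B.sys.cod.mem n hn).inv_left).eq
  have e : m 0 r n = m 0 n p := by
    refine B.sys.cod.inj _ (B.sys.cod.lt r hr n hn) _ (B.sys.cod.lt n hn p hp) ?_
    rw [← B.sys.cod.mul r hr n hn, ← B.sys.cod.mul n hn p hp, ← hre, inv_mul_cancel_right]
  have h1 := (psi_mul hr hn)
  have h2 := (psi_mul hn hp)
  rw [e] at h1
  have hrp : psiE r = psiE p ∧ psiS r = psiS p := by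
    obtain ⟨a1, a2, -⟩ := h1
    obtain ⟨b1, b2, -⟩ := h2
    rw [b1] at a1
    rw [b2] at a2
    revert a1 a2
    cases psiE r <;> cases psiS r <;> cases psiE n <;> cases psiS n <;> cases psiE p <;> cases psiS p <;>
      decide
  have hmem : (c r)⁻¹ * c q ∈ N := by
    rw [← hg, show k * c n * c p * (k * c n)⁻¹ = k * (c n * c p * (c n)⁻¹) * k⁻¹ by group, hre,
      show (c r)⁻¹ * (k * c r * k⁻¹) = ((c r)⁻¹ * k * ((c r)⁻¹)⁻¹) * k⁻¹ by group]
    exact mul_mem (B.normal.conj_mem _ hk _) (inv_mem hk)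
  have := (B.coset_iff hr hq).1 hmem
  exact ⟨hrp.1.symm.trans this.1, hrp.2.symm.trans this.2⟩

theorem reps [Finite G] {t : G} (ht : orderOf t = 2) :
    IsConj t (c 16) ∨ IsConj t (c 224) ∨ IsConj t (c 1) ∨ IsConj t (c 32) ∨ IsConj t (c 33) := by
  obtain ⟨g, hg⟩ := exists_conj_mem (V := B.sys.syl) (n := 8) (by rw [B.sys.card_syl]; norm_num)
    B.sys.odd_index ht
  obtain ⟨x, hx, -, hxe⟩ := hg
  have hconj : IsConj t (c x) := isConj_iff.2 ⟨g, hxe.symm⟩
  by_cases h16 : x = 16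
  · exact Or.inl (h16 ▸ hconj)
  have hI := B.sys.cod.mem_invs hx (by rw [hxe, orderOf_conj_eq, ht]) fun e => h16 (B.sys.cod.eq_z hx e)
  have hcl := List.all_eq_true.1 invs_ok x hI
  simp only [Bool.or_eq_true, List.contains_iff_mem] at hcl
  have hto : ∀ {r : Nat} {l : List Nat}, classB 0 r l = true → r < 768 → x ∈ l → IsConj t (c r) :=
    fun {r l} hl hr hxl => by
      obtain ⟨-, f, -, hf⟩ := B.sys.cod.conj_of_class hl hr hxl
      exact hconj.trans (isConj_iff.2 ⟨f, hf⟩).symm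
  rcases hcl with (((h | h) | h) | h) | h
  · left
    rw [← B.sys.cod.zeq]
    simp only [List.mem_cons, List.not_mem_nil, or_false] at h
    rcases h with rfl | rfl
    exacts [hconj.trans B.sys.conjA.symm, hconj.trans B.sys.conj31.symm]
  · exact Or.inr (Or.inl (hto (List.all_eq_true.1 classB_ok 0 (by simp)) (by norm_num) h))
  · exact Or.inr (Or.inr (Or.inr (Or.inr (hto classC_ok (by norm_num) h))))
  · exact Or.inr (Or.inr (Or.inr (Or.inl (hto classT_ok (by norm_num) h))))
  · exact Or.inr (Or.inr (Or.inl (hto classE_ok (by norm_num) h)))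

/-- Only two terms of the order formula survive. -/
theorem order_eq [Finite G] (b : Nat) (hb : b < 768) (hb2 : orderOf (c b) = 2) (hzb : ¬ IsConj z (c b))
    (R : Finset Nat) (hR : ∀ r ∈ R, r < 768 ∧ orderOf (c r) = 2) (h16 : 16 ∈ R) (hbR : b ∈ R)
    (hcover : ∀ t : G, orderOf t = 2 → ∃ r ∈ R, IsConj t (c r))
    (hdist : ∀ r ∈ R, ∀ r' ∈ R, IsConj (c r) (c r') → r = r')
    (hout : ∀ r ∈ R, r ≠ 16 → r ≠ b → ¬ (psiE r = psiE b ∧ psiS r = psiS b) ∧ inH1 r = false) :
    Nat.card G = Nat.card (centralizer ({c b} : Set G)) *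
        Nat.card {q : G × G // IsConj z q.1 ∧ IsConj (c b) q.2 ∧ z ∈ zpowers (q.1 * q.2)} +
      768 * Nat.card {q : G × G // IsConj z q.1 ∧ IsConj (c b) q.2 ∧ c b ∈ zpowers (q.1 * q.2)} := by
  classical
  have hbz : b ≠ 16 := fun h => hzb (by rw [h, ← B.sys.cod.zeq])
  have hf := Kinf.order_formula_general z (c b) B.sys.hz hb2 hzb (R.image c)
    (by simp only [Finset.mem_image]; rintro w ⟨r, hr, rfl⟩; exact (hR r hr).2)
    (by
      intro t ht
      obtain ⟨r, hr, hrt⟩ := hcover t ht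
      refine ⟨c r, Finset.mem_image_of_mem c hr, hrt, ?_⟩
      simp only [Finset.mem_image]
      rintro w ⟨r', hr', rfl⟩ hw
      rw [hdist r' hr' r hr (hw.symm.trans hrt)])
  rw [Finset.sum_image (fun r hr r' hr' e => B.sys.cod.inj r (hR r hr).1 r' (hR r' hr').1 e)] at hf
  rw [Finset.sum_eq_add (a := 16) (b := b) hbz.symm (fun r hr hne => ?_) (fun h => absurd h16 h)
    (fun h => absurd hbR h)] at hf
  · rw [B.sys.cod.card_cent, ← B.sys.cod.zeq, B.sys.cod.card_cent] at hf
    set Cb := Nat.card (centralizer ({c b} : Set G))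
    have hCb : (Cb : ℚ) ≠ 0 := by exact_mod_cast Nat.card_pos.ne'
    have h768 : ((768 : ℕ) : ℚ) ≠ 0 := by norm_num
    field_simp at hf
    have : (Nat.card G : ℚ) = ((Cb * Nat.card {q : G × G // IsConj z q.1 ∧ IsConj (c b) q.2 ∧ z ∈ zpowers (q.1 * q.2)} +
        768 * Nat.card {q : G × G // IsConj z q.1 ∧ IsConj (c b) q.2 ∧ c b ∈ zpowers (q.1 * q.2)} : ℕ) : ℚ) := by
      push_cast at hf ⊢
      linarith
    exact_mod_cast this
  -- the other terms vanish
  · obtain ⟨hcos, hr1⟩ := hout r hr hne.1 hne.2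
    have : IsEmpty {q : G × G // IsConj z q.1 ∧ IsConj (c b) q.2 ∧ c r ∈ zpowers (q.1 * q.2)} := by
      refine ⟨?_⟩
      rintro ⟨⟨u, v⟩, hu, hv, hmem⟩
      haveI := B.normal
      obtain ⟨g, hgv⟩ := isConj_iff.1 hv
      obtain ⟨k, hk, n, hn, rfl⟩ := B.split g
      obtain ⟨r', hr', hre⟩ := B.sys.cod.surj (c n * c b * (c n)⁻¹)
        (((show Commute (c n) z from B.sys.cod.mem n hn).mul_left (B.sys.cod.mem b hb)).mul_left
          (show Commute (c n) z from B.sys.cod.mem n hn).inv_left).eq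
      have hps : psiE r' = psiE b ∧ psiS r' = psiS b :=
        (B.conj_psi hb hr' (isConj_iff.2 ⟨c n, hre⟩)).imp Eq.symm Eq.symm
      have hv' : (QuotientGroup.mk v : G ⧸ N) = QuotientGroup.mk (c b) := by
        rw [← show k * c n * c b * (k * c n)⁻¹ = v from hgv, show k * c n * c b * (k * c n)⁻¹ = k * (c n * c b * (c n)⁻¹) * k⁻¹ by group, hre,
          QuotientGroup.mk_mul, QuotientGroup.mk_mul, (QuotientGroup.eq_one_iff k).2 hk,
          (QuotientGroup.eq_one_iff _).2 (inv_mem hk), one_mul, mul_one, QuotientGroup.eq]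
        exact (B.coset_iff hr' hb).2 hps
      obtain ⟨i, hi⟩ := mem_zpowers_iff.1 hmem
      have hi' : (QuotientGroup.mk (c r) : G ⧸ N) = (QuotientGroup.mk (c b) : G ⧸ N) ^ i := by
        rw [← hi, QuotientGroup.mk_zpow, QuotientGroup.mk_mul, (QuotientGroup.eq_one_iff u).2 (B.class_mem hu),
          one_mul, hv']
      have hsq : (QuotientGroup.mk (c b) : G ⧸ N) ^ (2 : ℤ) = 1 := by
        rw [zpow_two, ← QuotientGroup.mk_mul, Invol.mul_self_eq_one hb2, QuotientGroup.mk_one]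
      obtain ⟨j, rfl | rfl⟩ := Int.even_or_odd' i
      · rw [zpow_mul, hsq, one_zpow, QuotientGroup.eq_one_iff, B.mem r (hR r hr).1, hr1] at hi'
        exact absurd hi' (by simp)
      · rw [zpow_add, zpow_mul, hsq, one_zpow, one_mul, zpow_one, QuotientGroup.eq] at hi'
        exact hcos ((B.coset_iff (hR r hr).1 hb).1 hi')
    rw [Nat.card_of_isEmpty]
    simp

theorem card_eq [Finite G] : Nat.card G = 4 * Nat.card N := by
  rw [← N.index_mul_card, B.index]

end Big

end CfsgLib.ChzL34
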