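import Cfsg.Agent.ChzL34.SubChecks

/-! Kernel checks for the case in which `224` is fused. -/

set_option autoImplicit false
set_option maxRecDepth 100000

namespace CfsgLib.ChzL34

theorem zPairs_nodup : zPairs.Nodup :=
  List.Nodup.filter _ ((show zNodes.Nodup by decide +kernel).product (show clC.Nodup by decide +kernel))

theorem coset33_ok : ((clE.any fun x => Nat.beq (m 0 x 33) (m 0 33 x)) &&
    (clT.any fun x => Nat.beq (m 0 x 33) (m 0 33 x)) &&
    clE.all (fun x => psiE x && !(psiS x)) && clT.all (fun x => !(psiE x) && psiS x)) = true := by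
  decide +kernel

end CfsgLib.ChzL34
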