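import Cfsg.Agent.ChzL34.Local
import Cfsg.Agent.ChzL34.FChecks

/-! The order of the group when `224` is fused to the central involution. -/

set_option autoImplicit false
set_option linter.unusedSectionVars false
set_option linter.style.haveILetI false
set_option maxRecDepth 100000

namespace CfsgLib.ChzL34

open Subgroup
open CfsgLib.Invol (orderOf_conj_eq)

variable {G : Type*} [Group G] [Finite G] {z : G} {c : Nat → G} {N : Subgroup G}

theorem Big.pow_node (B : Big z c N) {x : Nat} (hx : x < 768) :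
    ∀ k, pwN x k < 768 ∧ c x ^ k = c (pwN x k) := by
  intro k
  induction k with
  | zero => exact ⟨by norm_num [pwN], by rw [pow_zero]; exact B.sys.cod.one.symm⟩
  | succ k ih =>
    exact ⟨B.sys.cod.lt _ ih.1 x hx, by rw [pow_succ, ih.2, B.sys.cod.mul _ ih.1 x hx]; rfl⟩

theorem Big.zpairs (B : Big z c N) (hF : IsConj z (c 224)) :
    Nat.card {q : G × G // IsConj z q.1 ∧ IsConj (c 33) q.2 ∧ z ∈ zpowers (q.1 * q.2)} = 384 := by
  classical
  have hz := B.sys.hz
  have h33 : (33 : Nat) < 768 := by norm_num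
  have h33o : orderOf (c 33) = 2 := B.sys.ord_node h33 (by decide +kernel)
  have hzl : ∀ u ∈ zNodes, u < 768 ∧ IsConj z (c u) := by
    intro u hu
    simp only [zNodes, List.mem_append] at hu
    rcases hu with h | h
    · simp only [List.mem_cons, List.not_mem_nil, or_false] at h
      rcases h with rfl | rfl | rfl
      exacts [⟨by norm_num, by rw [← B.sys.cod.zeq]⟩, ⟨by norm_num, B.sys.conjA⟩, ⟨by norm_num, B.sys.conj31⟩]
    · obtain ⟨h1, f, -, hf⟩ := B.sys.cod.conj_of_class (List.all_eq_true.1 classB_ok 0 (by simp)) (by norm_num) h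
      exact ⟨h1, hF.trans (isConj_iff.2 ⟨f, hf⟩)⟩
  have hcl : ∀ v ∈ clC, v < 768 ∧ IsConj (c 33) (c v) := by
    intro v hv
    obtain ⟨h1, f, -, hf⟩ := B.sys.cod.conj_of_class classC_ok (by norm_num) hv
    exact ⟨h1, isConj_iff.2 ⟨f, hf⟩⟩
  have hzp := zpairs_ok
  rw [Bool.and_eq_true] at hzp
  have hmem : ∀ {a b}, (a, b) ∈ zPairs ↔
      a ∈ zNodes ∧ b ∈ clC ∧ ∃ k < 24, pwN (m 0 a b) k = 16 := by
    intro a b
    simp [zPairs, List.mem_filter, and_assoc]
  have key : ∀ q : G × G, (IsConj z q.1 ∧ IsConj (c 33) q.2 ∧ z ∈ zpowers (q.1 * q.2)) ↔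
      ∃ p ∈ zPairs, (c p.1, c p.2) = q := by
    rintro ⟨u, v⟩
    constructor
    · rintro ⟨hu, hv, hm⟩
      have hu2 : orderOf u = 2 := by obtain ⟨g, rfl⟩ := isConj_iff.1 hu; rw [orderOf_conj_eq, hz]
      have hv2 : orderOf v = 2 := by obtain ⟨g, rfl⟩ := isConj_iff.1 hv; rw [orderOf_conj_eq, h33o]
      obtain ⟨k, hk⟩ := mem_zpowers_iff.1 hm
      have hinv : u * (u * v) * u⁻¹ = (u * v)⁻¹ := by
        rw [mul_inv_rev, inv_eq_of_mul_eq_one_right (Invol.mul_self_eq_one hu2),
          inv_eq_of_mul_eq_one_right (Invol.mul_self_eq_one hv2), ← mul_assoc u u v,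
          Invol.mul_self_eq_one hu2, one_mul]
      have huz : Commute u z := by
        have e : u * z * u⁻¹ = z := by
          conv_lhs => rw [← hk]
          rw [← conj_zpow, hinv, inv_zpow, hk, inv_eq_of_mul_eq_one_right (Invol.mul_self_eq_one hz)]
        exact mul_inv_eq_iff_eq_mul.1 e
      have hvz : Commute v z := by
        have h := (huz.inv_left).mul_left (show Commute (u * v) z by
          rw [← hk]; exact (Commute.refl _).zpow_right k)
        rwa [inv_mul_cancel_left] at h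
      obtain ⟨a, ha, rfl⟩ := B.sys.cod.surj u huz.eq
      obtain ⟨b, hb, rfl⟩ := B.sys.cod.surj v hvz.eq
      have hb16 : b ≠ 16 := fun e => B.not_conj33 (hv.trans (by rw [e, ← B.sys.cod.zeq])).symm
      have hbI := B.sys.invs_cases hb (by decide +kernel) h33 hv hb16
      obtain ⟨pe, ps⟩ := B.conj_psi h33 hb hv
      have hbC : b ∈ clC := by
        have h := List.all_eq_true.1 psi_class_ok b hbI
        rw [← pe, ← ps, show psiE 33 = true by decide +kernel, show psiS 33 = true by decide +kernel] at h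
        exact List.contains_iff_mem.1 h
      have haz : a ∈ zNodes := by
        rcases B.sys.zclass ha hu with h | h | h | h
        · simp [zNodes, h]
        · simp [zNodes, h]
        · simp [zNodes, h]
        · exact List.mem_append_right _ h.1
      refine ⟨(a, b), hmem.2 ⟨haz, hbC, ?_⟩, rfl⟩
      have hab := B.sys.cod.lt a ha b hb
      rw [B.sys.cod.mul a ha b hb] at hk
      have h24 : c (m 0 a b) ^ 24 = 1 := by
        rw [(B.pow_node hab 24).2,
          Nat.eq_of_beq_eq_true (List.all_eq_true.1 (List.all_eq_true.1 hzp.2 a haz) b hbC), B.sys.cod.one]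
      refine ⟨(k % 24).toNat, by omega, B.sys.cod.inj _ (B.pow_node hab _).1 16 (by norm_num) ?_⟩
      rw [← (B.pow_node hab _).2, ← B.sys.cod.zeq, ← hk, ← zpow_natCast, Int.toNat_of_nonneg (by omega)]
      conv_rhs => rw [← Int.mul_ediv_add_emod k 24, zpow_add, zpow_mul]
      rw [show (c (m 0 a b)) ^ (24 : ℤ) = 1 by exact_mod_cast h24, one_zpow, one_mul]
    · rintro ⟨⟨a, b⟩, hab, e⟩
      obtain ⟨rfl, rfl⟩ : c a = u ∧ c b = v := ⟨congrArg Prod.fst e, congrArg Prod.snd e⟩
      obtain ⟨ha, hb, k, -, hk⟩ := hmem.1 hab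
      obtain ⟨ha', haz⟩ := hzl a ha
      obtain ⟨hb', hbz⟩ := hcl b hb
      refine ⟨haz, hbz, ?_⟩
      rw [B.sys.cod.mul a ha' b hb', mem_zpowers_iff]
      exact ⟨(k : ℤ), by rw [zpow_natCast, (B.pow_node (B.sys.cod.lt a ha' b hb') k).2, hk, ← B.sys.cod.zeq]⟩
  rw [Nat.card_congr (Equiv.subtypeEquivRight key)]
  have hlt : ∀ p ∈ zPairs, p.1 < 768 ∧ p.2 < 768 := by
    rintro ⟨a, b⟩ hp
    obtain ⟨ha, hb, -⟩ := hmem.1 hp
    exact ⟨(hzl a ha).1, (hcl b hb).1⟩
  rw [← Nat.eq_of_beq_eq_true hzp.1]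
  let e : {p : Nat × Nat // p ∈ zPairs} → {q : G × G // ∃ p ∈ zPairs, (c p.1, c p.2) = q} :=
    fun p => ⟨(c p.1.1, c p.1.2), p.1, p.2, rfl⟩
  have he : Function.Bijective e := by
    refine ⟨?_, fun ⟨q, p, hp, hq⟩ => ⟨⟨p, hp⟩, Subtype.ext hq⟩⟩
    intro p p' h
    have h' := Subtype.mk.inj h
    exact Subtype.ext (Prod.ext (B.sys.cod.inj _ (hlt _ p.2).1 _ (hlt _ p'.2).1 (congrArg Prod.fst h' :))
      (B.sys.cod.inj _ (hlt _ p.2).2 _ (hlt _ p'.2).2 (congrArg Prod.snd h' :)))
  rw [← Nat.card_congr (Equiv.ofBijective e he), ← List.toFinset_card_of_nodup zPairs_nodup,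
    ← Nat.card_eq_finsetCard]
  exact Nat.card_congr (Equiv.subtypeEquivRight fun p => (List.mem_toFinset).symm)

/-- The possible orders of the normal subgroup. -/
theorem Big.card_fused (B : Big z c N) (hF : IsConj z (c 224)) :
    Nat.card N = 2112 ∨ Nat.card N = 5184 ∨ Nat.card N = 60480 := by
  classical
  have h33 : (33 : Nat) < 768 := by norm_num
  have h33o : orderOf (c 33) = 2 := B.sys.ord_node h33 (by decide +kernel)
  set V := fourSub B.sys.cod
  set Y := centralizer ({c 33} : Set G) ⊓ N with hY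
  have hVc : ∀ w ∈ V, w * c 33 = c 33 * w := by
    rintro w ⟨n, hn, hn', rfl⟩
    have h := List.all_eq_true.1 four_cent_ok n (List.mem_range.2 hn)
    simp only at hn'
    rw [hn'] at h
    simp only [beq_iff_eq, Bool.and_eq_true] at h
    exact (B.sys.cod.beq_mul hn h33).1 h.2
  have hVY : V ≤ Y := fun w hw => mem_inf.2 ⟨mem_centralizer_singleton_iff.2 (hVc w hw), B.four_le hw⟩
  have hCY : ∀ w ∈ V.subgroupOf Y, w ≠ 1 → centralizer ({w} : Set Y) = V.subgroupOf Y := by
    intro w hw hw1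
    have hle : V.subgroupOf Y ≤ centralizer ({w} : Set Y) := by
      intro v hv
      rw [mem_centralizer_singleton_iff]
      refine Subtype.ext ?_
      push_cast
      have hsq := B.four_sq _ (mul_mem (mem_subgroupOf.1 hv) (mem_subgroupOf.1 hw))
      calc (v : G) * w = (v : G) * ((v : G) * w * ((v : G) * w)) * w := by rw [hsq, mul_one]
        _ = ((v : G) * v) * ((w : G) * v) * ((w : G) * w) := by simp only [mul_assoc]
        _ = _ := by rw [B.four_sq _ (mem_subgroupOf.1 hv), B.four_sq _ (mem_subgroupOf.1 hw), one_mul, mul_one]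
    refine (eq_of_le_of_card_ge hle ?_).symm
    rw [Nat.card_congr (subgroupOfEquivOfLe hVY).toEquiv, card_fourSub]
    have hp := B.card_pair (Or.inl rfl) (B.four_class (mem_subgroupOf.1 hw) fun h => hw1 (Subtype.ext h))
      (hVc _ (mem_subgroupOf.1 hw))
    rw [Nat.eq_of_beq_eq_true c_cen_count] at hp
    refine le_of_eq ?_
    rw [← hp]
    refine Nat.card_congr
      { toFun := fun v => ⟨((v : Y) : G), (mem_inf.1 v.1.2).2,
          congrArg Subtype.val (mem_centralizer_singleton_iff.1 v.2),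
          mem_centralizer_singleton_iff.1 (mem_inf.1 v.1.2).1⟩
        invFun := fun v => ⟨⟨v.1, mem_inf.2 ⟨mem_centralizer_singleton_iff.2 v.2.2.2, v.2.1⟩⟩,
          mem_centralizer_singleton_iff.2 (Subtype.ext v.2.2.1)⟩
        left_inv := fun _ => rfl
        right_inv := fun _ => rfl }
  have hV4 : Nat.card (V.subgroupOf Y) = 4 := by
    rw [Nat.card_congr (subgroupOfEquivOfLe hVY).toEquiv, card_fourSub]
  have hVsq : ∀ w ∈ V.subgroupOf Y, w * w = 1 := fun w hw => Subtype.ext (B.four_sq _ (mem_subgroupOf.1 hw))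
  obtain ⟨hodd, hcases⟩ := four_cases hV4 hVsq hCY
  -- the involutions of `Y`
  have hinv : ∀ x, (IsConj z x ∧ Commute (c 33) x) ↔ x ∈ Y ∧ orderOf x = 2 := by
    intro x
    constructor
    · rintro ⟨hx, hxc⟩
      exact ⟨mem_inf.2 ⟨mem_centralizer_singleton_iff.2 hxc.symm.eq, B.class_mem hx⟩,
        by obtain ⟨g, rfl⟩ := isConj_iff.1 hx; rw [orderOf_conj_eq, B.sys.hz]⟩
    · rintro ⟨hx, hx2⟩
      refine ⟨?_, (mem_centralizer_singleton_iff.1 (mem_inf.1 hx).1).symm⟩
      obtain ⟨g, hg⟩ := exists_conj_mem (n := 2) (by rw [hV4]; norm_num) hodd (t := (⟨x, hx⟩ : Y))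
        (by rw [← orderOf_coe]; exact hx2)
      refine (B.four_class (mem_subgroupOf.1 hg) fun h => Invol.ne_one hx2 ?_).trans
        (isConj_iff.2 ⟨(g : G)⁻¹, by push_cast; group⟩)
      push_cast at h
      simpa using h
  have hzb := B.not_conj33
  have hub : ∀ u, IsConj z u → Commute (c 33) u → IsConj (c 33) (u * c 33) := by
    intro u hu huc
    obtain ⟨hY', hu2⟩ := (hinv u).1 ⟨hu, huc⟩
    obtain ⟨g, hg⟩ := exists_conj_mem (n := 2) (by rw [hV4]; norm_num) hodd (t := (⟨u, hY'⟩ : Y))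
      (by rw [← orderOf_coe]; exact hu2)
    have hgV : (g : G) * u * (g : G)⁻¹ ∈ V := by simpa using mem_subgroupOf.1 hg
    have hne : (g : G) * u * (g : G)⁻¹ ≠ 1 := fun h => Invol.ne_one hu2 (by simpa using h)
    have hgc : (g : G) * c 33 * (g : G)⁻¹ = c 33 :=
      mul_inv_eq_iff_eq_mul.2 (mem_centralizer_singleton_iff.1 (mem_inf.1 g.2).1)
    have hw : IsConj (c 33) ((g : G) * u * (g : G)⁻¹ * c 33) := by
      have ht := times_ok
      simp only [Bool.and_eq_true, List.all_cons, List.all_nil, and_true, List.contains_iff_mem] at ht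
      obtain ⟨⟨⟨⟨-, h15⟩, -, h31⟩, -⟩, h16⟩ := ht
      have hmk : ∀ n, n < 768 → m 0 n 33 ∈ clC → IsConj (c 33) (c n * c 33) := fun n hn hmem => by
        rw [B.sys.cod.mul n hn 33 h33]
        obtain ⟨-, f, -, hf⟩ := B.sys.cod.conj_of_class classC_ok (by norm_num) hmem
        exact isConj_iff.2 ⟨f, hf⟩
      rcases (mem_fourSub B.sys.cod).1 hgV with e | e | e | e
      · exact absurd e hne
      · rw [e, B.sys.cod.zeq]; exact hmk 16 (by norm_num) h16
      · rw [e]; exact hmk 15 (by norm_num) h15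
      · rw [e]; exact hmk 31 (by norm_num) h31
    refine hw.trans (isConj_iff.2 ⟨(g : G)⁻¹, ?_⟩)
    conv_lhs => arg 1; arg 2; arg 2; rw [← hgc]
    group
  have hR : ∀ r ∈ ({16, 1, 32, 33} : Finset Nat), r < 768 ∧ orderOf (c r) = 2 := by
    intro r hr
    simp only [Finset.mem_insert, Finset.mem_singleton] at hr
    rcases hr with rfl | rfl | rfl | rfl <;>
      exact ⟨by norm_num, B.sys.ord_node (by norm_num) (by decide +kernel)⟩
  have hord := B.order_eq 33 h33 h33o hzb {16, 1, 32, 33} hR (by simp) (by simp) (fun t ht => by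
    rcases B.reps ht with h | h | h | h | h
    · exact ⟨16, by simp, h⟩
    · exact ⟨16, by simp, h.trans (by rw [← B.sys.cod.zeq]; exact hF.symm)⟩
    · exact ⟨1, by simp, h⟩
    · exact ⟨32, by simp, h⟩
    · exact ⟨33, by simp, h⟩) (fun r hr r' hr' h => by
    obtain ⟨h1, h2⟩ := B.conj_psi (hR r hr).1 (hR r' hr').1 h
    revert h1 h2
    clear h
    revert r r'
    decide +kernel) (by
    clear hR
    decide +kernel)
  rw [B.zpairs hF, pairs_count B.sys.hz h33o hzb hub,
    pairs_in Y _ hinv, card_odd_pairs hV4 hVsq hCY hodd] at hord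
  -- the centralizer meets every coset
  have hCc : Nat.card (centralizer ({c 33} : Set G)) = 4 * Nat.card Y := by
    haveI := B.normal
    set f := (QuotientGroup.mk' N).comp (centralizer ({c 33} : Set G)).subtype
    have hk : f.ker = N.subgroupOf (centralizer ({c 33} : Set G)) := by
      ext v
      simp [f, MonoidHom.mem_ker, mem_subgroupOf, QuotientGroup.eq_one_iff]
    have hsurj : Function.Surjective f := by
      have hck := coset33_ok
      simp only [Bool.and_eq_true, List.any_eq_true] at hck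
      obtain ⟨⟨⟨⟨x, hxE, hxc⟩, ⟨y, hyT, hyc⟩⟩, hE'⟩, hT'⟩ := hck
      have hx : x < 768 := (B.sys.cod.conj_of_class classE_ok (by norm_num) hxE).1
      have hy : y < 768 := (B.sys.cod.conj_of_class classT_ok (by norm_num) hyT).1
      have hpx := List.all_eq_true.1 hE' x hxE
      have hpy := List.all_eq_true.1 hT' y hyT
      simp only [Bool.and_eq_true, Bool.not_eq_true'] at hpx hpy
      intro q
      obtain ⟨g, rfl⟩ := QuotientGroup.mk_surjective q
      obtain ⟨k, hk, n, hn, rfl⟩ := B.split g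
      have hpick : ∀ p, p < 768 → c p * c 33 = c 33 * c p → psiE p = psiE n → psiS p = psiS n →
          ∃ a, f a = QuotientGroup.mk (k * c n) := fun p hp hpc e1 e2 =>
        ⟨⟨c p, mem_centralizer_singleton_iff.2 hpc⟩, by
          show (QuotientGroup.mk (c p) : G ⧸ N) = _
          rw [QuotientGroup.mk_mul, (QuotientGroup.eq_one_iff k).2 hk, one_mul, QuotientGroup.eq]
          exact (B.coset_iff hp hn).2 ⟨e1, e2⟩⟩
      cases he : psiE n <;> cases hs : psiS n
      · exact hpick 0 (by norm_num) (by rw [B.sys.cod.one, one_mul, mul_one])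
          (by rw [he]; decide +kernel) (by rw [hs]; decide +kernel)
      · exact hpick y hy ((B.sys.cod.beq_mul hy h33).1 hyc) (by rw [he]; exact hpy.1) (by rw [hs]; exact hpy.2)
      · exact hpick x hx ((B.sys.cod.beq_mul hx h33).1 hxc) (by rw [he]; exact hpx.1) (by rw [hs]; exact hpx.2)
      · exact hpick 33 h33 rfl (by rw [he]; decide +kernel) (by rw [hs]; decide +kernel)
    have h1 := (N.subgroupOf (centralizer ({c 33} : Set G))).index_mul_card
    rw [← hk, index_ker, MonoidHom.range_eq_top.2 hsurj, card_top, ← index_eq_card, B.index, hk] at h1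
    rw [← h1]
    congr 1
    exact Nat.card_congr
      { toFun := fun v => ⟨(v.1 : G), mem_inf.2 ⟨v.1.2, mem_subgroupOf.1 v.2⟩⟩
        invFun := fun v => ⟨⟨v.1, (mem_inf.1 v.2).1⟩, mem_subgroupOf.2 (mem_inf.1 v.2).2⟩
        left_inv := fun _ => rfl
        right_inv := fun _ => rfl }
  rw [hCc, B.card_eq] at hord
  rcases hcases with ⟨h1, h2⟩ | ⟨h1, h2⟩ | ⟨h1, -, h2⟩ <;> rw [h1, h2] at hord
  · left; omega
  · right; left; omega
  · right; right; omega

end CfsgLib.ChzL34
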