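import Cfsg.Agent.ChzL34.Local
import Cfsg.Agent.Invol.ThompsonTransfer

/-! The order of the group when exactly three conjugates of `z` commute pairwise. -/

set_option autoImplicit false
set_option linter.unusedSectionVars false
set_option linter.style.haveILetI false
set_option maxRecDepth 100000

namespace CfsgLib.ChzL34

open Subgroup
open CfsgLib.Invol (orderOf_conj_eq)

variable {G : Type*} [Group G] [Finite G] {z : G} {c : Nat → G} {N : Subgroup G}

/-- The elementary abelian subgroup of order 16 containing `224`. -/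
noncomputable def subA1 (K : Cod z 0 c) : Subgroup G :=
  nodeSub K (fun n => nA1.contains n) (by decide +kernel) (by
    intro p _ q _ hp hq
    have h := List.all_eq_true.1 sub_ok nA1 (by simp)
    simp only [Bool.and_eq_true] at h
    have h' := List.all_eq_true.1 h.2 p (List.contains_iff_mem.1 hp)
    simp only [Bool.and_eq_true] at h'
    exact List.all_eq_true.1 h'.1.1.2 q (List.contains_iff_mem.1 hq))

theorem mem_subA1 (K : Cod z 0 c) {x : G} : x ∈ subA1 K ↔ ∃ n ∈ nA1, n < 768 ∧ c n = x :=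
  ⟨fun ⟨n, h1, h2, h3⟩ => ⟨n, List.contains_iff_mem.1 h2, h1, h3⟩,
    fun ⟨n, h1, h2, h3⟩ => ⟨n, h2, List.contains_iff_mem.2 h1, h3⟩⟩

theorem card_subA1 (K : Cod z 0 c) : Nat.card (subA1 K) = 16 := by
  rw [subA1, card_nodeSub]
  decide +kernel

theorem subA1_sq (K : Cod z 0 c) : ∀ a ∈ subA1 K, a * a = 1 := by
  rintro a ha
  obtain ⟨n, hn, hn', rfl⟩ := (mem_subA1 K).1 ha
  have h := List.all_eq_true.1 sub_ok nA1 (by simp)
  simp only [Bool.and_eq_true] at h
  have h' := List.all_eq_true.1 h.2 n hn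
  simp only [Bool.and_eq_true] at h'
  rw [K.mul n hn' n hn', Nat.eq_of_beq_eq_true h'.1.1.1.2, K.one]

theorem mul_comm_of_sq {H : Subgroup G} (h : ∀ a ∈ H, a * a = 1) {a b : G} (ha : a ∈ H) (hb : b ∈ H) :
    a * b = b * a := by
  calc a * b = a * (a * b * (a * b)) * b := by rw [h _ (mul_mem ha hb), mul_one]
    _ = (a * a) * (b * a) * (b * b) := by simp only [mul_assoc]
    _ = b * a := by rw [h a ha, h b hb, one_mul, mul_one]

namespace Big

variable (B : Big z c N)

include B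

theorem four_le_A1 : fourSub B.sys.cod ≤ subA1 B.sys.cod := by
  rintro x ⟨n, hn, hn', rfl⟩
  refine ⟨n, hn, ?_, rfl⟩
  simp only [List.contains_iff_mem, List.mem_cons, List.not_mem_nil, or_false] at hn'
  rcases hn' with rfl | rfl | rfl | rfl <;> decide +kernel

theorem a1_le : subA1 B.sys.cod ≤ centralizer ({c 224} : Set G) ⊓ N := by
  intro x hx
  obtain ⟨n, hn, hn', rfl⟩ := (mem_subA1 B.sys.cod).1 hx
  have h := List.all_eq_true.1 b_cent_ok n (List.mem_range.2 hn')
  rw [List.contains_iff_mem.2 hn, beq_iff_eq, Bool.and_eq_true] at h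
  exact mem_inf.2 ⟨mem_centralizer_singleton_iff.2 ((B.sys.cod.beq_mul hn' (by norm_num)).1 h.2),
    (B.mem n hn').2 h.1⟩

/-- Decomposition of an element of the elementary abelian subgroup of order 16. -/
theorem a1_cases {a : G} (ha : a ∈ subA1 B.sys.cod) :
    ∃ v ∈ fourSub B.sys.cod, a = v ∨ a = v * c 224 ∨ a = v * c 512 ∨ a = v * c 736 := by
  obtain ⟨n, hn, hn', rfl⟩ := (mem_subA1 B.sys.cod).1 ha
  obtain ⟨v, hv, h⟩ := List.any_eq_true.1 (List.all_eq_true.1 a1_cosets n hn)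
  obtain ⟨x, hx, hx'⟩ := List.any_eq_true.1 h
  have hv' : v < 768 := by simp at hv; omega
  have hxlt : x < 768 := by simp at hx; omega
  refine ⟨c v, ⟨v, hv', List.contains_iff_mem.2 hv, rfl⟩, ?_⟩
  have e : c n = c v * c x := by rw [B.sys.cod.mul v hv' x hxlt, Nat.eq_of_beq_eq_true hx']
  simp only [List.mem_cons, List.not_mem_nil, or_false] at hx
  rcases hx with rfl | rfl | rfl | rfl
  · left; rw [e, B.sys.cod.one, mul_one]
  · exact Or.inr (Or.inl e)
  · exact Or.inr (Or.inr (Or.inl e))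
  · exact Or.inr (Or.inr (Or.inr e))

theorem not_mem_four {n : Nat} (hn : n = 224 ∨ n = 512 ∨ n = 736) : c n ∉ fourSub B.sys.cod := by
  rintro ⟨k, hk, hk', e⟩
  have := B.sys.cod.inj k hk n (by omega) e
  simp only [List.contains_iff_mem, List.mem_cons, List.not_mem_nil, or_false] at hk'
  omega

theorem node736 : c 224 * c 512 = c 736 := by
  have h := a1_facts
  simp only [Bool.and_eq_true] at h
  rw [B.sys.cod.mul 224 (by norm_num) 512 (by norm_num), Nat.eq_of_beq_eq_true h.1.1.1.1.1.1.1.1.1]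

theorem clB_conj {v : Nat} (hv : v ∈ clB) : IsConj (c 224) (c v) := by
  obtain ⟨-, f, -, hf⟩ := B.sys.cod.conj_of_class (List.all_eq_true.1 classB_ok 0 (by simp)) (by norm_num) hv
  exact isConj_iff.2 ⟨f, hf⟩

theorem a1_class (hB : ¬ IsConj z (c 224)) {a : G} (ha : a ∈ subA1 B.sys.cod) (h : IsConj z a) :
    a ∈ fourSub B.sys.cod := by
  obtain ⟨n, hn, hn', rfl⟩ := (mem_subA1 B.sys.cod).1 ha
  rcases B.sys.three hB (B.sys.cod.mem n hn') h with e | e | e <;>
    exact (mem_fourSub B.sys.cod).2 (by tauto)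

set_option maxHeartbeats 2000000 in
/-- A subgroup containing the conjugates of `z` in the centralizer of `224`. -/
theorem exists_core (hB : ¬ IsConj z (c 224)) :
    ∃ Y : Subgroup G, Y ≤ centralizer ({c 224} : Set G) ⊓ N ∧
      (∀ d ∈ centralizer ({c 224} : Set G) ⊓ N, ∀ y ∈ Y, d * y * d⁻¹ ∈ Y) ∧
      fourSub B.sys.cod ≤ Y ∧
      (∀ a ∈ subA1 B.sys.cod, a ∈ Y → a ∈ fourSub B.sys.cod) ∧
      (∀ u, IsConj z u → Commute (c 224) u → u ∈ Y) ∧
      Nat.card (centralizer ({c 224} : Set G) ⊓ N : Subgroup G) = 4 * Nat.card Y ∧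
      Odd ((subA1 B.sys.cod).subgroupOf (centralizer ({c 224} : Set G) ⊓ N)).index ∧
      ∀ w ∈ fourSub B.sys.cod, w ≠ 1 → ∀ d ∈ centralizer ({c 224} : Set G) ⊓ N, d * w = w * d →
        d ∈ subA1 B.sys.cod := by
  classical
  haveI : Fact (Nat.Prime 2) := ⟨Nat.prime_two⟩
  set D := centralizer ({c 224} : Set G) ⊓ N with hD
  set A := subA1 B.sys.cod with hAdef
  set V := fourSub B.sys.cod with hVdef
  have hAD : A ≤ D := B.a1_le
  have hVA : V ≤ A := B.four_le_A1
  have hsqA := subA1_sq B.sys.cod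
  have h224 : (224 : Nat) < 768 := by norm_num
  have hbA : c 224 ∈ A := (mem_subA1 B.sys.cod).2 ⟨224, by decide, h224, rfl⟩
  have huA : c 512 ∈ A := (mem_subA1 B.sys.cod).2 ⟨512, by decide, by norm_num, rfl⟩
  have hbc : ∀ d ∈ D, d * c 224 = c 224 * d := fun d hd => mem_centralizer_singleton_iff.1 (mem_inf.1 hd).1
  -- centralizers of the three
  have hcent : ∀ w ∈ V, w ≠ 1 → ∀ d ∈ D, d * w = w * d → d ∈ A := by
    intro w hw hw1 d hd hdw
    have hp := B.card_pair (Or.inr ⟨rfl, hB⟩) (B.four_class hw hw1) (hbc w (hAD (hVA hw)))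
    rw [Nat.eq_of_beq_eq_true b_cen_count] at hp
    let f : A → {v : G // v ∈ N ∧ v * w = w * v ∧ v * c 224 = c 224 * v} := fun a =>
      ⟨a, (mem_inf.1 (hAD a.2)).2, mul_comm_of_sq hsqA a.2 (hVA hw), hbc a (hAD a.2)⟩
    have hf : Function.Bijective f := (Nat.bijective_iff_injective_and_card f).2
      ⟨fun a a' h => Subtype.ext (Subtype.mk.inj h :), by rw [hp, card_subA1]⟩
    obtain ⟨a, ha⟩ := hf.2 ⟨d, (mem_inf.1 hd).2, hdw, hbc d hd⟩
    rw [← show (a : G) = d from congrArg Subtype.val ha]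
    exact a.2
  have hnVn : ∀ n ∈ D, (∀ a ∈ A, n * a * n⁻¹ ∈ A) → ∀ v ∈ V, n * v * n⁻¹ ∈ V := by
    intro n _ hn v hv
    rcases eq_or_ne v 1 with rfl | h1
    · simp [one_mem]
    · exact B.a1_class hB (hn v (hVA hv)) ((B.four_class hv h1).trans (isConj_iff.2 ⟨n, rfl⟩))
  -- an element of `D` normalizing `A` outside `A` has no fixed point among the three
  have hfpf : ∀ n ∈ D, n ∉ A → ∀ v ∈ V, v ≠ 1 → n * v * n⁻¹ ≠ v := fun n hn hnA v hv hv1 h =>
    hnA (hcent v hv hv1 n hn (mul_inv_eq_iff_eq_mul.1 h))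
  have hcube : ∀ n ∈ D, (∀ a ∈ A, n * a * n⁻¹ ∈ A) → n * n * n ∈ A := by
    intro n hn hnorm
    by_cases hnA : n ∈ A
    · exact mul_mem (mul_mem hnA hnA) hnA
    have hzV : z ∈ V := (mem_fourSub B.sys.cod).2 (Or.inr (Or.inl rfl))
    have hz1 : z ≠ 1 := Invol.ne_one B.sys.hz
    have hne1 : ∀ v : G, v ≠ 1 → n * v * n⁻¹ ≠ 1 := fun v hv h => hv (by simpa using h)
    set v1 := n * z * n⁻¹
    set v2 := n * v1 * n⁻¹
    set v3 := n * v2 * n⁻¹
    have m1 : v1 ∈ V := hnVn n hn hnorm z hzV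
    have m2 : v2 ∈ V := hnVn n hn hnorm v1 m1
    have m3 : v3 ∈ V := hnVn n hn hnorm v2 m2
    have d1 : v1 ≠ z := hfpf n hn hnA z hzV hz1
    have d2 : v2 ≠ v1 := hfpf n hn hnA v1 m1 (hne1 z hz1)
    have d3 : v3 ≠ v2 := hfpf n hn hnA v2 m2 (hne1 _ (hne1 z hz1))
    have inj : ∀ p q : G, n * p * n⁻¹ = n * q * n⁻¹ → p = q := fun p q h => by simpa using h
    have d4 : v2 ≠ z := by
      intro h
      -- the product of the first two is then fixed
      have hp : n * (z * v1) * n⁻¹ = v1 * v2 := by simp only [v1, v2]; group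
      rw [h, mul_comm_of_sq hsqA (hVA m1) (hVA hzV)] at hp
      refine hfpf n hn hnA _ (mul_mem hzV m1) (fun h' => d1 ?_) hp
      exact (inv_eq_of_mul_eq_one_right h').symm.trans
        (inv_eq_of_mul_eq_one_right (Invol.mul_self_eq_one B.sys.hz))
    have e3 : v3 = z := by
      have d5 : v3 ≠ v1 := fun h => d4 (inj _ _ h)
      have all3 : ∀ w ∈ V, w ≠ 1 → w = z ∨ w = c 15 ∨ w = c 31 := fun w hw hw1 =>
        ((mem_fourSub B.sys.cod).1 hw).resolve_left hw1
      rcases all3 v1 m1 (hne1 z hz1) with e1 | e1 | e1 <;>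
        rcases all3 v2 m2 (hne1 _ (hne1 z hz1)) with e2 | e2 | e2 <;>
        rcases all3 v3 m3 (hne1 _ (hne1 _ (hne1 z hz1))) with e3 | e3 | e3 <;>
        first
          | exact e3
          | exact absurd e1 d1
          | exact absurd e2 d4
          | exact absurd (e2.trans e1.symm) d2
          | exact absurd (e3.trans e2.symm) d3
          | exact absurd (e3.trans e1.symm) d5
    refine hcent z hzV hz1 _ (mul_mem (mul_mem hn hn) hn) ?_
    refine mul_inv_eq_iff_eq_mul.1 ?_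
    calc n * n * n * z * (n * n * n)⁻¹ = v3 := by simp only [v3, v2, v1]; group
      _ = z := e3
  set A' := A.subgroupOf D with hA'
  have hA'card : Nat.card A' = 16 := by
    rw [hA', Nat.card_congr (subgroupOfEquivOfLe hAD).toEquiv, card_subA1]
  have hnormA : ∀ {q : D}, q ∈ normalizer (A' : Set D) → ∀ a ∈ A, (q : G) * a * (q : G)⁻¹ ∈ A := by
    intro q hq a ha
    simpa [mem_subgroupOf, A'] using (mem_normalizer_iff.1 hq ⟨a, hAD ha⟩).1 (by simpa [mem_subgroupOf, A'] using ha)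
  have hodd : Odd A'.index := by
    rw [← Nat.not_even_iff_odd, even_iff_two_dvd]
    intro h
    have hd : 2 ^ (4 + 1) ∣ Nat.card D := by
      rw [← A'.card_mul_index, hA'card]
      exact Nat.mul_dvd_mul (dvd_refl 16) h
    obtain ⟨R, hR⟩ := Sylow.exists_subgroup_card_pow_prime (G := normalizer (A' : Set D)) 2 (n := 5)
      (Sylow.prime_pow_dvd_card_normalizer hd (H := A') (by rw [hA'card]; norm_num))
    have hle : R.map (normalizer (A' : Set D)).subtype ≤ A' := by
      rintro _ ⟨q, hq, rfl⟩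
      have hp : orderOf (q : D) ∣ 2 ^ 5 := by
        rw [orderOf_coe, ← hR]
        exact R.orderOf_dvd_natCard hq
      have h3 : ((q : D)) * (q : D) * (q : D) ∈ A' := by
        refine mem_subgroupOf.2 ?_
        push_cast
        exact hcube _ q.1.2 (hnormA q.2)
      have hq32 : (q : D) ^ 32 = 1 := by
        obtain ⟨k, hk⟩ := hp
        have := pow_orderOf_eq_one (q : D)
        rw [show (32 : ℕ) = 2 ^ 5 from rfl, hk, pow_mul, this, one_pow]
      have : (q : D) = ((q : D) * (q : D) * (q : D)) ^ 11 := by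
        rw [← pow_three', ← pow_mul, show 3 * 11 = 32 + 1 from rfl, pow_succ, hq32, one_mul]
      show (q : D) ∈ A'
      rw [this]
      exact pow_mem h3 _
    have := card_le_of_le hle
    rw [card_map_of_injective (normalizer (A' : Set D)).subtype_injective, hR, hA'card] at this
    norm_num at this
  let P : Sylow 2 D := (IsPGroup.of_card (n := 4) (by rw [hA'card]; norm_num)).toSylow
    (fun h => Nat.not_even_iff_odd.2 hodd (even_iff_two_dvd.2 h))
  haveI hPc : IsMulCommutative (P : Subgroup D) :=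
    ⟨⟨fun a b => Subtype.ext (Subtype.ext (mul_comm_of_sq hsqA (mem_subgroupOf.1 a.2) (mem_subgroupOf.1 b.2)))⟩⟩
  have hzclass : ∀ u, IsConj z u → Commute (c 224) u → ∃ (d : D) (w : G), w ∈ V ∧ w ≠ 1 ∧ (d : G) * u * (d : G)⁻¹ = w := by
    intro u hu huc
    have huD : u ∈ D := mem_inf.2 ⟨mem_centralizer_singleton_iff.2 huc.symm.eq, B.class_mem hu⟩
    have hu2 : orderOf u = 2 := by obtain ⟨g, rfl⟩ := isConj_iff.1 hu; rw [orderOf_conj_eq, B.sys.hz]
    obtain ⟨d, hd⟩ := exists_conj_mem (n := 4) (by rw [hA'card]; norm_num) hodd (t := (⟨u, huD⟩ : D))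
      (by rw [← orderOf_coe]; exact hu2)
    have hdA : (d : G) * u * (d : G)⁻¹ ∈ A := by simpa [mem_subgroupOf, A'] using hd
    exact ⟨d, _, B.a1_class hB hdA (hu.trans (isConj_iff.2 ⟨d, rfl⟩)),
      fun h => Invol.ne_one hu2 (by simpa using h), rfl⟩
  by_cases hN : normalizer (A' : Set D) ≤ A'
  · -- no fusion: `D = A`
    have htop : A' = ⊤ := by
      have hz15 : ∀ w ∈ V, w ≠ 1 → ∀ h : w ∈ D, centralizer ({(⟨w, h⟩ : D)} : Set D) ≤ (P : Subgroup D) := by
        intro w hw hw1 h d hd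
        show d ∈ A'
        rw [hA', mem_subgroupOf]
        exact hcent w hw hw1 d d.2 (congrArg Subtype.val (mem_centralizer_singleton_iff.1 hd))
      have hzV : z ∈ V := (mem_fourSub B.sys.cod).2 (Or.inr (Or.inl rfl))
      have h15V : c 15 ∈ V := (mem_fourSub B.sys.cod).2 (Or.inr (Or.inr (Or.inl rfl)))
      have h31V : c 31 ∈ V := (mem_fourSub B.sys.cod).2 (Or.inr (Or.inr (Or.inr rfl)))
      have hne : ∀ n, n < 768 → n ≠ 0 → c n ≠ 1 := fun n hn hn0 h => hn0 (B.sys.cod.eq_one hn h)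
      refine eq_top_of_self_norm P ?_ (x := ⟨z, hAD (hVA hzV)⟩) (y := ⟨c 15, hAD (hVA h15V)⟩) ?_ ?_
        (Subtype.ext (B.four_sq z hzV)) (Subtype.ext (B.four_sq _ h15V))
        (hz15 z hzV (Invol.ne_one B.sys.hz) _) (hz15 _ h15V (hne 15 (by norm_num) (by norm_num)) _) ?_
      · intro q hq
        exact mem_centralizer_iff.2 fun r hr => congrArg Subtype.val
          (hPc.is_comm.comm ⟨r, hr⟩ ⟨q, hN hq⟩)
      · exact mem_subgroupOf.2 (hVA hzV)
      · exact mem_subgroupOf.2 (hVA h15V)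
      · exact hz15 _ (mul_mem hzV h15V) (by rw [B.sys.mul15.2]; exact hne 31 (by norm_num) (by norm_num)) _
    have hDA : D ≤ A := subgroupOf_eq_top.1 htop
    refine ⟨V, hVA.trans hAD, fun d hd y hy => ?_, le_rfl, fun a _ h => h, fun u hu huc => ?_, ?_, hodd, hcent⟩
    · rw [mul_comm_of_sq hsqA (hDA hd) (hVA hy), mul_inv_cancel_right]
      exact hy
    · exact B.a1_class hB (hDA (mem_inf.2 ⟨mem_centralizer_singleton_iff.2 huc.symm.eq, B.class_mem hu⟩)) hu
    · rw [le_antisymm hDA hAD, card_subA1, card_fourSub]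
  -- fusion by an element of order three
  obtain ⟨q, hq, hqA⟩ := SetLike.not_le_iff_exists.1 hN
  have hqA' : (q : G) ∉ A := fun h => hqA (mem_subgroupOf.2 h)
  -- translates of `V`
  have hbu : c 224 * c 512 = c 736 := B.node736
  have hcos : ∀ n ∈ D, (∀ a ∈ A, n * a * n⁻¹ ∈ A) → (∀ a ∈ A, n⁻¹ * a * n ∈ A) → ∀ t, (t = c 512 ∨ t = c 736) →
      ∃ v ∈ V, n * t * n⁻¹ = v * t := by
    intro n hn hnorm hnorm' t ht
    have hV' : ∀ v ∈ V, n * v * n⁻¹ ∈ V := hnVn n hn hnorm
    have hb : n * c 224 * n⁻¹ = c 224 := by rw [hbc n hn, mul_inv_cancel_right]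
    have hVi : ∀ v ∈ V, n⁻¹ * v * n ∈ V := fun v hv => by
      have := hnVn n⁻¹ (inv_mem hn) (by intro a ha; rw [inv_inv]; exact hnorm' a ha) v hv
      rwa [inv_inv] at this
    have htA : t ∈ A := by
      rcases ht with rfl | rfl
      · exact huA
      · rw [← hbu]; exact mul_mem hbA huA
    obtain ⟨v, hv, hcases⟩ := B.a1_cases (hnorm t htA)
    have htV : t ∉ V := by rcases ht with rfl | rfl <;> exact B.not_mem_four (by tauto)
    have htbV : ∀ v ∈ V, t ≠ v * c 224 := by
      intro v hv e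
      have h224sq : c 224 * c 224 = 1 := hsqA _ hbA
      rcases ht with rfl | rfl
      · refine B.not_mem_four (n := 736) (by tauto) ?_
        rw [← hbu, e, mul_comm_of_sq hsqA hbA (mul_mem (hVA hv) hbA), mul_assoc, h224sq, mul_one]
        exact hv
      · refine B.not_mem_four (n := 512) (by tauto) ?_
        have : c 512 = c 224 * c 736 := by rw [← hbu, ← mul_assoc, h224sq, one_mul]
        rw [this, e, mul_comm_of_sq hsqA hbA (mul_mem (hVA hv) hbA), mul_assoc, h224sq, mul_one]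
        exact hv
    have h224sq : c 224 * c 224 = 1 := hsqA _ hbA
    have h736' : c 512 = c 224 * c 736 := by rw [← hbu, ← mul_assoc, h224sq, one_mul]
    rcases hcases with e | e | e | e
    · refine absurd ?_ htV
      have := hVi v hv
      rwa [← e, show n⁻¹ * (n * t * n⁻¹) * n = t by group] at this
    · refine absurd ?_ (htbV _ (hVi v hv))
      calc t = n⁻¹ * (n * t * n⁻¹) * n := by group
        _ = n⁻¹ * v * (n * (n⁻¹ * (c 224 * n))) := by rw [e]; group
        _ = n⁻¹ * v * n * c 224 := by rw [← hbc n hn]; group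
    all_goals
      have key : n * t * n⁻¹ = v * t ∨ n * t * n⁻¹ = v * (c 224 * t) := by
        rcases ht with rfl | rfl
        all_goals first
          | exact Or.inl e
          | exact Or.inr (by rw [e, hbu])
          | exact Or.inr (by rw [e, ← h736'])
      rcases key with key | key
      · exact ⟨v, hv, key⟩
      exfalso
      -- a swap would survive the cube
      have hvb : c 224 * v = v * c 224 := mul_comm_of_sq hsqA hbA (hVA hv)
      have hbt : n * (c 224 * t) * n⁻¹ = v * t := by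
        calc n * (c 224 * t) * n⁻¹ = n * c 224 * n⁻¹ * (n * t * n⁻¹) := by group
          _ = v * t := by
            rw [hb, key, ← mul_assoc, hvb, mul_assoc, ← mul_assoc (c 224) (c 224), h224sq, one_mul]
      have h2 : n * n * t * (n * n)⁻¹ = n * v * n⁻¹ * v * t := by
        calc n * n * t * (n * n)⁻¹ = n * (n * t * n⁻¹) * n⁻¹ := by group
          _ = n * v * n⁻¹ * (n * (c 224 * t) * n⁻¹) := by rw [key]; group
          _ = _ := by rw [hbt]; group
      have h3 : n * n * n * t * (n * n * n)⁻¹ = n * (n * v * n⁻¹ * v) * n⁻¹ * v * c 224 * t := by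
        calc n * n * n * t * (n * n * n)⁻¹ = n * (n * n * t * (n * n)⁻¹) * n⁻¹ := by group
          _ = n * (n * v * n⁻¹ * v) * n⁻¹ * (n * t * n⁻¹) := by rw [h2]; group
          _ = _ := by rw [key]; group
      rw [mul_comm_of_sq hsqA (hcube n hn hnorm) htA, mul_inv_cancel_right] at h3
      refine B.not_mem_four (n := 224) (by tauto) ?_
      have hw : n * (n * v * n⁻¹ * v) * n⁻¹ * v ∈ V := mul_mem (hV' _ (mul_mem (hV' v hv) hv)) hv
      rw [eq_inv_of_mul_eq_one_right (mul_eq_right.1 h3.symm)]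
      exact inv_mem hw
  -- a kernel missing the translate of a coset
  have hstep : ∀ (x : G) (hx : x ∈ A) (T : Subgroup G), T ≤ A → Nat.card T = 8 →
      (∀ n ∈ D, (∀ a ∈ A, n * a * n⁻¹ ∈ A) → (∀ a ∈ A, n⁻¹ * a * n ∈ A) → n * x * n⁻¹ ∉ T) →
      ∃ M : Subgroup D, M.Normal ∧ M.index = 2 ∧ (⟨x, hAD hx⟩ : D) ∉ M := by
    intro x hx T hT hT8 hno
    have hrel : (T.subgroupOf D).relIndex (P : Subgroup D) = 2 := by
      have h := ((T.subgroupOf D).subgroupOf A').index_mul_card
      rw [Nat.card_congr (subgroupOfEquivOfLe (show T.subgroupOf D ≤ A' from fun y hy => hT hy)).toEquiv,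
        Nat.card_congr (subgroupOfEquivOfLe (hT.trans hAD)).toEquiv, hT8, hA'card] at h
      show ((T.subgroupOf D).subgroupOf A').index = 2
      omega
    refine (ThompsonTransfer.thompson_transfer (P : Subgroup D) (T.subgroupOf D) hodd hrel
      (u := ⟨x, hAD hx⟩) (Subtype.ext (hsqA x hx))).resolve_right ?_
    rintro ⟨g, hg⟩
    have hgA : g * (⟨x, hAD hx⟩ : D) * g⁻¹ ∈ (P : Subgroup D) := hT (mem_subgroupOf.1 hg)
    obtain ⟨n, hn, hne⟩ := P.conj_eq_normalizer_conj_of_mem ⟨x, hAD hx⟩ g⁻¹ (mem_subgroupOf.2 hx)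
      (by rw [inv_inv]; exact hgA)
    rw [inv_inv] at hne
    rw [hne, mem_subgroupOf] at hg
    push_cast at hg
    have hn' := hnormA (inv_mem hn)
    push_cast at hn'
    refine hno (n : G)⁻¹ (inv_mem n.2) hn' (fun a ha => by rw [inv_inv]; exact hnormA hn a ha) ?_
    rwa [inv_inv] at hn' ⊢
  let mkT : ∀ x ∈ ([224, 512, 736] : List Nat), Subgroup G := fun x hx =>
    nodeSub B.sys.cod (fun n => ([0, 16, 15, 31] ++ [m 0 0 x, m 0 16 x, m 0 15 x, m 0 31 x]).contains n)
      (by simp) (by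
        intro p _ r _ hp hr
        exact List.all_eq_true.1 (List.all_eq_true.1 (List.all_eq_true.1 eight_closed x hx) p
          (List.contains_iff_mem.1 hp)) r (List.contains_iff_mem.1 hr))
  have hmkT : ∀ x (hx : x ∈ ([224, 512, 736] : List Nat)), mkT x hx ≤ A ∧ Nat.card (mkT x hx) = 8 ∧
      ∀ y ∈ mkT x hx, y ∈ V ∨ ∃ v ∈ V, y = v * c x := by
    intro x hx
    have hx' : x < 768 := by simp at hx; omega
    refine ⟨?_, ?_, ?_⟩
    · rintro y ⟨n, hn, hn', rfl⟩
      refine (mem_subA1 B.sys.cod).2 ⟨n, ?_, hn, rfl⟩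
      have := List.all_eq_true.1 (List.all_eq_true.1 (show ([224, 512, 736].all fun x =>
        ([0, 16, 15, 31] ++ [m 0 0 x, m 0 16 x, m 0 15 x, m 0 31 x]).all fun n => nA1.contains n) = true
          by decide +kernel) x hx) n (List.contains_iff_mem.1 hn')
      exact List.contains_iff_mem.1 this
    · rw [card_nodeSub]
      have := List.all_eq_true.1 (show ([224, 512, 736].all fun x => Nat.beq ((List.range 768).filter fun n =>
        ([0, 16, 15, 31] ++ [m 0 0 x, m 0 16 x, m 0 15 x, m 0 31 x]).contains n).length 8) = true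
          by decide +kernel) x hx
      exact Nat.eq_of_beq_eq_true this
    · rintro y ⟨n, hn, hn', rfl⟩
      rw [List.contains_iff_mem, List.mem_append] at hn'
      rcases hn' with h | h
      · exact Or.inl ⟨n, hn, List.contains_iff_mem.2 h, rfl⟩
      · simp only [List.mem_cons, List.not_mem_nil, or_false] at h
        right
        rcases h with rfl | rfl | rfl | rfl
        · exact ⟨c 0, ⟨0, by norm_num, by simp, rfl⟩, (B.sys.cod.mul 0 (by norm_num) x hx').symm⟩
        · exact ⟨c 16, ⟨16, by norm_num, by simp, rfl⟩, (B.sys.cod.mul 16 (by norm_num) x hx').symm⟩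
        · exact ⟨c 15, ⟨15, by norm_num, by simp, rfl⟩, (B.sys.cod.mul 15 (by norm_num) x hx').symm⟩
        · exact ⟨c 31, ⟨31, by norm_num, by simp, rfl⟩, (B.sys.cod.mul 31 (by norm_num) x hx').symm⟩
  have h736A : c 736 ∈ A := hbu ▸ mul_mem hbA huA
  have h224sq : c 224 * c 224 = 1 := hsqA _ hbA
  have hcancel : ∀ {v v' s t : G}, v * s = v' * t → v ∈ V → v' ∈ V → s * t⁻¹ ∈ V := by
    intro v v' s t e hv hv'
    have : s * t⁻¹ = v⁻¹ * v' := by
      rw [show v⁻¹ * v' = v⁻¹ * (v' * t) * t⁻¹ by group, ← e]; group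
    rw [this]
    exact mul_mem (inv_mem hv) hv'
  have hVdiff : ∀ {x y : Nat}, x ∈ ([224, 512, 736] : List Nat) → y ∈ ([224, 512, 736] : List Nat) → x ≠ y →
      c x * (c y)⁻¹ ∉ V := by
    intro x y hx hy hne hmem
    have hxA : ∀ {x}, x ∈ ([224, 512, 736] : List Nat) → c x ∈ A := fun {x} hx => by
      simp at hx; rcases hx with rfl | rfl | rfl <;> assumption
    rw [inv_eq_of_mul_eq_one_right (hsqA _ (hxA hy))] at hmem
    have hx' : x < 768 := by simp at hx; omega
    have hy' : y < 768 := by simp at hy; omega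
    obtain ⟨k, hk, hk', e⟩ := (show c x * c y ∈ V from hmem)
    rw [B.sys.cod.mul x hx' y hy'] at e
    have := B.sys.cod.inj k hk _ (B.sys.cod.lt x hx' y hy') e
    subst this
    have hchk : ([224, 512, 736].all fun x => [224, 512, 736].all fun y => Nat.beq x y ||
        !([0, 16, 15, 31].contains (m 0 x y))) = true := by decide +kernel
    have := List.all_eq_true.1 (List.all_eq_true.1 hchk x hx) y hy
    rw [show Nat.beq x y = false from Bool.not_eq_true _ |>.mp fun h => hne (Nat.eq_of_beq_eq_true h),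
      Bool.false_or, Bool.not_eq_true'] at this
    simp only at hk'
    rw [this] at hk'
    exact absurd hk' (by simp)
  obtain ⟨M1, hM1, hM1i, hM1b⟩ := hstep _ hbA (mkT 512 (by simp)) (hmkT 512 (by simp)).1 (hmkT 512 (by simp)).2.1
    (fun n hn _ _ hmem => by
      rw [hbc n hn, mul_inv_cancel_right] at hmem
      rcases (hmkT 512 (by simp)).2.2 _ hmem with h | ⟨v, hv, e⟩
      · exact B.not_mem_four (by tauto) h
      · exact hVdiff (x := 224) (y := 512) (by simp) (by simp) (by norm_num)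
          (by rw [e, mul_inv_cancel_right]; exact hv))
  -- the coset inside the first kernel
  have hmul1 : ∀ {x y : D}, x * y ∈ M1 ↔ (x ∈ M1 ↔ y ∈ M1) := fun {x y} => mul_mem_iff_of_index_two hM1i
  obtain ⟨t, ht, htA, htM, htne⟩ : ∃ t : Nat, t ∈ ([512, 736] : List Nat) ∧ ∃ h : c t ∈ A,
      (⟨c t, hAD h⟩ : D) ∈ M1 ∧ t ≠ 224 := by
    by_cases h : (⟨c 512, hAD huA⟩ : D) ∈ M1
    · exact ⟨512, by simp, huA, h, by norm_num⟩
    · refine ⟨736, by simp, h736A, ?_, by norm_num⟩
      rw [show (⟨c 736, hAD h736A⟩ : D) = ⟨c 224, hAD hbA⟩ * ⟨c 512, hAD huA⟩ from Subtype.ext hbu.symm, hmul1]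
      exact ⟨fun h' => absurd h' hM1b, fun h' => absurd h' h⟩
  have ht3 : t ∈ ([224, 512, 736] : List Nat) := List.mem_cons_of_mem _ ht
  obtain ⟨M2, hM2, hM2i, hM2t⟩ := hstep _ htA (mkT 224 (by simp)) (hmkT 224 (by simp)).1 (hmkT 224 (by simp)).2.1
    (fun n hn hnorm hnorm' hmem => by
      obtain ⟨v, hv, e⟩ := hcos n hn hnorm hnorm' (c t) (by simp at ht; rcases ht with rfl | rfl <;> simp)
      rw [e] at hmem
      rcases (hmkT 224 (by simp)).2.2 _ hmem with h | ⟨v', hv', e'⟩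
      · refine B.not_mem_four (n := t) (by simp at ht; tauto) ?_
        rw [show c t = v⁻¹ * (v * c t) by group]
        exact mul_mem (inv_mem hv) h
      · exact hVdiff ht3 (by simp) htne (hcancel e' hv hv'))
  haveI := hM1
  haveI := hM2
  have hmul2 : ∀ {x y : D}, x * y ∈ M2 ↔ (x ∈ M2 ↔ y ∈ M2) := fun {x y} => mul_mem_iff_of_index_two hM2i
  -- both kernels contain `V`
  have hVM : ∀ (M : Subgroup D), M.Normal → M.index = 2 → ∀ v (hv : v ∈ V), (⟨v, hAD (hVA hv)⟩ : D) ∈ M := by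
    intro M hMn hMi v hv
    have hmul : ∀ {x y : D}, x * y ∈ M ↔ (x ∈ M ↔ y ∈ M) := fun {x y} => mul_mem_iff_of_index_two hMi
    rcases eq_or_ne v 1 with rfl | hv1
    · exact one_mem M
    have hne1 : ∀ v : G, v ≠ 1 → (q : G) * v * (q : G)⁻¹ ≠ 1 := fun v hv h => hv (by simpa using h)
    have hv2 : (q : G) * v * (q : G)⁻¹ ∈ V := hnVn q q.2 (hnormA hq) v hv
    have hv3 : (q : G) * ((q : G) * v * (q : G)⁻¹) * (q : G)⁻¹ ∈ V := hnVn q q.2 (hnormA hq) _ hv2
    set a : D := ⟨v, hAD (hVA hv)⟩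
    have hstep' : ∀ x : D, (q * x * q⁻¹ ∈ M ↔ x ∈ M) := fun x =>
      ⟨fun h => by simpa [mul_assoc] using hMn.conj_mem _ h q⁻¹, fun h => hMn.conj_mem _ h q⟩
    have hprod : a * (q * a * q⁻¹) = q * (q * a * q⁻¹) * q⁻¹ := by
      refine Subtype.ext ?_
      push_cast
      show v * ((q : G) * v * (q : G)⁻¹) = (q : G) * ((q : G) * v * (q : G)⁻¹) * (q : G)⁻¹
      set v1 := (q : G) * v * (q : G)⁻¹ with hv1def
      set v2 := (q : G) * v1 * (q : G)⁻¹ with hv2def
      have d1 : v1 ≠ v := hfpf q q.2 hqA' v hv hv1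
      have d2 : v2 ≠ v1 := hfpf q q.2 hqA' v1 hv2 (hne1 v hv1)
      have hp1 : v * v1 ≠ 1 := fun h => d1 ((inv_eq_of_mul_eq_one_right h).symm.trans
        (inv_eq_of_mul_eq_one_right (B.four_sq v hv)))
      have d3 : v2 ≠ v := by
        intro h
        have hp : (q : G) * (v * v1) * (q : G)⁻¹ = v1 * v2 := by simp only [hv2def, hv1def]; group
        rw [h, mul_comm_of_sq hsqA (hVA hv2) (hVA hv)] at hp
        exact hfpf q q.2 hqA' _ (mul_mem hv hv2) hp1 hp
      have all3 : ∀ w ∈ V, w ≠ 1 → w = z ∨ w = c 15 ∨ w = c 31 := fun w hw hw1 =>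
        ((mem_fourSub B.sys.cod).1 hw).resolve_left hw1
      have p1 : v * v1 ≠ v := fun h => hne1 v hv1 (mul_eq_left.1 h)
      have p2 : v * v1 ≠ v1 := fun h => hv1 (mul_eq_right.1 h)
      rcases all3 v hv hv1 with e0 | e0 | e0 <;>
        rcases all3 v1 hv2 (hne1 v hv1) with e1 | e1 | e1 <;>
        rcases all3 v2 hv3 (hne1 _ (hne1 v hv1)) with e2 | e2 | e2 <;>
        rcases all3 _ (mul_mem hv hv2) hp1 with e3 | e3 | e3 <;>
        first
          | exact e3.trans e2.symm
          | exact absurd (e1.trans e0.symm) d1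
          | exact absurd (e2.trans e1.symm) d2
          | exact absurd (e2.trans e0.symm) d3
          | exact absurd (e3.trans e0.symm) p1
          | exact absurd (e3.trans e1.symm) p2
    have h := hmul (x := a) (y := q * a * q⁻¹)
    rw [hprod, hstep', hstep'] at h
    tauto
  set M := M1 ⊓ M2
  refine ⟨M.map D.subtype, map_subtype_le M, fun d hd y hy => ?_, ?_, ?_, ?_, ?_, hodd, hcent⟩
  · obtain ⟨y', hy', rfl⟩ := hy
    exact ⟨⟨d, hd⟩ * y' * ⟨d, hd⟩⁻¹, (inferInstance : M.Normal).conj_mem _ hy' _, rfl⟩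
  · intro v hv
    exact ⟨⟨v, hAD (hVA hv)⟩, mem_inf.2 ⟨hVM M1 hM1 hM1i v hv, hVM M2 hM2 hM2i v hv⟩, rfl⟩
  · rintro a ha ⟨⟨a', haD⟩, haM, haa⟩
    obtain rfl : a' = a := haa
    obtain ⟨v, hv, hcases⟩ := B.a1_cases ha
    obtain ⟨m1, m2⟩ := mem_inf.1 haM
    have hv1 := hVM M1 hM1 hM1i v hv
    have hv2 := hVM M2 hM2 hM2i v hv
    have hno : ∀ x (hx : c x ∈ A), a' = v * c x →
        ((⟨c x, hAD hx⟩ : D) ∈ M1 ∧ (⟨c x, hAD hx⟩ : D) ∈ M2) := by
      intro x hx e
      have e' : (⟨a', haD⟩ : D) = ⟨v, hAD (hVA hv)⟩ * ⟨c x, hAD hx⟩ := Subtype.ext e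
      rw [e', hmul1] at m1
      rw [e', hmul2] at m2
      exact ⟨m1.1 hv1, m2.1 hv2⟩
    rcases hcases with e | e | e | e
    · rw [e]; exact hv
    · exact absurd (hno 224 hbA e).1 hM1b
    · by_cases h : t = 512
      · subst h; exact absurd (hno 512 huA e).2 hM2t
      · obtain rfl : t = 736 := by simp at ht; omega
        have h1 := (hno 512 huA e).1
        rw [show (⟨c 736, hAD htA⟩ : D) = ⟨c 224, hAD hbA⟩ * ⟨c 512, hAD huA⟩ from Subtype.ext hbu.symm, hmul1] at htM
        exact absurd (htM.2 h1) hM1b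
    · by_cases h : t = 736
      · subst h; exact absurd (hno 736 h736A e).2 hM2t
      · obtain rfl : t = 512 := by simp at ht; omega
        have h1 := (hno 736 h736A e).1
        rw [show (⟨c 736, hAD h736A⟩ : D) = ⟨c 224, hAD hbA⟩ * ⟨c 512, hAD huA⟩ from Subtype.ext hbu.symm, hmul1] at h1
        exact absurd (h1.2 htM) hM1b
  · intro u hu huc
    obtain ⟨d, w, hw, -, hdw⟩ := hzclass u hu huc
    refine ⟨d⁻¹ * ⟨w, hAD (hVA hw)⟩ * d, ?_, ?_⟩
    · have := (inferInstance : M.Normal).conj_mem _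
        (mem_inf.2 ⟨hVM M1 hM1 hM1i w hw, hVM M2 hM2 hM2i w hw⟩) d⁻¹
      rwa [inv_inv] at this
    · show (d : G)⁻¹ * w * (d : G) = u
      rw [← hdw]; group
  · have hne : ¬ M1 ≤ M2 := fun h => hM2t (h htM)
    have hrel : M2.relIndex M1 = 2 := by
      have hd : M2.relIndex M1 ∣ M2.index := relIndex_dvd_index_of_normal M2 M1
      rw [hM2i] at hd
      rcases (Nat.dvd_prime Nat.prime_two).1 hd with h | h
      · exact absurd (relIndex_eq_one.1 h) hne
      · exact h
    have hidx : M.index = 4 := by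
      rw [← relIndex_mul_index (inf_le_left : M ≤ M1), hM1i]
      show (M1 ⊓ M2).relIndex M1 * 2 = 4
      rw [inf_comm, inf_relIndex_right, hrel]
    rw [← M.index_mul_card, hidx, card_map_of_injective D.subtype_injective]

end Big

end CfsgLib.ChzL34
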