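import Cfsg.Agent.ChzL34.CaseW

/-! The order formula in the unfused case. -/

set_option autoImplicit false
set_option linter.unusedSectionVars false
set_option linter.style.haveILetI false
set_option maxRecDepth 100000

namespace CfsgLib.ChzL34

open Subgroup
open CfsgLib.Invol (orderOf_conj_eq)

variable {G : Type*} [Group G] [Finite G] {z : G} {c : Nat → G} {N : Subgroup G}

/-- The centralizer of `224` in the large case. -/
structure Core (B : Big z c N) (Y : Subgroup G) : Prop where
  card_n : Nat.card N = 37440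
  le : Y ≤ centralizer ({c 224} : Set G) ⊓ N
  normal : ∀ d ∈ centralizer ({c 224} : Set G) ⊓ N, ∀ y ∈ Y, d * y * d⁻¹ ∈ Y
  four : fourSub B.sys.cod ≤ Y
  card_y : Nat.card Y = 60
  perfect : commutator Y = ⊤
  card_d : Nat.card (centralizer ({c 224} : Set G) ⊓ N : Subgroup G) = 240
  odd : Odd ((subA1 B.sys.cod).subgroupOf (centralizer ({c 224} : Set G) ⊓ N)).index
  cent : ∀ y ∈ Y, y * z = z * y → y ∈ fourSub B.sys.cod
  cent_all : ∀ w ∈ fourSub B.sys.cod, w ≠ 1 → ∀ y ∈ Y, y * w = w * y → y ∈ fourSub B.sys.cod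

theorem Big.card_unfused (B : Big z c N) (hB : ¬ IsConj z (c 224)) :
    Nat.card N = 576 ∨ ∃ Y, Core B Y := by
  classical
  obtain ⟨Y, hY1, hY2, hY3, hY4, hY5, hY6, hY7, hcent⟩ := B.exists_core hB
  have h224 : (224 : Nat) < 768 := by norm_num
  have hb2 : orderOf (c 224) = 2 := B.sys.ord_node h224 (by decide +kernel)
  set V := fourSub B.sys.cod with hV
  have hCY : ∀ w ∈ V.subgroupOf Y, w ≠ 1 → centralizer ({w} : Set Y) = V.subgroupOf Y := by
    intro w hw hw1
    refine le_antisymm (fun y hy => ?_) (fun v hv => ?_)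
    · rw [mem_subgroupOf]
      refine hY4 _ (hcent _ (mem_subgroupOf.1 hw) (fun h => hw1 (Subtype.ext h)) _ (hY1 y.2) ?_) y.2
      exact congrArg Subtype.val (mem_centralizer_singleton_iff.1 hy)
    · rw [mem_centralizer_singleton_iff]
      refine Subtype.ext ?_
      push_cast
      exact mul_comm_of_sq (subA1_sq B.sys.cod) (B.four_le_A1 (mem_subgroupOf.1 hv))
        (B.four_le_A1 (mem_subgroupOf.1 hw))
  have hV4 : Nat.card (V.subgroupOf Y) = 4 := by
    rw [Nat.card_congr (subgroupOfEquivOfLe hY3).toEquiv, card_fourSub]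
  have hVsq : ∀ w ∈ V.subgroupOf Y, w * w = 1 := fun w hw => Subtype.ext (B.four_sq _ (mem_subgroupOf.1 hw))
  obtain ⟨hodd, hcases⟩ := four_cases hV4 hVsq hCY
  have hinv : ∀ x, (IsConj z x ∧ Commute (c 224) x) ↔ x ∈ Y ∧ orderOf x = 2 := by
    intro x
    constructor
    · rintro ⟨hx, hxc⟩
      exact ⟨hY5 x hx hxc, by obtain ⟨g, rfl⟩ := isConj_iff.1 hx; rw [orderOf_conj_eq, B.sys.hz]⟩
    · rintro ⟨hx, hx2⟩
      refine ⟨?_, (mem_centralizer_singleton_iff.1 (mem_inf.1 (hY1 hx)).1).symm⟩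
      obtain ⟨g, hg⟩ := exists_conj_mem (n := 2) (by rw [hV4]; norm_num) hodd (t := (⟨x, hx⟩ : Y))
        (by rw [← orderOf_coe]; exact hx2)
      refine (B.four_class (mem_subgroupOf.1 hg) fun h => Invol.ne_one hx2 ?_).trans
        (isConj_iff.2 ⟨(g : G)⁻¹, by push_cast; group⟩)
      push_cast at h
      simpa using h
  have hub : ∀ u, IsConj z u → Commute (c 224) u → IsConj (c 224) (u * c 224) := by
    intro u hu huc
    obtain ⟨hY', hu2⟩ := (hinv u).1 ⟨hu, huc⟩
    obtain ⟨g, hg⟩ := exists_conj_mem (n := 2) (by rw [hV4]; norm_num) hodd (t := (⟨u, hY'⟩ : Y))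
      (by rw [← orderOf_coe]; exact hu2)
    have hgV : (g : G) * u * (g : G)⁻¹ ∈ V := by simpa using mem_subgroupOf.1 hg
    have hne : (g : G) * u * (g : G)⁻¹ ≠ 1 := fun h => Invol.ne_one hu2 (by simpa using h)
    have hgc : (g : G) * c 224 * (g : G)⁻¹ = c 224 :=
      mul_inv_eq_iff_eq_mul.2 (mem_centralizer_singleton_iff.1 (mem_inf.1 (hY1 g.2)).1)
    have hw : IsConj (c 224) ((g : G) * u * (g : G)⁻¹ * c 224) := by
      have ht := times_ok
      simp only [Bool.and_eq_true, List.all_cons, List.all_nil, and_true, List.contains_iff_mem] at ht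
      obtain ⟨⟨⟨⟨h15, -⟩, h31, -⟩, h16⟩, -⟩ := ht
      have hmk : ∀ n, n < 768 → m 0 n 224 ∈ clB → IsConj (c 224) (c n * c 224) := fun n hn hmem => by
        rw [B.sys.cod.mul n hn 224 h224]
        exact B.clB_conj hmem
      rcases (mem_fourSub B.sys.cod).1 hgV with e | e | e | e
      · exact absurd e hne
      · rw [e, B.sys.cod.zeq]; exact hmk 16 (by norm_num) h16
      · rw [e]; exact hmk 15 (by norm_num) h15
      · rw [e]; exact hmk 31 (by norm_num) h31
    refine hw.trans (isConj_iff.2 ⟨(g : G)⁻¹, ?_⟩)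
    conv_lhs => arg 1; arg 2; arg 2; rw [← hgc]
    group
  have hR : ∀ r ∈ ({16, 224, 1, 32, 33} : Finset Nat), r < 768 ∧ orderOf (c r) = 2 := by
    intro r hr
    simp only [Finset.mem_insert, Finset.mem_singleton] at hr
    rcases hr with rfl | rfl | rfl | rfl | rfl <;>
      exact ⟨by norm_num, B.sys.ord_node (by norm_num) (by decide +kernel)⟩
  have hNz : Nat.card {q : G × G // IsConj z q.1 ∧ IsConj (c 224) q.2 ∧ z ∈ zpowers (q.1 * q.2)} = 0 := by
    have : IsEmpty {q : G × G // IsConj z q.1 ∧ IsConj (c 224) q.2 ∧ z ∈ zpowers (q.1 * q.2)} := by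
      refine ⟨?_⟩
      rintro ⟨⟨u, v⟩, hu, hv, hm⟩
      simp only at hu hv hm
      have hu2 : orderOf u = 2 := by obtain ⟨g, rfl⟩ := isConj_iff.1 hu; rw [orderOf_conj_eq, B.sys.hz]
      have hv2 : orderOf v = 2 := by obtain ⟨g, rfl⟩ := isConj_iff.1 hv; rw [orderOf_conj_eq, hb2]
      obtain ⟨k, hk⟩ := mem_zpowers_iff.1 hm
      have hinv' : u * (u * v) * u⁻¹ = (u * v)⁻¹ := by
        rw [mul_inv_rev, inv_eq_of_mul_eq_one_right (Invol.mul_self_eq_one hu2),
          inv_eq_of_mul_eq_one_right (Invol.mul_self_eq_one hv2), ← mul_assoc u u v,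
          Invol.mul_self_eq_one hu2, one_mul]
      have huz : Commute u z := by
        have e : u * z * u⁻¹ = z := by
          conv_lhs => rw [← hk]
          rw [← conj_zpow, hinv', inv_zpow, hk, inv_eq_of_mul_eq_one_right (Invol.mul_self_eq_one B.sys.hz)]
        exact mul_inv_eq_iff_eq_mul.1 e
      have hvz : Commute v z := by
        have h := (huz.inv_left).mul_left (show Commute (u * v) z by
          rw [← hk]; exact (Commute.refl _).zpow_right k)
        rwa [inv_mul_cancel_left] at h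
      obtain ⟨a, ha, rfl⟩ := B.sys.cod.surj u huz.eq
      obtain ⟨b, hb, rfl⟩ := B.sys.cod.surj v hvz.eq
      have hb16 : b ≠ 16 := fun e => hB (hv.trans (by rw [e, ← B.sys.cod.zeq])).symm
      have hbI := B.sys.invs_cases hb (by decide +kernel) h224 hv hb16
      obtain ⟨pe, ps⟩ := B.conj_psi h224 hb hv
      have hbB : b ∈ clB := by
        have h := List.all_eq_true.1 psi_class_ok b hbI
        rw [← pe, ← ps, show psiE 224 = false by decide +kernel, show psiS 224 = false by decide +kernel] at h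
        rcases list_three h with e | e | e
        · exact absurd (B.sys.conjA.trans (e ▸ hv).symm) hB
        · exact absurd (B.sys.conj31.trans (e ▸ hv).symm) hB
        · exact e
      have haz : a ∈ [16, 15, 31] := by
        rcases B.sys.zclass ha hu with h | h | h | h
        · simp [h]
        · simp [h]
        · simp [h]
        · exact absurd h.2 hB
      have hf := a1_facts
      simp only [Bool.and_eq_true] at hf
      have hab := List.all_eq_true.1 (List.all_eq_true.1 hf.2 a haz) b hbB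
      simp only [Bool.and_eq_true, Bool.not_eq_true'] at hab
      have hlt := B.sys.cod.lt a ha b hb
      have hsq : (c a * c b) * (c a * c b) = 1 := by
        rw [B.sys.cod.mul a ha b hb, B.sys.cod.mul _ hlt _ hlt, Nat.eq_of_beq_eq_true hab.1, B.sys.cod.one]
      have hsq2 : (c a * c b) ^ (2 : ℤ) = 1 := by rw [zpow_two, hsq]
      obtain ⟨j, rfl | rfl⟩ := Int.even_or_odd' k
      · rw [zpow_mul, hsq2, one_zpow] at hk
        exact Invol.ne_one B.sys.hz hk.symm
      · rw [zpow_add, zpow_mul, hsq2, one_zpow, one_mul, zpow_one, B.sys.cod.mul a ha b hb] at hk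
        rw [B.sys.cod.eq_z hlt hk] at hab
        exact absurd hab.2 (by simp)
    exact Nat.card_of_isEmpty
  have hord := B.order_eq 224 h224 hb2 hB {16, 224, 1, 32, 33} hR (by simp) (by simp) (fun t ht => by
    rcases B.reps ht with h | h | h | h | h
    exacts [⟨16, by simp, h⟩, ⟨224, by simp, h⟩, ⟨1, by simp, h⟩, ⟨32, by simp, h⟩, ⟨33, by simp, h⟩])
    (fun r hr r' hr' h => by
    obtain ⟨h1, h2⟩ := B.conj_psi (hR r hr).1 (hR r' hr').1 h
    by_cases hpair : (r = 16 ∧ r' = 224) ∨ (r = 224 ∧ r' = 16)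
    · exfalso
      rcases hpair with ⟨rfl, rfl⟩ | ⟨rfl, rfl⟩
      · exact hB (by rw [B.sys.cod.zeq]; exact h)
      · exact hB (by rw [B.sys.cod.zeq]; exact h.symm)
    revert h1 h2 hpair
    clear h
    revert r r'
    decide +kernel) (by
    clear hR
    decide +kernel)
  rw [hNz, mul_zero, zero_add, pairs_count B.sys.hz hb2 hB hub, pairs_in Y _ hinv,
    card_odd_pairs hV4 hVsq hCY hodd, B.card_eq] at hord
  rcases hcases with ⟨-, h2⟩ | ⟨-, h2⟩ | ⟨h1, hp, h2⟩ <;> rw [h2] at hord
  · left; omega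
  · left; omega
  · right
    refine ⟨Y, by omega, hY1, hY2, hY3, h1, hp, by rw [hY6, h1], hY7, fun y hy hyz => ?_,
      fun w hw hw1 y hy hyw => hY4 y (hcent w hw hw1 y (hY1 hy) hyw) hy⟩
    exact hY4 y (hcent z ((mem_fourSub B.sys.cod).2 (Or.inr (Or.inl rfl))) (Invol.ne_one B.sys.hz) y (hY1 hy) hyz) hy

end CfsgLib.ChzL34
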