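import Mathlib

/-! Subgroups of order 24 of the symmetric group of degree five fix a point. -/

set_option autoImplicit false
set_option maxRecDepth 100000

namespace CfsgLib.ChzL34

open MulAction Equiv

theorem pair_stab : ∀ a b : Fin 5, a ≠ b →
    (Finset.univ.filter fun σ : Perm (Fin 5) => (σ a = a ∧ σ b = b) ∨ (σ a = b ∧ σ b = a)).card ≤ 12 := by
  decide +kernel

theorem exists_fixed (K : Subgroup (Perm (Fin 5))) (hK : Nat.card K = 24) :
    ∃ p : Fin 5, ∀ σ ∈ K, σ p = p := by
  classical
  by_contra hcon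
  push Not at hcon
  -- no orbit of one or two points
  have h3 : ∀ p : Fin 5, 3 ≤ (orbit K p).ncard := by
    intro p
    obtain ⟨σ, hσ, hne⟩ := hcon p
    by_contra hlt
    have hsub : ({p, σ p} : Set (Fin 5)) ⊆ orbit K p := by
      rintro x (rfl | rfl)
      · exact mem_orbit_self _
      · exact ⟨⟨σ, hσ⟩, rfl⟩
    have h2 : ({p, σ p} : Set (Fin 5)).ncard = 2 := Set.ncard_pair hne.symm
    have heq : ({p, σ p} : Set (Fin 5)) = orbit K p :=
      Set.eq_of_subset_of_ncard_le hsub (by omega)
    have hle : Nat.card K ≤ 12 := by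
      have hmem : ∀ τ : K, (τ : Perm (Fin 5)) ∈ Finset.univ.filter fun τ : Perm (Fin 5) =>
          (τ p = p ∧ τ (σ p) = σ p) ∨ (τ p = σ p ∧ τ (σ p) = p) := by
        intro τ
        simp only [Finset.mem_filter, Finset.mem_univ, true_and]
        have m1 : (τ : Perm (Fin 5)) p ∈ ({p, σ p} : Set (Fin 5)) := heq ▸ ⟨τ, rfl⟩
        have m2 : (τ : Perm (Fin 5)) (σ p) ∈ ({p, σ p} : Set (Fin 5)) :=
          heq ▸ ⟨τ * ⟨σ, hσ⟩, rfl⟩
        rcases m1 with m1 | m1 <;> rcases m2 with m2 | m2
        · exact absurd ((τ : Perm (Fin 5)).injective (m1.trans m2.symm)) hne.symm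
        · exact Or.inl ⟨m1, m2⟩
        · exact Or.inr ⟨m1, m2⟩
        · exact absurd ((τ : Perm (Fin 5)).injective (m1.trans m2.symm)) hne.symm
      refine le_trans ?_ (pair_stab p (σ p) hne.symm)
      rw [← Fintype.card_coe, ← Nat.card_eq_fintype_card]
      exact Nat.card_le_card_of_injective (fun τ => ⟨τ.1, hmem τ⟩)
        fun τ τ' h => Subtype.ext (Subtype.mk.inj h :)
    omega
  -- orbits of at least three points: a single orbit
  have hu : orbit K (0 : Fin 5) = Set.univ := by
    by_contra hne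
    obtain ⟨q, hq⟩ := (Set.ne_univ_iff_exists_notMem _).1 hne
    have hd : Disjoint (orbit K (0 : Fin 5)) (orbit K q) := by
      rw [Set.disjoint_left]
      intro x h0 h1
      exact hq ((orbit_eq_iff.2 h0).symm.trans (orbit_eq_iff.2 h1) ▸ mem_orbit_self q)
    have := Set.ncard_union_eq hd (Set.toFinite _) (Set.toFinite _)
    have h5 : (orbit K (0 : Fin 5) ∪ orbit K q).ncard ≤ 5 := by
      refine (Set.ncard_le_ncard (Set.subset_univ _)).trans ?_
      simp [Set.ncard_univ]
    have := h3 0
    have := h3 q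
    omega
  have h := index_stabilizer (G := K) (0 : Fin 5)
  rw [hu, Set.ncard_univ, Nat.card_fin] at h
  have := (stabilizer K (0 : Fin 5)).card_mul_index
  rw [h, hK] at this
  omega

end CfsgLib.ChzL34
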