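import Cfsg.Agent.ChzL34.Frame
import Cfsg.Agent.ChzL34.Label
import Cfsg.Agent.FGSA.MinusThirtyTwo
import Cfsg.Agent.Invol.Isolated

/-! Coordinates on the centraliser of the involution. -/

set_option autoImplicit false
set_option linter.unusedSectionVars false
set_option linter.style.haveILetI false
set_option maxRecDepth 100000

namespace CfsgLib.ChzL34

open Subgroup

variable {G : Type*} [Group G]

/-- Coordinates on the centralizer of `z` by the numbers below 768. -/
structure Cod (z : G) (tw : Nat) (c : Nat → G) : Prop where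
  tlt : tw < 4
  mem : ∀ n, n < 768 → c n * z = z * c n
  one : c 0 = 1
  zeq : z = c 16
  lt : ∀ p, p < 768 → ∀ q, q < 768 → m tw p q < 768
  mul : ∀ p, p < 768 → ∀ q, q < 768 → c p * c q = c (m tw p q)
  inj : ∀ p, p < 768 → ∀ q, q < 768 → c p = c q → p = q
  surj : ∀ x, x * z = z * x → ∃ p < 768, x = c p

theorem node_perm : ((List.range 24).all fun g => (List.range 24).all fun h =>
    ((List.range 4).all fun k => Nat.beq (prm g k) (prm h k)) == Nat.beq g h) = true := by
  decide +kernel

theorem gperm_sigma : ∀ l : Bool, ∀ k : Fin 4,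
    ((cond l (Equiv.swap (0 : Fin 5) 1) (Equiv.swap 0 1 * Equiv.swap 1 2 * Equiv.swap 2 3))
      k.castSucc).val = gperm l k.val ∧
    ((cond l (Equiv.swap (0 : Fin 5) 1) (Equiv.swap 0 1 * Equiv.swap 1 2 * Equiv.swap 2 3))
      k.castSucc).val < 4 ∧
    (cond l (Equiv.swap (0 : Fin 5) 1) (Equiv.swap 0 1 * Equiv.swap 1 2 * Equiv.swap 2 3))
      (Fin.last 4) = Fin.last 4 := by
  decide

theorem relw_perm : ((List.range 3).all fun k => (List.range 5).all fun i =>
    Nat.beq ((relw k).foldr gperm i) i) = true := by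
  decide +kernel

variable [Finite G]

/-- The centraliser is one of the four coordinate groups. -/
theorem exists_cod (z : G) (hz : orderOf z = 2)
    (E : Subgroup ↥(centralizer ({z} : Set G))) [hEn : E.Normal] (hE : Cfsg.IsExtraspecial 2 ↥E)
    (hE32 : Nat.card ↥E = 32)
    (hEminus : ∀ A : Subgroup ↥E, Cfsg.IsElementaryAbelian 2 A → Nat.card ↥A ≠ 8)
    (hCE : centralizer (E : Set ↥(centralizer ({z} : Set G))) ≤ E)
    (e : (↥(centralizer ({z} : Set G)) ⧸ E) ≃* Equiv.Perm (Fin 4)) :
    ∃ tw c, Cod z tw c := by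
  classical
  haveI : Fact (Nat.Prime 2) := ⟨Nat.prime_two⟩
  -- the central involution
  have hzC : z ∈ (centralizer ({z} : Set G)) := mem_centralizer_singleton_iff.2 rfl
  set w : ↥(centralizer ({z} : Set G)) := ⟨z, hzC⟩
  have wcen : ∀ g : ↥(centralizer ({z} : Set G)), g * w = w * g := fun g =>
    Subtype.ext (mem_centralizer_singleton_iff.1 g.2)
  have ww : w * w = 1 := Subtype.ext (Invol.mul_self_eq_one hz)
  have w1 : w ≠ 1 := fun h => Invol.ne_one hz (congrArg Subtype.val h)
  have wE : w ∈ E := hCE (mem_centralizer_iff.2 fun g _ => wcen g)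
  set wq : ↥E := ⟨w, wE⟩
  have wq1 : wq ≠ 1 := fun h => w1 (congrArg Subtype.val h)
  have wqc : wq ∈ center ↥E := mem_center_iff.2 fun g => Subtype.ext (wcen g)
  -- only elementary abelian subgroups of order at most four
  have h4 : ∀ A : Subgroup ↥E, Cfsg.IsElementaryAbelian 2 A → Nat.card ↥A ≤ 4 := by
    intro A hA
    obtain ⟨n, hn⟩ : ∃ n, Nat.card ↥A = 2 ^ n := by
      obtain ⟨d, -, hd⟩ := (Nat.dvd_prime_pow Nat.prime_two).1
        (show Nat.card ↥A ∣ 2 ^ 5 by rw [show (2 : ℕ) ^ 5 = Nat.card ↥E by rw [hE32]; norm_num]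
                                     exact card_subgroup_dvd_card A)
      exact ⟨d, hd⟩
    by_contra hlt
    have hn3 : 3 ≤ n := by
      by_contra h3
      have : 2 ^ n ≤ 2 ^ 2 := Nat.pow_le_pow_right two_pos (by omega)
      omega
    obtain ⟨B, hB⟩ := Sylow.exists_subgroup_card_pow_prime (G := ↥A) 2 (n := 3)
      (hn ▸ pow_dvd_pow 2 hn3)
    refine hEminus (B.map A.subtype) ?_ (by rw [card_map_of_injective A.subtype_injective, hB]; norm_num)
    refine ⟨⟨⟨fun x y => Subtype.ext ?_⟩⟩, ?_⟩
    · obtain ⟨_, x', -, rfl⟩ := x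
      obtain ⟨_, y', -, rfl⟩ := y
      show A.subtype x' * A.subtype y' = A.subtype y' * A.subtype x'
      rw [← map_mul, ← map_mul, hA.1.is_comm.comm x' y']
    · rintro _ ⟨x, -, rfl⟩
      exact hA.2 _ x.2
  obtain ⟨-, hker, -, -⟩ := MinusThirtyTwo.aut_structure hE hE32 h4
  have h5 := MinusThirtyTwo.card_classes hE hE32 h4
  obtain ⟨e0⟩ : Nonempty (Fin 5 ≃ MinusThirtyTwo.Classes ↥E) := ⟨(Finite.equivFinOfCardEq h5).symm⟩
  -- the action on the five classes
  set χ : ↥(centralizer ({z} : Set G)) →* Equiv.Perm (MinusThirtyTwo.Classes ↥E) :=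
    (MinusThirtyTwo.rho hE).comp MulAut.conjNormal with hχ
  have hconj : ∀ x : ↥E, (MulAut.conjNormal (x : ↥(centralizer ({z} : Set G))) : MulAut ↥E) = MulAut.conj x := fun x =>
    MulEquiv.ext fun y => Subtype.ext (by simp [MulAut.conjNormal_apply])
  have kerE : ∀ g, χ g = 1 ↔ g ∈ E := by
    refine fun g => ⟨fun h => ?_, fun h => ?_⟩
    · obtain ⟨x, hx⟩ : (MulAut.conjNormal g : MulAut ↥E) ∈ (MulAut.conj : ↥E →* MulAut ↥E).range :=
        hker ▸ MonoidHom.mem_ker.2 h
      have : (x : ↥(centralizer ({z} : Set G)))⁻¹ * g ∈ centralizer (E : Set ↥(centralizer ({z} : Set G))) := mem_centralizer_iff.2 fun y hy => by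
        have h1 := congrArg (fun φ : MulAut ↥E => ((φ ⟨y, hy⟩ : ↥E) : ↥(centralizer ({z} : Set G)))) hx
        simp only [MulAut.conjNormal_apply, MulAut.conj_apply, Subgroup.coe_mul, coe_inv] at h1
        calc y * ((x : ↥(centralizer ({z} : Set G)))⁻¹ * g) = (x : ↥(centralizer ({z} : Set G)))⁻¹ * ((x : ↥(centralizer ({z} : Set G))) * y * (x : ↥(centralizer ({z} : Set G)))⁻¹) * g := by group
          _ = _ := by rw [h1]; group
      simpa using mul_mem x.2 (hCE this)
    · show MinusThirtyTwo.rho hE _ = 1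
      rw [show g = ((⟨g, h⟩ : ↥E) : ↥(centralizer ({z} : Set G))) from rfl, hconj]
      exact MinusThirtyTwo.conj_mem_ker hE _
  have hCcard : Nat.card ↥(centralizer ({z} : Set G)) = 768 := by
    have := E.card_mul_index
    rw [hE32, index_eq_card, Nat.card_congr e.toEquiv, Nat.card_perm, Nat.card_fin] at this
    rw [← this]
    rfl
  have hrange : Nat.card χ.range = 24 := by
    have hk : χ.ker = E := Subgroup.ext fun g => (MonoidHom.mem_ker).trans (kerE g)
    have := E.card_mul_index
    rw [← index_ker, hk]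
    rw [hE32, hCcard] at this
    omega
  -- a labelling with the last class fixed
  obtain ⟨p, hp⟩ := exists_fixed (χ.range.map e0.symm.permCongrHom.toMonoidHom)
    (by rw [card_map_of_injective e0.symm.permCongrHom.injective, hrange])
  set el5 : Fin 5 ≃ MinusThirtyTwo.Classes ↥E := (Equiv.swap (Fin.last 4) p).trans e0 with hel5
  have hfix : ∀ g, χ g (el5 (Fin.last 4)) = el5 (Fin.last 4) := by
    intro g
    have := hp _ ⟨_, ⟨g, rfl⟩, rfl⟩
    have h' : e0.symm (χ g (e0 p)) = p := by simpa [Equiv.permCongr_apply] using this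
    rw [Equiv.symm_apply_eq] at h'
    simpa [hel5] using h'
  -- the permutation group is all of the stabiliser
  have hfull : ∀ σ : Equiv.Perm (Fin 5), σ (Fin.last 4) = Fin.last 4 →
      ∃ g, ∀ k, χ g (el5 k) = el5 (σ k) := by
    intro σ hσ
    let K := χ.range.map el5.symm.permCongrHom.toMonoidHom
    have hKle : K ≤ MulAction.stabilizer (Equiv.Perm (Fin 5)) (Fin.last 4) := by
      rintro _ ⟨_, ⟨g, rfl⟩, rfl⟩
      show el5.symm (χ g (el5 (Fin.last 4))) = Fin.last 4
      rw [hfix, Equiv.symm_apply_apply]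
    have hS : Nat.card (MulAction.stabilizer (Equiv.Perm (Fin 5)) (Fin.last 4)) ≤ 24 := by
      have h := MulAction.index_stabilizer (G := Equiv.Perm (Fin 5)) (Fin.last 4)
      have := (MulAction.stabilizer (Equiv.Perm (Fin 5)) (Fin.last 4)).card_mul_index
      rw [h, MulAction.orbit_eq_univ, Set.ncard_univ, Nat.card_fin, Nat.card_perm, Nat.card_fin] at this
      rw [show Nat.factorial 5 = 120 from rfl] at this
      omega
    have heq := eq_of_le_of_card_ge hKle (by
      rw [card_map_of_injective el5.symm.permCongrHom.injective, hrange]; exact hS)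
    obtain ⟨_, ⟨g, rfl⟩, hg⟩ := heq.ge (show σ ∈ MulAction.stabilizer _ (Fin.last 4) from hσ)
    refine ⟨g, fun k => ?_⟩
    rw [← hg]
    simp [Equiv.permCongr_apply]
  set q : Fin 4 → MinusThirtyTwo.Classes ↥E := fun k => el5 k.castSucc with hq
  have hqi : Function.Injective q := el5.injective.comp (Fin.castSucc_injective 4)
  set b : Fin 4 → ↥E := fun k => (q k).1.out
  have T : MinusThirtyTwo.Tuple wq b := MinusThirtyTwo.tuple hE hE32 h4 wqc wq1 q hqi
  -- lifts of the two generators
  have hlift : ∀ l : Bool, ∃ g : ↥(centralizer ({z} : Set G)), ∀ k : Fin 4, ∃ k' : Fin 4, k'.val = gperm l k.val ∧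
      g * (b k : ↥(centralizer ({z} : Set G))) = (b k' : ↥(centralizer ({z} : Set G))) * g := by
    intro l
    set σ : Equiv.Perm (Fin 5) :=
      cond l (Equiv.swap (0 : Fin 5) 1) (Equiv.swap 0 1 * Equiv.swap 1 2 * Equiv.swap 2 3)
    obtain ⟨g, hg⟩ := hfull σ (gperm_sigma l 0).2.2
    let k' : Fin 4 → Fin 4 := fun k => ⟨(σ k.castSucc).val, (gperm_sigma l k).2.1⟩
    have hk' : ∀ k, (k' k).castSucc = σ k.castSucc := fun k => Fin.ext rfl
    have hk'i : Function.Injective k' := fun x y h => by
      have := congrArg Fin.castSucc h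
      rw [hk', hk'] at this
      exact Fin.castSucc_injective 4 (σ.injective this)
    obtain ⟨φ, hφ⟩ := MinusThirtyTwo.exists_aut hE32 T
      (MinusThirtyTwo.tuple hE hE32 h4 wqc wq1 (fun k => q (k' k)) (hqi.comp hk'i))
    have h4eq : ∀ k : Fin 4, MinusThirtyTwo.rho hE φ (q k) = χ g (q k) := by
      intro k
      rw [hq]
      simp only [hg, ← hk']
      refine Subtype.ext ?_
      rw [MinusThirtyTwo.rho_out]
      show ((φ (b k) : ↥E) : ↥E ⧸ center ↥E) = _
      rw [hφ k]
      exact QuotientGroup.out_eq' _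
    have hrho : MinusThirtyTwo.rho hE φ = χ g := by
      refine Equiv.ext fun x => ?_
      obtain ⟨k, rfl⟩ := el5.surjective x
      induction k using Fin.lastCases with
      | cast k => exact h4eq k
      | last =>
        rw [hfix]
        obtain ⟨y, hy⟩ := el5.surjective (MinusThirtyTwo.rho hE φ (el5 (Fin.last 4)))
        rw [← hy]
        induction y using Fin.lastCases with
        | last => rfl
        | cast y =>
          exfalso
          obtain ⟨y', hy'⟩ : ∃ y' : Fin 4, k' y' = y := (Finite.injective_iff_surjective.1 hk'i) y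
          have e1 : MinusThirtyTwo.rho hE φ (el5 y'.castSucc) = el5 y.castSucc := by
            rw [h4eq y']
            show χ g (el5 _) = _
            rw [hg, ← hk', hy']
          exact (Fin.castSucc_lt_last y').ne
            (el5.injective ((MinusThirtyTwo.rho hE φ).injective (e1.trans hy)))
    obtain ⟨x, hx⟩ : (MulAut.conjNormal g : MulAut ↥E)⁻¹ * φ ∈ (MulAut.conj : ↥E →* MulAut ↥E).range := by
      rw [hker, MonoidHom.mem_ker, map_mul, map_inv, hrho]
      exact inv_mul_cancel _
    have hφeq : φ = MulAut.conjNormal (g * (x : ↥(centralizer ({z} : Set G)))) := by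
      rw [map_mul, hconj, hx, mul_inv_cancel_left]
    refine ⟨g * x, fun k => ⟨k' k, (gperm_sigma l k).1, ?_⟩⟩
    have h1 := congrArg (fun y : ↥E => (y : ↥(centralizer ({z} : Set G)))) (hφ k)
    rw [hφeq] at h1
    simp only [MulAut.conjNormal_apply] at h1
    rw [← show (g * (x : ↥(centralizer ({z} : Set G)))) * (b k : ↥(centralizer ({z} : Set G))) * (g * (x : ↥(centralizer ({z} : Set G))))⁻¹ = (b (k' k) : ↥(centralizer ({z} : Set G))) from h1]
    group
  obtain ⟨s0, hs0⟩ := hlift false
  obtain ⟨t, ht⟩ := hlift true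
  set a : Fin 4 → ↥(centralizer ({z} : Set G)) := fun k => (b k : ↥(centralizer ({z} : Set G))) with ha
  have hgen : ∀ g : ↥(centralizer ({z} : Set G)), (∀ k, g * a k = a k * g) → g ∈ centralizer (E : Set ↥(centralizer ({z} : Set G))) := by
    intro g hg
    refine mem_centralizer_iff.2 fun y hy => ?_
    have hmem : (⟨y, hy⟩ : ↥E) ∈ MinusThirtyTwo.chain wq b 4 := (T.gen hE32).symm ▸ mem_top _
    have := MinusThirtyTwo.chain_le (K := (centralizer ({g} : Set ↥(centralizer ({z} : Set G)))).subgroupOf E)
      (mem_subgroupOf.2 (mem_centralizer_singleton_iff.2 (wcen g).symm))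
      (fun k _ => mem_subgroupOf.2 (mem_centralizer_singleton_iff.2 (hg k).symm)) hmem
    exact mem_centralizer_singleton_iff.1 (mem_subgroupOf.1 this)
  have hfix2 : ∀ g : ↥(centralizer ({z} : Set G)), (∀ k, g * a k = a k * g) → g = 1 ∨ g = w := by
    intro g hg
    have hc := hgen g hg
    have hgE := hCE hc
    have hgc : (⟨g, hgE⟩ : ↥E) ∈ center ↥E :=
      mem_center_iff.2 fun y => Subtype.ext (mem_centralizer_iff.1 hc y y.2)
    obtain ⟨u, hu⟩ := (Nat.card_eq_two_iff' (1 : center ↥E)).1 hE.2
    by_cases h : (⟨⟨g, hgE⟩, hgc⟩ : center ↥E) = 1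
    · exact Or.inl (congrArg (fun y : center ↥E => ((y : ↥E) : ↥(centralizer ({z} : Set G)))) h)
    · have := (hu.2 _ h).trans (hu.2 (⟨wq, wqc⟩ : center ↥E)
        fun h' => wq1 (congrArg (fun y : center ↥E => (y : ↥E)) h')).symm
      exact Or.inr (congrArg (fun y : center ↥E => ((y : ↥E) : ↥(centralizer ({z} : Set G)))) this)
  -- letters and words
  have hletter : ∀ (l : Bool) (g : ↥(centralizer ({z} : Set G))), (∀ k : Fin 4, ∃ k' : Fin 4, k'.val = gperm l k.val ∧
      g * (b k : ↥(centralizer ({z} : Set G))) = (b k' : ↥(centralizer ({z} : Set G))) * g) →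
      ∀ k, k < 5 → g * letter w a k = letter w a (gperm l k) * g := by
    intro l g hg k hk
    have hv : ∀ j : Fin 4, letter w a j.val = a j := fun j => by fin_cases j <;> rfl
    rcases Nat.lt_or_ge k 4 with h | h
    · obtain ⟨k', e1, e2⟩ := hg ⟨k, h⟩
      simp only at e1
      rw [show letter w a k = a ⟨k, h⟩ from hv ⟨k, h⟩, ← e1, hv k']
      exact e2
    · obtain rfl : k = 4 := by omega
      cases l <;> exact wcen g
  have hw : ∀ (ls : List Bool) (s t : ↥(centralizer ({z} : Set G))), (∀ k, k < 5 → s * letter w a k = letter w a (gperm false k) * s) →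
      (∀ k, k < 5 → t * letter w a k = letter w a (gperm true k) * t) → ∀ k, k < 5 →
      ls.foldr gperm k < 5 ∧
        (ls.map (gen s t)).prod * letter w a k = letter w a (ls.foldr gperm k) * (ls.map (gen s t)).prod := by
    intro ls s t hS hT
    induction ls with
    | nil => intro k hk; exact ⟨hk, by simp⟩
    | cons l ls ih =>
      intro k hk
      obtain ⟨h1, h2⟩ := ih k hk
      have hlt : gperm l (ls.foldr gperm k) < 5 := by
        revert h1
        generalize ls.foldr gperm k = r
        intro h1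
        cases l <;> interval_cases r <;> decide
      refine ⟨hlt, ?_⟩
      have hgl : gen s t l * letter w a (ls.foldr gperm k) =
          letter w a (gperm l (ls.foldr gperm k)) * gen s t l := by
        cases l
        · exact hS _ h1
        · exact hT _ h1
      rw [List.map_cons, List.prod_cons, List.foldr_cons, mul_assoc, h2, ← mul_assoc, hgl, mul_assoc]
  have hcs := hletter false s0 hs0
  have hct := hletter true t ht
  have hrel : ∀ k, k < 3 → ∀ s : ↥(centralizer ({z} : Set G)), (∀ j, j < 5 → s * letter w a j = letter w a (gperm false j) * s) →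
      ((relw k).map (gen s t)).prod = 1 ∨ ((relw k).map (gen s t)).prod = w := by
    intro k hk s hS
    refine hfix2 _ fun j => ?_
    have h := (hw (relw k) s t hS hct j.val (by omega)).2
    have he := List.all_eq_true.1 (List.all_eq_true.1 relw_perm k (List.mem_range.2 hk)) j.val
      (List.mem_range.2 (by omega))
    rw [Nat.eq_of_beq_eq_true he, show letter w a j.val = a j by fin_cases j <;> rfl] at h
    exact h
  have hmem2 : ∀ y : ↥(centralizer ({z} : Set G)), y = 1 ∨ y = w → ∃ d, y = zp w d := by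
    rintro y (rfl | rfl)
    exacts [⟨false, rfl⟩, ⟨true, rfl⟩]
  -- normalise the product of order three
  obtain ⟨d, hd⟩ := hmem2 _ (hrel 2 (by norm_num) s0 hcs)
  have hS' : ∀ k, k < 5 → zp w d * s0 * letter w a k = letter w a (gperm false k) * (zp w d * s0) := by
    intro k hk
    have hz' : ∀ g : ↥(centralizer ({z} : Set G)), g * zp w d = zp w d * g := fun g => by cases d <;> simp [zp, wcen]
    rw [mul_assoc, hcs k hk, ← mul_assoc, ← hz', mul_assoc]
  set s := zp w d * s0 with hs
  obtain ⟨i, hi⟩ := hmem2 _ (hrel 0 (by norm_num) s hS')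
  obtain ⟨j, hj⟩ := hmem2 _ (hrel 1 (by norm_num) s hS')
  have hST : s * (t * (s * (t * (s * t)))) = 1 := by
    have h0 : s0 * (t * (s0 * (t * (s0 * t)))) = zp w d := by
      simpa [relw, gen] using hd
    cases d
    · simpa [hs, zp] using h0
    · have h1 : s = w * s0 := rfl
      have hcm : ∀ g r : ↥(centralizer ({z} : Set G)), g * (w * r) = w * (g * r) := fun g r => by
        rw [← mul_assoc, wcen, mul_assoc]
      have hc2 : ∀ r : ↥(centralizer ({z} : Set G)), w * (w * r) = r := fun r => by rw [← mul_assoc, ww, one_mul]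
      rw [h1]
      simp only [mul_assoc, hcm, hc2]
      rw [h0]
      exact ww
  have F : Frame w a s t i j :=
    { cen := wcen
      zz := ww
      z1 := w1
      sq := fun k => by
        have := congrArg (fun y : ↥E => (y : ↥(centralizer ({z} : Set G)))) (T.ha k)
        simpa [ha, pow_two] using this
      tw := fun k l h => by
        simpa [ha] using congrArg (fun y : ↥E => (y : ↥(centralizer ({z} : Set G)))) (T.tw k l h)
      fix := hfix2
      conjS := hS'
      conjT := hct
      relS := by simpa [relw, gen] using hi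
      relT := by simpa [relw, gen] using hj
      relST := hST }
  have hphiE : ∀ x, phi w a x ∈ E := by
    intro x
    refine E.list_prod_mem fun y hy => ?_
    obtain ⟨k, hk, rfl⟩ := List.mem_map.1 hy
    have := Frame.bitsW_lt F hk
    interval_cases k <;> first | exact (b _).2 | exact wE
  -- the permutation of a node
  have hinjg : ∀ g h, g < 24 → h < 24 → ∀ x y : ↥(centralizer ({z} : Set G)), x ∈ E → y ∈ E →
      x * wd s t g = y * wd s t h → g = h := by
    intro g h hg hh x y hx hy hxy
    have hχ : χ (wd s t g) = χ (wd s t h) := by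
      have := congrArg χ hxy
      rwa [map_mul, map_mul, (kerE x).2 hx, (kerE y).2 hy, one_mul, one_mul] at this
    have hact : ∀ n, n < 24 → ∀ k : Fin 4, ∃ k' : Fin 4, k'.val = prm n k.val ∧
        χ (wd s t n) (q k) = q k' := by
      intro n hn k
      obtain ⟨hlt, hcj⟩ := F.wd_letter hn (show k.val < 5 by omega)
      have hlt4 : prm n k.val < 4 := by
        have := List.all_eq_true.1 (List.all_eq_true.1 (show ((List.range 24).all fun n =>
          (List.range 4).all fun k => Nat.blt (prm n k) 4) = true by decide +kernel) n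
          (List.mem_range.2 hn)) k.val (List.mem_range.2 k.2)
        simpa using this
      refine ⟨⟨prm n k.val, hlt4⟩, rfl, Subtype.ext ?_⟩
      show (MinusThirtyTwo.rho hE (MulAut.conjNormal (wd s t n)) (q k)).1 = _
      rw [MinusThirtyTwo.rho_out]
      have : MulAut.conjNormal (wd s t n) (b k) = b ⟨prm n k.val, hlt4⟩ := by
        refine Subtype.ext ?_
        rw [MulAut.conjNormal_apply, mul_inv_eq_iff_eq_mul]
        rw [show letter w a k.val = a k by fin_cases k <;> rfl,
          show letter w a (prm n k.val) = a ⟨prm n k.val, hlt4⟩ by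
            generalize prm n k.val = r at hlt4
            interval_cases r <;> rfl] at hcj
        exact hcj
      rw [this]
      exact QuotientGroup.out_eq' _
    have hk := List.all_eq_true.1 (List.all_eq_true.1 node_perm g (List.mem_range.2 hg)) h (List.mem_range.2 hh)
    rw [beq_iff_eq] at hk
    refine Nat.eq_of_beq_eq_true (hk ▸ List.all_eq_true.2 fun k hk' => ?_)
    have hk4 := List.mem_range.1 hk'
    obtain ⟨u, hu, hu'⟩ := hact g hg ⟨k, hk4⟩
    obtain ⟨v, hv, hv'⟩ := hact h hh ⟨k, hk4⟩
    rw [hχ, hv'] at hu'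
    show Nat.beq (prm g k) (prm h k) = true
    simp only at hu hv
    rw [← hu, ← hv, hqi hu']
    exact Nat.beq_refl _
  have hsurjphi : ∀ y ∈ E, ∃ x, x < 32 ∧ phi w a x = y := by
    intro y hy
    let K : Subgroup ↥(centralizer ({z} : Set G)) := Subgroup.closure {r | r = w ∨ ∃ k, r = a k}
    have hle : (MinusThirtyTwo.chain wq b 4).map E.subtype ≤ K := by
      rw [map_le_iff_le_comap]
      exact MinusThirtyTwo.chain_le (subset_closure (Or.inl rfl)) fun k _ =>
        subset_closure (Or.inr ⟨k, rfl⟩)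
    have hyK : y ∈ K := hle ⟨⟨y, hy⟩, (T.gen hE32).symm ▸ mem_top _, rfl⟩
    have hletters : ∀ r, (r = w ∨ ∃ k, r = a k) → ∃ x, x < 32 ∧ phi w a x = r := by
      rintro r (rfl | ⟨k, rfl⟩)
      · exact ⟨16, by norm_num, by simp [phi, bitsW, letter, Nat.testBit]⟩
      · refine ⟨2 ^ k.val, ?_, ?_⟩
        · fin_cases k <;> norm_num
        · fin_cases k <;> simp [phi, bitsW, letter, Nat.testBit]
    induction hyK using Subgroup.closure_induction with
    | mem r hr => exact hletters r hr
    | one => exact ⟨0, by norm_num, F.phi_zero⟩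
    | mul r r' hr hr' ih ih' =>
      obtain ⟨x, hx, rfl⟩ := ih (closure_mono (Set.Subset.refl _) hr |> fun _ => by
        exact (show K ≤ E from (closure_le _).2 (by
          rintro _ (rfl | ⟨k, rfl⟩)
          exacts [wE, (b k).2])) hr)
      obtain ⟨x', hx', rfl⟩ := ih' ((show K ≤ E from (closure_le _).2 (by
          rintro _ (rfl | ⟨k, rfl⟩)
          exacts [wE, (b k).2])) hr')
      exact ⟨_, (F.phi_mul hx hx').1, (F.phi_mul hx hx').2.symm⟩
    | inv r hr ih =>
      obtain ⟨x, hx, rfl⟩ := ih ((show K ≤ E from (closure_le _).2 (by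
          rintro _ (rfl | ⟨k, rfl⟩)
          exacts [wE, (b k).2])) hr)
      obtain ⟨x', hx', hxx⟩ : ∃ x', x' < 32 ∧ em x x' = 0 := by
        have := List.all_eq_true.1 (show ((List.range 32).all fun x =>
          (List.range 32).any fun x' => Nat.beq (em x x') 0) = true by decide +kernel) x (List.mem_range.2 hx)
        obtain ⟨x', h1, h2⟩ := List.any_eq_true.1 this
        exact ⟨x', List.mem_range.1 h1, Nat.eq_of_beq_eq_true h2⟩
      refine ⟨x', hx', eq_inv_of_mul_eq_one_right ?_⟩
      rw [(F.phi_mul hx hx').2, hxx, F.phi_zero]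
  have hphii : Function.Injective (fun x : Fin 32 => (⟨phi w a x, hphiE _⟩ : ↥E)) := by
    refine ((Nat.bijective_iff_surjective_and_card _).2 ⟨fun y => ?_, ?_⟩).1
    · obtain ⟨x, hx, hy⟩ := hsurjphi y y.2
      exact ⟨⟨x, hx⟩, Subtype.ext hy⟩
    · rw [hE32, Nat.card_fin]
  set c : Nat → G := fun n => ((el w a s t n : ↥(centralizer ({z} : Set G))) : G) with hc
  have hinj : ∀ p, p < 768 → ∀ r, r < 768 → c p = c r → p = r := by
    intro p hp r hr hpr
    obtain ⟨p1, p2, p3⟩ := Frame.el_split F hp
    obtain ⟨r1, r2, r3⟩ := Frame.el_split F hr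
    have h : el w a s t p = el w a s t r := Subtype.ext hpr
    have hg := hinjg _ _ p2 r2 _ _ (hphiE _) (hphiE _) h
    rw [el, el, hg] at h
    have h' : Nat.land p 31 = Nat.land r 31 := congrArg Fin.val
      (@hphii ⟨_, p1⟩ ⟨_, r1⟩ (Subtype.ext (mul_right_cancel h)))
    rw [← p3, ← r3, h', hg]
  refine ⟨twn i j, c,
    { tlt := by cases i <;> cases j <;> decide
      mem := fun n _ => congrArg Subtype.val (wcen _)
      one := by simp [hc, el, phi, bitsW, wd, wtab]
      zeq := by simp [hc, el, phi, bitsW, wd, wtab, letter, Nat.testBit]; rfl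
      lt := fun p hp r hr => (F.el_mul hp hr).1
      mul := fun p hp r hr => congrArg Subtype.val (F.el_mul hp hr).2
      inj := hinj
      surj := fun x hx => ?_ }⟩
  have hb : Function.Bijective (fun n : Fin 768 => el w a s t n.val) := by
    refine (Nat.bijective_iff_injective_and_card _).2 ⟨fun p r h => Fin.ext
      (hinj _ p.2 _ r.2 (congrArg Subtype.val h)), by rw [hCcard, Nat.card_fin]⟩
  obtain ⟨n, hn⟩ := hb.2 ⟨x, mem_centralizer_singleton_iff.2 hx⟩
  exact ⟨n.val, n.2, (congrArg Subtype.val hn).symm⟩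

end CfsgLib.ChzL34
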