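import Cfsg.Agent.ChzL34.Tables

/-! Coordinates from four anticommuting involutions and two automorphism-lifts. -/

set_option autoImplicit false
set_option linter.unusedSectionVars false
set_option maxRecDepth 100000

namespace CfsgLib.ChzL34

variable {X : Type*} [Group X]

/-- The five basic elements. -/
def letter (z : X) (a : Fin 4 → X) (i : Nat) : X := ([a 0, a 1, a 2, a 3] : List X).getD i z

/-- The element of the extraspecial group with given coordinates. -/
noncomputable def phi (z : X) (a : Fin 4 → X) (x : Nat) : X := ((bitsW x).map (letter z a)).prod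

/-- The lift of a generator. -/
def gen (s t : X) (l : Bool) : X := cond l t s

/-- The lift of a node. -/
def wd (s t : X) (g : Nat) : X := ((wtab.getD g []).map (gen s t)).prod

/-- The element with given coordinates. -/
noncomputable def el (z : X) (a : Fin 4 → X) (s t : X) (n : Nat) : X :=
  phi z a (Nat.land n 31) * wd s t (Nat.shiftRight n 5)

/-- The central element of a bit. -/
def zp (z : X) (b : Bool) : X := cond b z 1

/-- Four anticommuting involutions with two lifts of generators of their symmetric group. -/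
structure Frame (z : X) (a : Fin 4 → X) (s t : X) (i j : Bool) : Prop where
  cen : ∀ g : X, g * z = z * g
  zz : z * z = 1
  z1 : z ≠ 1
  sq : ∀ k, a k * a k = 1
  tw : ∀ k l, k ≠ l → a k * a l = z * (a l * a k)
  fix : ∀ g : X, (∀ k, g * a k = a k * g) → g = 1 ∨ g = z
  conjS : ∀ k, k < 5 → s * letter z a k = letter z a (gperm false k) * s
  conjT : ∀ k, k < 5 → t * letter z a k = letter z a (gperm true k) * t
  relS : s * (s * (s * s)) = zp z i
  relT : t * t = zp z j
  relST : s * (t * (s * (t * (s * t)))) = 1

/-- The sign of moving a letter into place. -/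
def sgn (x k : Nat) : Nat :=
  cond (((List.range 4).filter fun i => decide (k < i) && x.testBit i).length % 2 == 1) 16 0

theorem shiftStep : ((List.range 32).all fun x => (List.range 5).all fun k =>
    Nat.beq (em x (2 ^ k)) (Nat.xor (Nat.xor x (2 ^ k)) (cond (k == 4) 0 (sgn x k)))) = true := by
  decide +kernel

theorem perm_step : ((List.range 24).all fun g => [false, true].all fun l => (List.range 5).all fun k =>
    Nat.beq (prm g (gperm l k)) (prm (stp g l) k)) = true := by
  decide +kernel

namespace Frame

variable {z : X} {a : Fin 4 → X} {s t : X} {i j : Bool} (F : Frame z a s t i j)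

include F

theorem zp_mul (b c : Bool) : zp z b * zp z c = zp z (Bool.xor b c) := by
  cases b <;> cases c <;> simp [zp, F.zz]

theorem zp_comm (b : Bool) (g : X) : g * zp z b = zp z b * g := by
  cases b <;> simp [zp, F.cen]

theorem zp_inj {b c : Bool} (h : zp z b = zp z c) : b = c := by
  cases b <;> cases c <;> simp_all [zp, F.z1, Ne.symm F.z1]

set_option maxHeartbeats 4000000 in
set_option linter.unusedSimpArgs false in
theorem phi_step {x k : Nat} (hx : x < 32) (hk : k < 5) :
    phi z a x * letter z a k = phi z a (em x (2 ^ k)) := by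
  have he := List.all_eq_true.1 (List.all_eq_true.1 shiftStep x (List.mem_range.2 hx)) k (List.mem_range.2 hk)
  rw [Nat.eq_of_beq_eq_true he]
  have s0 := F.sq 0
  have s1 := F.sq 1
  have s2 := F.sq 2
  have s3 := F.sq 3
  have s0' : ∀ r, a 0 * (a 0 * r) = r := fun r => by rw [← mul_assoc, F.sq, one_mul]
  have s1' : ∀ r, a 1 * (a 1 * r) = r := fun r => by rw [← mul_assoc, F.sq, one_mul]
  have s2' : ∀ r, a 2 * (a 2 * r) = r := fun r => by rw [← mul_assoc, F.sq, one_mul]
  have s3' : ∀ r, a 3 * (a 3 * r) = r := fun r => by rw [← mul_assoc, F.sq, one_mul]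
  have szz : ∀ r, z * (z * r) = r := fun r => by rw [← mul_assoc, F.zz, one_mul]
  have c : ∀ k, a k * z = z * a k := fun k => F.cen _
  have c' : ∀ k r, a k * (z * r) = z * (a k * r) := fun k r => by rw [← mul_assoc, F.cen, mul_assoc]
  have w : ∀ k l, l < k → a k * a l = z * (a l * a k) := fun k l h => F.tw k l h.ne'
  have w' : ∀ k l, l < k → ∀ r, a k * (a l * r) = z * (a l * (a k * r)) := fun k l h r => by
    rw [← mul_assoc, w k l h, mul_assoc, mul_assoc]
  have w10 := w 1 0 (by decide)
  have w20 := w 2 0 (by decide)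
  have w21 := w 2 1 (by decide)
  have w30 := w 3 0 (by decide)
  have w31 := w 3 1 (by decide)
  have w32 := w 3 2 (by decide)
  have v10 := w' 1 0 (by decide)
  have v20 := w' 2 0 (by decide)
  have v21 := w' 2 1 (by decide)
  have v30 := w' 3 0 (by decide)
  have v31 := w' 3 1 (by decide)
  have v32 := w' 3 2 (by decide)
  have hzz := F.zz
  interval_cases x <;> interval_cases k <;>
    simp [phi, bitsW, letter, sgn, List.range_succ, Nat.testBit, mul_assoc, s0, s1, s2, s3, s0',
      s1', s2', s3', szz, hzz, c, c', w10, w20, w21, w30, w31, w32, v10, v20, v21, v30, v31, v32]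

theorem bitsW_lt {x k : Nat} (h : k ∈ bitsW x) : k < 5 := by
  simp only [bitsW, List.mem_append] at h
  rcases h with (((h | h) | h) | h) | h <;>
    revert h <;> cases x.testBit _ <;> simp <;> omega

theorem phi_zero : phi z a 0 = 1 := by simp [phi, bitsW]

theorem phi_fold (l : List Nat) : ∀ (x : Nat), x < 32 → (∀ k ∈ l, k < 5) →
    l.foldl (fun b k => em b (2 ^ k)) x < 32 ∧
      phi z a (l.foldl (fun b k => em b (2 ^ k)) x) = phi z a x * (l.map (letter z a)).prod := by
  induction l with
  | nil => intro x hx _; exact ⟨hx, by simp⟩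
  | cons k l ih =>
    intro x hx hl
    have hk := hl k (by simp)
    have hlt : em x (2 ^ k) < 32 := by
      have hp : 2 ^ k < 32 := by
        calc 2 ^ k < 2 ^ 5 := Nat.pow_lt_pow_right one_lt_two hk
          _ = 32 := rfl
      have h := List.all_eq_true.1 (List.all_eq_true.1 em_ok x (List.mem_range.2 hx)) _ (List.mem_range.2 hp)
      simp only [Bool.and_eq_true, Nat.blt_eq] at h
      exact h.2
    obtain ⟨h1, h2⟩ := ih _ hlt fun k' h => hl k' (by simp [h])
    refine ⟨h1, ?_⟩
    rw [List.foldl_cons, h2, List.map_cons, List.prod_cons, ← mul_assoc, F.phi_step hx hk]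

theorem phi_mul {x y : Nat} (hx : x < 32) (hy : y < 32) :
    em x y < 32 ∧ phi z a x * phi z a y = phi z a (em x y) := by
  have h := List.all_eq_true.1 (List.all_eq_true.1 em_ok x (List.mem_range.2 hx)) y (List.mem_range.2 hy)
  simp only [Bool.and_eq_true, Nat.blt_eq] at h
  refine ⟨h.2, ?_⟩
  rw [← Nat.eq_of_beq_eq_true h.1, (F.phi_fold _ x hx fun k hk => bitsW_lt F hk).2]
  rfl

theorem conj_gen {k : Nat} (hk : k < 5) (l : Bool) :
    gen s t l * letter z a k = letter z a (gperm l k) * gen s t l := by
  cases l
  · exact F.conjS k hk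
  · exact F.conjT k hk

theorem gperm_lt {k : Nat} (hk : k < 5) (l : Bool) : gperm l k < 5 := by
  cases l <;> interval_cases k <;> decide

theorem conj_word : ∀ (w : List Bool) {k : Nat}, k < 5 → w.foldr gperm k < 5 ∧
    (w.map (gen s t)).prod * letter z a k = letter z a (w.foldr gperm k) * (w.map (gen s t)).prod := by
  intro w
  induction w with
  | nil => intro k hk; exact ⟨hk, by simp⟩
  | cons l w ih =>
    intro k hk
    obtain ⟨h1, h2⟩ := ih hk
    refine ⟨F.gperm_lt h1 l, ?_⟩
    rw [List.map_cons, List.prod_cons, List.foldr_cons, mul_assoc, h2, ← mul_assoc, F.conj_gen h1,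
      mul_assoc]

theorem wd_letter {g k : Nat} (hg : g < 24) (hk : k < 5) :
    prm g k < 5 ∧ wd s t g * letter z a k = letter z a (prm g k) * wd s t g := by
  have h := List.all_eq_true.1 word_ok g (List.mem_range.2 hg)
  rw [Bool.and_eq_true, List.all_eq_true] at h
  have hh := h.2 k (List.mem_range.2 hk)
  rw [Bool.and_eq_true, Nat.blt_eq] at hh
  refine ⟨hh.2, ?_⟩
  rw [← Nat.eq_of_beq_eq_true hh.1]
  exact (F.conj_word _ hk).2

theorem wd_phi {g x : Nat} (hg : g < 24) (hx : x < 32) :
    act g x < 32 ∧ wd s t g * phi z a x = phi z a (act g x) * wd s t g := by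
  have h := List.all_eq_true.1 (List.all_eq_true.1 act_ok g (List.mem_range.2 hg)) x (List.mem_range.2 hx)
  simp only [Bool.and_eq_true, Nat.blt_eq] at h
  refine ⟨h.2, ?_⟩
  have key : ∀ l : List Nat, (∀ k ∈ l, k < 5) → wd s t g * (l.map (letter z a)).prod =
      ((l.map (prm g)).map (letter z a)).prod * wd s t g := by
    intro l
    induction l with
    | nil => simp
    | cons k l ih =>
      intro hl
      rw [List.map_cons, List.prod_cons, ← mul_assoc, (F.wd_letter hg (hl k (by simp))).2,
        mul_assoc, ih fun k' h => hl k' (by simp [h])]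
      simp [mul_assoc]
  show wd s t g * ((bitsW x).map (letter z a)).prod = _
  rw [key _ fun k hk => bitsW_lt F hk, ← Nat.eq_of_beq_eq_true h.1]
  congr 1
  have h5 : ∀ k ∈ (bitsW x).map (prm g), k < 5 := by
    intro k hk
    obtain ⟨k', hk', rfl⟩ := List.mem_map.1 hk
    exact (F.wd_letter hg (bitsW_lt F hk')).1
  rw [← List.foldl_map (f := prm g) (g := fun b k => em b (2 ^ k)),
    (F.phi_fold _ 0 (by norm_num) h5).2, F.phi_zero, one_mul]

theorem pend_lt : ∀ (w : List Bool) {g : Nat}, g < 24 → pend w g < 24 := by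
  intro w
  induction w with
  | nil => intro g hg; exact hg
  | cons l w ih =>
    intro g hg
    refine ih ?_
    have h := List.all_eq_true.1 (List.all_eq_true.1 (List.all_eq_true.1 coc_ok 0 (by simp)) g
      (List.mem_range.2 hg)) (gnode l) (List.mem_range.2 (by cases l <;> decide))
    simp only [Bool.and_eq_true, Nat.blt_eq] at h
    exact h.2

theorem edge {g : Nat} (hg : g < 24) (l : Bool) :
    ∃ b, wd s t g * gen s t l = zp z b * wd s t (stp g l) := by
  have hl : gnode l < 24 := by cases l <;> decide
  have hp : stp g l < 24 := pend_lt F [l] hg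
  have hfix : ∀ k, (wd s t (stp g l))⁻¹ * (wd s t g * gen s t l) * a k =
      a k * ((wd s t (stp g l))⁻¹ * (wd s t g * gen s t l)) := by
    intro k
    have hk : k.val < 5 := by omega
    have hak : letter z a k.val = a k := by fin_cases k <;> rfl
    have e1 := F.conj_gen hk l
    have e2 := (F.wd_letter hg (F.gperm_lt hk l)).2
    have e3 := (F.wd_letter hp hk).2
    have hperm : prm g (gperm l k.val) = prm (stp g l) k.val := by
      exact Nat.eq_of_beq_eq_true (List.all_eq_true.1 (List.all_eq_true.1 (List.all_eq_true.1 perm_step g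
        (List.mem_range.2 hg)) l (by cases l <;> simp)) k.val (List.mem_range.2 hk))
    rw [← hperm] at e3
    rw [← hak]
    have e4 : wd s t g * gen s t l * letter z a k.val =
        letter z a (prm g (gperm l k.val)) * (wd s t g * gen s t l) := by
      rw [mul_assoc, e1, ← mul_assoc, e2, mul_assoc]
    calc (wd s t (stp g l))⁻¹ * (wd s t g * gen s t l) * letter z a k.val
        = (wd s t (stp g l))⁻¹ * (letter z a (prm g (gperm l k.val)) * wd s t (stp g l)) *
            ((wd s t (stp g l))⁻¹ * (wd s t g * gen s t l)) := by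
          rw [mul_assoc, e4]; group
      _ = _ := by rw [← e3]; group
  rcases F.fix _ hfix with h | h
  · exact ⟨false, by rw [inv_mul_eq_one] at h; simp [zp, h]⟩
  · exact ⟨true, by rw [inv_mul_eq_iff_eq_mul] at h; simp [zp, h, F.cen]⟩

theorem val_xor (u : Nat → Bool) (M N : Nat) : val u (Nat.xor M N) = Bool.xor (val u M) (val u N) := by
  have key : ∀ (l : List Nat) (b c : Bool),
      l.foldl (fun b e => Bool.xor b ((Nat.xor M N).testBit e && u e)) (Bool.xor b c) =
        Bool.xor (l.foldl (fun b e => Bool.xor b (M.testBit e && u e)) b)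
          (l.foldl (fun b e => Bool.xor b (N.testBit e && u e)) c) := by
    intro l
    induction l with
    | nil => intro b c; rfl
    | cons e l ih =>
      intro b c
      simp only [List.foldl_cons]
      rw [← ih]
      congr 1
      rw [show (Nat.xor M N).testBit e = Bool.xor (M.testBit e) (N.testBit e) from Nat.testBit_xor M N e]
      cases M.testBit e <;> cases N.testBit e <;> cases u e <;> cases b <;> cases c <;> rfl
  exact key _ false false

theorem val_zero (u : Nat → Bool) : val u 0 = false := by
  have h := val_xor F u 0 0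
  simpa using h

theorem val_two_pow (u : Nat → Bool) {e : Nat} (he : e < 48) : val u (2 ^ e) = u e := by
  have key : ∀ (l : List Nat) (b : Bool), l.Nodup →
      l.foldl (fun b k => Bool.xor b ((2 ^ e).testBit k && u k)) b =
        Bool.xor b (decide (e ∈ l) && u e) := by
    intro l
    induction l with
    | nil => intro b _; simp
    | cons k l ih =>
      intro b hnd
      rw [List.nodup_cons] at hnd
      rw [List.foldl_cons, ih _ hnd.2]
      by_cases hek : e = k
      · subst hek
        simp [Nat.testBit_two_pow, hnd.1]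
      · simp [Nat.testBit_two_pow, hek]
  show (List.range 48).foldl _ false = _
  rw [key _ _ List.nodup_range]
  simp [he]

theorem exists_bits : ∃ u : Nat → Bool, ∀ g, g < 24 → ∀ l : Bool,
    wd s t g * gen s t l = zp z (u (2 * g + cond l 1 0)) * wd s t (stp g l) := by
  classical
  refine ⟨fun e => if h : e / 2 < 24 then (F.edge h (e % 2 == 1)).choose else false, fun g hg l => ?_⟩
  have e1 : (2 * g + cond l 1 0) / 2 = g := by cases l <;> simp <;> omega
  have e2 : ((2 * g + cond l 1 0) % 2 == 1) = l := by cases l <;> simp <;> omega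
  simp only [e1, e2, hg, dif_pos]
  exact (F.edge hg l).choose_spec

theorem path {u : Nat → Bool} (hu : ∀ g, g < 24 → ∀ l : Bool,
    wd s t g * gen s t l = zp z (u (2 * g + cond l 1 0)) * wd s t (stp g l)) :
    ∀ (w : List Bool) {g : Nat}, g < 24 →
      wd s t g * (w.map (gen s t)).prod = zp z (val u (pmask w g)) * wd s t (pend w g) := by
  intro w
  induction w with
  | nil => intro g _; simp [pmask, pend, val_zero F, zp]
  | cons l w ih =>
    intro g hg
    have hp : stp g l < 24 := pend_lt F [l] hg
    rw [List.map_cons, List.prod_cons, ← mul_assoc, hu g hg l, mul_assoc, ih hp, ← mul_assoc,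
      F.zp_mul, pend, pmask, val_xor F, val_two_pow F _ (by cases l <;> simp <;> omega)]

theorem bits_eq {u : Nat → Bool} (hu : ∀ g, g < 24 → ∀ l : Bool,
    wd s t g * gen s t l = zp z (u (2 * g + cond l 1 0)) * wd s t (stp g l)) {e : Nat} (he : e < 48) :
    u e = ubit (twn i j) e := by
  have hq : ∀ q : Nat × Nat, qok q = true → val u (qmask q) = rhs i j q.2 := by
    rintro ⟨p, k⟩ h
    by_cases hk : k = 3
    · subst hk
      simp only [qok, Nat.beq_refl, cond_true, Bool.and_eq_true, Nat.blt_eq, beq_iff_eq] at h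
      obtain ⟨⟨hp, hs⟩, hw⟩ := h
      simp only [qmask, Nat.beq_refl, cond_true]
      rw [val_two_pow F u hp]
      have h1 := hu (p / 2) (by omega) (p % 2 == 1)
      have hp' : 2 * (p / 2) + cond (p % 2 == 1) 1 0 = p := by
        rcases Nat.mod_two_eq_zero_or_one p with h | h <;> simp [h] <;> omega
      rw [hp'] at h1
      have h2 : wd s t (stp (p / 2) (p % 2 == 1)) = wd s t (p / 2) * gen s t (p % 2 == 1) := by
        show ((wtab.getD _ []).map (gen s t)).prod = _
        rw [hw, List.map_append, List.prod_append]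
        simp [wd]
      rw [← h2] at h1
      show u p = false
      refine F.zp_inj ?_
      show zp z (u p) = 1
      exact mul_eq_right.1 h1.symm
    · have hb : Nat.beq k 3 = false := by
        rw [← Bool.not_eq_true]
        exact fun h => hk (Nat.eq_of_beq_eq_true h)
      simp only [qok, hb, cond_false, Bool.and_eq_true, Nat.blt_eq] at h
      obtain ⟨⟨hk3, hp⟩, hend⟩ := h
      simp only [qmask, hb, cond_false]
      have h1 := F.path hu (relw k) hp
      rw [Nat.eq_of_beq_eq_true hend] at h1
      have h2 : ((relw k).map (gen s t)).prod = zp z (rhs i j k) := by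
        interval_cases k
        · simpa [relw, rhs, gen] using F.relS
        · simpa [relw, rhs, gen] using F.relT
        · simpa [relw, rhs, gen, zp] using F.relST
      rw [h2, F.zp_comm] at h1
      exact (F.zp_inj (mul_right_cancel h1)).symm
  have h := List.all_eq_true.1 cert_ok e (List.mem_range.2 he)
  rw [Bool.and_eq_true, List.all_eq_true] at h
  have key : ∀ (l : List (Nat × Nat)), (∀ q ∈ l, qok q = true) → ∀ M b, val u M = b →
      val u (l.foldl (fun M q => Nat.xor M (qmask q)) M) =
        l.foldl (fun b q => Bool.xor b (rhs i j q.2)) b := by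
    intro l
    induction l with
    | nil => intro _ M b h; exact h
    | cons q l ih =>
      intro hl M b hM
      exact ih (fun r hr => hl r (by simp [hr])) _ _ (by rw [val_xor F, hM, hq q (hl q (by simp))])
  have h2 := key _ h.1 0 false (val_zero F u)
  rw [Nat.eq_of_beq_eq_true h.2, val_two_pow F u he] at h2
  have h3 := List.all_eq_true.1 (List.all_eq_true.1 (List.all_eq_true.1 ubit_ok i (by cases i <;> simp))
    j (by cases j <;> simp)) e (List.mem_range.2 he)
  rw [beq_iff_eq] at h3
  rw [h2, h3]

theorem wd_mul {g h : Nat} (hg : g < 24) (hh : h < 24) :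
    gmul g h < 24 ∧ coc (twn i j) g h ≤ 1 ∧
      wd s t g * wd s t h = zp z (coc (twn i j) g h == 1) * wd s t (gmul g h) := by
  obtain ⟨u, hu⟩ := F.exists_bits
  have hh' := List.all_eq_true.1 (List.all_eq_true.1 (List.all_eq_true.1 coc_ok (twn i j)
    (List.mem_range.2 (by cases i <;> cases j <;> decide))) g (List.mem_range.2 hg)) h (List.mem_range.2 hh)
  simp only [Bool.and_eq_true, Nat.blt_eq] at hh'
  obtain ⟨⟨h1, h2⟩, h3⟩ := hh'
  have hval : ∀ M, val u M = val (ubit (twn i j)) M := by
    intro M
    have key : ∀ (l : List Nat) b, (∀ e ∈ l, e < 48) →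
        l.foldl (fun b e => Bool.xor b (M.testBit e && u e)) b =
          l.foldl (fun b e => Bool.xor b (M.testBit e && ubit (twn i j) e)) b := by
      intro l
      induction l with
      | nil => intros; rfl
      | cons e l ih =>
        intro b hl
        simp only [List.foldl_cons]
        rw [F.bits_eq hu (hl e (by simp)), ih _ fun k hk => hl k (by simp [hk])]
    exact key _ _ fun e he => List.mem_range.1 he
  have h4 := F.path hu (wtab.getD h []) hg
  rw [hval, ← Nat.eq_of_beq_eq_true h2] at h4
  refine ⟨h3, ?_, ?_⟩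
  · rw [Nat.eq_of_beq_eq_true h1]
    cases val (ubit (twn i j)) _ <;> simp
  · refine h4.trans ?_
    rw [Nat.eq_of_beq_eq_true h1]
    cases val (ubit (twn i j)) _ <;> rfl

theorem el_split {n : Nat} (hn : n < 768) :
    Nat.land n 31 < 32 ∧ Nat.shiftRight n 5 < 24 ∧
      Nat.add (Nat.land n 31) (Nat.mul 32 (Nat.shiftRight n 5)) = n := by
  show n &&& 31 < 32 ∧ n >>> 5 < 24 ∧ (n &&& 31) + 32 * (n >>> 5) = n
  rw [show (31 : Nat) = 2 ^ 5 - 1 from rfl, Nat.and_two_pow_sub_one_eq_mod, Nat.shiftRight_eq_div_pow]
  omega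

theorem el_pack {x g : Nat} (hx : x < 32) (hg : g < 24) :
    x + 32 * g < 768 ∧ el z a s t (x + 32 * g) = phi z a x * wd s t g := by
  refine ⟨by omega, ?_⟩
  have e1 : Nat.land (x + 32 * g) 31 = x := by
    show (x + 32 * g) &&& 31 = x
    rw [show (31 : Nat) = 2 ^ 5 - 1 from rfl, Nat.and_two_pow_sub_one_eq_mod]
    omega
  have e2 : Nat.shiftRight (x + 32 * g) 5 = g := by
    show (x + 32 * g) >>> 5 = g
    rw [Nat.shiftRight_eq_div_pow]
    omega
  rw [el, e1, e2]

theorem el_mul {p q : Nat} (hp : p < 768) (hq : q < 768) :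
    m (twn i j) p q < 768 ∧ el z a s t p * el z a s t q = el z a s t (m (twn i j) p q) := by
  obtain ⟨p1, p2, -⟩ := el_split F hp
  obtain ⟨q1, q2, -⟩ := el_split F hq
  set x := Nat.land p 31
  set g := Nat.shiftRight p 5
  set y := Nat.land q 31
  set h := Nat.shiftRight q 5
  obtain ⟨a1, a2⟩ := F.wd_phi p2 q1
  obtain ⟨c1, c2, c3⟩ := F.wd_mul p2 q2
  obtain ⟨b1, b2⟩ := F.phi_mul p1 a1
  have hz : ∀ w, w < 32 → phi z a w * zp z (coc (twn i j) g h == 1) =
      phi z a (Nat.xor w (Nat.mul 16 (coc (twn i j) g h))) ∧
      Nat.xor w (Nat.mul 16 (coc (twn i j) g h)) < 32 := by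
    intro w hw
    rcases Nat.le_one_iff_eq_zero_or_eq_one.1 c2 with e | e <;> rw [e]
    · refine ⟨?_, ?_⟩
      · show phi z a w * 1 = phi z a (w ^^^ 0)
        rw [Nat.xor_zero, mul_one]
      · show w ^^^ 0 < 32
        rw [Nat.xor_zero]
        exact hw
    · have h4 : em w (2 ^ 4) = w ^^^ 16 := by
        have := List.all_eq_true.1 (List.all_eq_true.1 shiftStep w (List.mem_range.2 hw)) 4 (by simp)
        rw [Nat.eq_of_beq_eq_true this]
        show (w ^^^ 2 ^ 4) ^^^ 0 = _
        rw [Nat.xor_zero]
        rfl
      refine ⟨?_, Nat.xor_lt_two_pow (n := 5) hw (by norm_num)⟩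
      show phi z a w * letter z a 4 = phi z a (w ^^^ 16)
      rw [F.phi_step hw (by norm_num), h4]
  obtain ⟨hz1, hz2⟩ := hz _ b1
  obtain ⟨r1, r2⟩ := el_pack F hz2 c1
  refine ⟨r1, ?_⟩
  show phi z a x * wd s t g * (phi z a y * wd s t h) = el z a s t _
  rw [show m (twn i j) p q = Nat.xor (em x (act g y)) (Nat.mul 16 (coc (twn i j) g h)) + 32 * gmul g h from rfl,
    r2]
  calc phi z a x * wd s t g * (phi z a y * wd s t h)
      = phi z a x * (wd s t g * phi z a y) * wd s t h := by group
    _ = phi z a x * phi z a (act g y) * (wd s t g * wd s t h) := by rw [a2]; group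
    _ = _ := by rw [c3, b2, ← mul_assoc, hz1]

end Frame

end CfsgLib.ChzL34
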