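import Cfsg.Agent.ChzL34.FusedPlane
import Cfsg.Agent.PlaneFour.Recognise
import Cfsg.Agent.AutPSL.Out

/-! Identification with the automorphism group of `PGL(3, 4)`. -/

set_option autoImplicit false
set_option linter.unusedSectionVars false
set_option linter.style.haveILetI false
set_option maxRecDepth 100000

namespace CfsgLib.ChzL34

open Subgroup Finset
open Cfsg.Agent.PlaneFour (Plane exists_iso eq_of_simple_of_card)

/-- Subgroups of order 60480 of a small group with a simple subgroup of order 20160. -/
theorem eq_of_big {A : Type*} [Group A] [Finite A] (hA : Nat.card A ≤ 120960) (S X Y : Subgroup A)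
    [IsSimpleGroup S] (hS : Nat.card S = 20160) (hX : Nat.card X = 60480) (hY : Nat.card Y = 60480) :
    X = Y := by
  have hidx : ∀ Z : Subgroup A, Nat.card Z = 60480 → Z.index ≤ 2 := fun Z hZ => by
    have h := Z.index_mul_card
    rw [hZ] at h
    omega
  have hle : ∀ Z : Subgroup A, Nat.card Z = 60480 → S ≤ Z := by
    intro Z hZ
    have hrel : Z.relIndex S ≤ 2 := by
      refine le_trans ?_ (hidx Z hZ)
      rw [← Subgroup.relIndex_top_right]
      exact Subgroup.relIndex_le_of_le_right le_top
        (by rw [Subgroup.relIndex_top_right]; exact Subgroup.index_ne_zero_of_finite)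
    rw [← Subgroup.relIndex_eq_one]
    have h0 : Z.relIndex S ≠ 0 := Subgroup.index_ne_zero_of_finite
    by_contra h1
    have h2 : (Z.subgroupOf S).index = 2 := by
      show Z.relIndex S = 2
      omega
    haveI := Subgroup.normal_of_index_eq_two h2
    rcases (inferInstance : (Z.subgroupOf S).Normal).eq_bot_or_eq_top with h | h
    · rw [h, Subgroup.index_bot, hS] at h2
      omega
    · rw [h, Subgroup.index_top] at h2
      omega
  have hSX : S ≤ X ⊓ Y := le_inf (hle X hX) (hle Y hY)
  have hdvd := Subgroup.card_dvd_of_le hSX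
  rw [hS] at hdvd
  have hrel : Y.relIndex X ≤ 2 := by
    refine le_trans ?_ (hidx Y hY)
    rw [← Subgroup.relIndex_top_right]
    exact Subgroup.relIndex_le_of_le_right le_top
      (by rw [Subgroup.relIndex_top_right]; exact Subgroup.index_ne_zero_of_finite)
  have hm : Y.relIndex X * Nat.card (X ⊓ Y : Subgroup A) = 60480 := by
    have h := (Y.subgroupOf X).index_mul_card
    rw [hX, ← Subgroup.inf_subgroupOf_left, Nat.card_congr (Subgroup.subgroupOfEquivOfLe inf_le_left).toEquiv] at h
    rwa [Subgroup.inf_subgroupOf_left] at h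
  have h0 : Y.relIndex X ≠ 0 := Subgroup.index_ne_zero_of_finite
  have h1 : Y.relIndex X = 1 := by
    by_contra hne
    rw [show Y.relIndex X = 2 by omega] at hm
    obtain ⟨k, hk⟩ := hdvd
    omega
  exact Subgroup.eq_of_le_of_card_ge (Subgroup.relIndex_eq_one.1 h1) (by rw [hX, hY])

/-- The plane over a field with four elements and its two linear groups. -/
theorem exists_model {F : Type*} [Field F] [Fintype F] [DecidableEq F] (hF : Fintype.card F = 4)
    [Fintype (Projectivization F (Fin 3 → F))] [DecidableEq (Projectivization F (Fin 3 → F))] :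
    ∃ (LB : Set (Finset (Projectivization F (Fin 3 → F))))
      (χ : Matrix.ProjectiveSpecialLinearGroup (Fin 3) F →* Cfsg.setSystemAut LB)
      (ψ : GL (Fin 3) F ⧸ Subgroup.center (GL (Fin 3) F) →* Cfsg.setSystemAut LB),
      Plane LB ∧ Function.Injective χ ∧ Function.Injective ψ := by
  classical
  let Y := Projectivization F (Fin 3 → F)
  let LB : Set (Finset Y) := {l | ∃ W : Submodule F (Fin 3 → F), Module.finrank F W = 2 ∧
    ∀ y : Y, y ∈ l ↔ Projectivization.submodule y ≤ W}
  have hnF : Nat.card F = 4 := by rw [Nat.card_eq_fintype_card, hF]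
  have hB : Plane LB := by
    refine ⟨⟨fun l ⟨W, hW, hl⟩ => ?_, fun s hs => ?_⟩, ?_⟩
    · have e : ↥l ≃ Projectivization F W :=
        { toFun := fun y => Projectivization.mk'' ((Projectivization.submodule y.1).comap W.subtype) (by
            rw [(Submodule.comapSubtypeEquivOfLe ((hl _).mp y.2)).finrank_eq,
              Projectivization.finrank_submodule])
          invFun := fun w => ⟨Projectivization.mk'' ((Projectivization.submodule w).map W.subtype) (by
            rw [Submodule.finrank_map_subtype_eq, Projectivization.finrank_submodule]), (hl _).mpr (by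
            rw [Projectivization.submodule_mk'']; exact Submodule.map_subtype_le _ _)⟩
          left_inv := fun y => Subtype.ext (Projectivization.submodule_injective (by
            simp [Submodule.map_comap_subtype, (hl _).mp y.2]))
          right_inv := fun w => Projectivization.submodule_injective (by
            simp [Submodule.comap_map_eq_of_injective W.injective_subtype]) }
      rw [← Fintype.card_coe, ← Nat.card_eq_fintype_card, Nat.card_congr e,
        Projectivization.card_of_finrank_two _ _ hW, hnF]
    · obtain ⟨u, v, huv, rfl⟩ := Finset.card_eq_two.mp hs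
      set W := Projectivization.submodule u ⊔ Projectivization.submodule v with hW
      have hinf : Projectivization.submodule u ⊓ Projectivization.submodule v = ⊥ := by
        by_contra hne
        have h1 := Submodule.one_le_finrank_iff.mpr hne
        have e1 : Projectivization.submodule u ⊓ Projectivization.submodule v =
            Projectivization.submodule u := Submodule.eq_of_le_of_finrank_le inf_le_left (by
          rw [Projectivization.finrank_submodule]; exact h1)
        have e2 : Projectivization.submodule u ⊓ Projectivization.submodule v =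
            Projectivization.submodule v := Submodule.eq_of_le_of_finrank_le inf_le_right (by
          rw [Projectivization.finrank_submodule]; exact h1)
        exact huv (Projectivization.submodule_injective (e1.symm.trans e2))
      have hW2 : Module.finrank F W = 2 := by
        have := Submodule.finrank_sup_add_finrank_inf_eq (Projectivization.submodule u)
          (Projectivization.submodule v)
        rw [hinf, finrank_bot, Projectivization.finrank_submodule,
          Projectivization.finrank_submodule, ← hW] at this
        omega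
      refine ⟨Finset.univ.filter fun y => Projectivization.submodule y ≤ W,
        ⟨⟨W, hW2, fun y => by simp⟩, ?_⟩, ?_⟩
      · intro y hy
        simp only [Finset.mem_insert, Finset.mem_singleton] at hy
        rcases hy with rfl | rfl <;> simp [hW]
      · rintro l ⟨⟨W', hW', hl⟩, hsub⟩
        have e : W = W' := Submodule.eq_of_le_of_finrank_le
          (sup_le ((hl u).mp (hsub (by simp))) ((hl v).mp (hsub (by simp)))) (by rw [hW2, hW'])
        ext y
        simp [hl, e]
    · rw [← Nat.card_eq_fintype_card]
      show Nat.card (Projectivization F (Fin 3 → F)) = 21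
      rw [Projectivization.card_of_finrank (n := 3) _ _ (Module.finrank_fin_fun F), hnF]
      rfl
  have hline : ∀ (π : Equiv.Perm Y) (T : (Fin 3 → F) ≃ₗ[F] (Fin 3 → F)),
      (∀ y : Y, Projectivization.submodule (π y) = (Projectivization.submodule y).map T.toLinearMap) →
      π ∈ Cfsg.setSystemAut LB := by
    intro π T hsub
    refine hB.mem_aut_of_line_image fun l ⟨W, hW, hl⟩ => ?_
    refine ⟨W.map T.toLinearMap, by rw [LinearEquiv.finrank_map_eq, hW], fun y => ?_⟩
    rw [Finset.mem_image]
    constructor
    · rintro ⟨x, hx, rfl⟩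
      rw [hsub]
      exact Submodule.map_mono ((hl x).mp hx)
    · intro hy
      refine ⟨π.symm y, (hl _).mpr ?_, π.apply_symm_apply y⟩
      have h1 := hsub (π.symm y)
      rw [π.apply_symm_apply] at h1
      rw [h1, Submodule.map_le_map_iff_of_injective T.injective] at hy
      exact hy
  have hχA : ∀ g : Matrix.ProjectiveSpecialLinearGroup (Fin 3) F,
      Projectivization.PSLAction.toPermHom g ∈ Cfsg.setSystemAut LB := by
    intro g
    obtain ⟨A, rfl⟩ := QuotientGroup.mk_surjective g
    refine hline _ (Matrix.SpecialLinearGroup.toLin' A) fun y => ?_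
    show Projectivization.submodule (A • y : Y) = _
    induction y using Projectivization.ind with
    | h v hv =>
      rw [Projectivization.smul_mk, Projectivization.submodule_mk, Projectivization.submodule_mk,
        Submodule.map_span, Set.image_singleton]
      rfl
  have hgA : ∀ g : GL (Fin 3) F, MulAction.toPermHom (GL (Fin 3) F) Y g ∈ Cfsg.setSystemAut LB := by
    intro g
    refine hline _ (Matrix.GeneralLinearGroup.toLin g).toLinearEquiv fun y => ?_
    show Projectivization.submodule (g • y : Y) = _
    induction y using Projectivization.ind with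
    | h v hv =>
      rw [Projectivization.smul_mk, Projectivization.submodule_mk, Projectivization.submodule_mk,
        Submodule.map_span, Set.image_singleton]
      rfl
  have hker : (MulAction.toPermHom (GL (Fin 3) F) Y).ker = Subgroup.center (GL (Fin 3) F) := by
    rw [Matrix.GeneralLinearGroup.center_eq_range_scalar]
    ext g
    constructor
    · intro hg
      have hfix : ∀ y : Y, g • y = y := fun y => Equiv.ext_iff.1 (MonoidHom.mem_ker.1 hg) y
      set f : (Fin 3 → F) →ₗ[F] Fin 3 → F := Matrix.toLin' (g : Matrix (Fin 3) (Fin 3) F) with hf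
      obtain ⟨a, ha⟩ := f.exists_eq_smul_id_of_forall_notLinearIndependent fun (v : Fin 3 → F) ↦ by
        by_cases hv : v = 0
        · simp [hv, linearIndependent_fin2]
        · have h := hfix (Projectivization.mk F v hv)
          rw [Projectivization.smul_mk, Projectivization.mk_eq_mk_iff'] at h
          obtain ⟨b, hb⟩ := h
          rw [LinearIndependent.pair_iff' hv]
          push Not
          exact ⟨b, hb⟩
      have hscalar : (g : Matrix (Fin 3) (Fin 3) F) = Matrix.scalar (Fin 3) a := calc
        (g : Matrix (Fin 3) (Fin 3) F) = LinearMap.toMatrix' f := by rw [hf, LinearMap.toMatrix'_toLin']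
        _ = (algebraMap F (Module.End F (Fin 3 → F)) a).toMatrix' := congrArg LinearMap.toMatrix' ha
        _ = Matrix.scalar (Fin 3) a := LinearMap.toMatrix'_algebraMap a
      have ha0 : a ≠ 0 := by
        rintro rfl
        refine Matrix.GeneralLinearGroup.det_ne_zero g ?_
        rw [hscalar, map_zero, Matrix.det_zero]
      exact ⟨Units.mk0 a ha0, Units.ext (by rw [hscalar]; ext i j; simp [Matrix.diagonal])⟩
    · rintro ⟨u, rfl⟩
      rw [MonoidHom.mem_ker]
      refine Equiv.ext fun y => ?_
      show (Matrix.GeneralLinearGroup.scalar (Fin 3) u) • y = y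
      induction y using Projectivization.ind with
      | h v hv =>
        rw [Projectivization.smul_mk, Projectivization.mk_eq_mk_iff']
        refine ⟨(u : F), ?_⟩
        show _ = Matrix.mulVec (Matrix.scalar (Fin 3) (u : F)) v
        ext i
        simp [Matrix.mulVec_diagonal]
  let χ : Matrix.ProjectiveSpecialLinearGroup (Fin 3) F →* Cfsg.setSystemAut LB :=
    (Projectivization.PSLAction.toPermHom (K := F) (ι := Fin 3)).codRestrict _ hχA
  let ψ : GL (Fin 3) F ⧸ Subgroup.center (GL (Fin 3) F) →* Cfsg.setSystemAut LB :=
    QuotientGroup.lift _ ((MulAction.toPermHom (GL (Fin 3) F) Y).codRestrict _ hgA) (fun g hg =>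
      MonoidHom.mem_ker.2 (Subtype.ext (MonoidHom.mem_ker.1 (hker ▸ hg : g ∈ (MulAction.toPermHom (GL (Fin 3) F) Y).ker))))
  refine ⟨LB, χ, ψ, hB, fun a b hab =>
    Matrix.ProjectiveSpecialLinearGroup.toPermHom_injective (congrArg Subtype.val hab), ?_⟩
  rw [injective_iff_map_eq_one]
  intro q
  induction q using QuotientGroup.induction_on with
  | H g =>
    intro hq
    have h1 : MulAction.toPermHom (GL (Fin 3) F) Y g = 1 := congrArg Subtype.val hq
    exact (QuotientGroup.eq_one_iff g).2 (hker ▸ MonoidHom.mem_ker.2 h1)

theorem card_psl_three {F : Type*} [Field F] [Fintype F] [DecidableEq F] (hF : Fintype.card F = 4) :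
    Nat.card (Matrix.ProjectiveSpecialLinearGroup (Fin 3) F) = 20160 := by
  have := CfsgLib.Linear.card_PSL_mul hF 3 (by norm_num)
  rw [Fin.prod_univ_three, show Nat.gcd 3 (4 - 1) = 3 from rfl] at this
  norm_num [-Nat.card_eq_fintype_card] at this
  omega

theorem card_pgl_three {F : Type*} [Field F] [Fintype F] [DecidableEq F] (hF : Fintype.card F = 4) :
    Nat.card (GL (Fin 3) F ⧸ Subgroup.center (GL (Fin 3) F)) = 60480 := by
  have h : Nat.card (Matrix.ProjGenLinGroup (Fin 3) F) = 60480 := by
    rw [CfsgLib.Linear.card_PGL]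
    have := CfsgLib.Linear.card_SL_mul hF 3 (by norm_num)
    rw [Fin.prod_univ_three] at this
    norm_num [-Nat.card_eq_fintype_card] at this
    omega
  exact h

/-- Recognition of `PGL(3, 4)` on a plane. -/
theorem iso_pgl {α : Type*} [Fintype α] [DecidableEq α] {L : Set (Finset α)} (hA : Plane L) {X : Type*}
    [Group X] [Finite X] (hc : Nat.card X = 60480) (ρ : X →* Equiv.Perm α) (hρ : Function.Injective ρ)
    (hL : ∀ g, ∀ l ∈ L, l.image (ρ g) ∈ L) {F : Type*} [Field F] [Fintype F] [DecidableEq F]
    (hF : Fintype.card F = 4) :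
    Nat.card (Cfsg.setSystemAut L) ≤ 120960 ∧
      Nonempty (X ≃* (GL (Fin 3) F ⧸ Subgroup.center (GL (Fin 3) F))) ∧
      ∃ S : Subgroup X, Nat.card S = 20160 ∧ IsSimpleGroup S ∧
        Nonempty (S ≃* Matrix.ProjectiveSpecialLinearGroup (Fin 3) F) := by
  classical
  haveI : Fintype (Projectivization F (Fin 3 → F)) := Fintype.ofFinite _
  obtain ⟨LB, χ, ψ, hB, hχ, hψ⟩ := exists_model hF
  obtain ⟨HA, hA6, hAarc⟩ := hA.exists_oval
  obtain ⟨HB, hB6, hBarc⟩ := hB.exists_oval
  obtain ⟨e, he, -⟩ := exists_iso hA hB hA6 hAarc hB6 hBarc (Finset.equivOfCardEq (hA6.trans hB6.symm))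
  let φ : X →* Equiv.Perm (Projectivization F (Fin 3 → F)) :=
    { toFun := fun g => e.permCongr (ρ g)
      map_one' := Equiv.ext fun y => by simp [Equiv.permCongr_apply]
      map_mul' := fun g h => Equiv.ext fun y => by simp [Equiv.permCongr_apply, Equiv.Perm.mul_apply] }
  have hφA : ∀ g : X, φ g ∈ Cfsg.setSystemAut LB := by
    intro g
    refine hB.mem_aut_of_line_image fun l hl => ?_
    obtain ⟨b, hb, rfl⟩ := (show l ∈ (fun b => b.image e) '' L from he ▸ hl)
    have := he ▸ Set.mem_image_of_mem (fun b : Finset α => b.image e) (hL g b hb)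
    convert! this using 1
    simp only [Finset.image_image]
    congr 1
    funext x
    simp [φ, Equiv.permCongr_apply]
  let θ : X →* Cfsg.setSystemAut LB := φ.codRestrict _ hφA
  have hθ : Function.Injective θ := fun g h e' => hρ (by
    have := congrArg Subtype.val e'
    exact e.permCongr.injective this)
  haveI : IsSimpleGroup (Matrix.ProjectiveSpecialLinearGroup (Fin 3) F) :=
    CfsgLib.Linear.isSimpleGroup_PSL (Or.inl (by simp))
  have hS : Nat.card χ.range = 20160 := by
    rw [← Nat.card_congr (MonoidHom.ofInjective hχ).toEquiv, card_psl_three hF]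
  haveI : Nontrivial χ.range := Finite.one_lt_card_iff_nontrivial.mp (by rw [hS]; norm_num)
  haveI : IsSimpleGroup χ.range :=
    IsSimpleGroup.isSimpleGroup_of_surjective χ.rangeRestrict χ.rangeRestrict_surjective
  have hX : Nat.card θ.range = 60480 := by
    rw [← Nat.card_congr (MonoidHom.ofInjective hθ).toEquiv, hc]
  have hY : Nat.card ψ.range = 60480 := by
    rw [← Nat.card_congr (MonoidHom.ofInjective hψ).toEquiv, card_pgl_three hF]
  refine ⟨hA.card_aut_le, ⟨((MonoidHom.ofInjective hθ).trans (MulEquiv.subgroupCongr
    (eq_of_big hB.card_aut_le χ.range θ.range ψ.range hS hX hY))).trans (MonoidHom.ofInjective hψ).symm⟩, ?_⟩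
  have hle : χ.range ≤ θ.range := by
    rw [← Subgroup.relIndex_eq_one]
    by_contra h1
    have h0 : θ.range.relIndex χ.range ≠ 0 := Subgroup.index_ne_zero_of_finite
    have h2 : θ.range.relIndex χ.range ≤ 2 := by
      refine le_trans (b := θ.range.index) ?_ ?_
      · rw [← Subgroup.relIndex_top_right]
        exact Subgroup.relIndex_le_of_le_right le_top
          (by rw [Subgroup.relIndex_top_right]; exact Subgroup.index_ne_zero_of_finite)
      · have h := θ.range.index_mul_card
        rw [hX] at h
        have := hB.card_aut_le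
        omega
    have h3 : (θ.range.subgroupOf χ.range).index = 2 := by
      show θ.range.relIndex χ.range = 2
      omega
    haveI := Subgroup.normal_of_index_eq_two h3
    rcases (inferInstance : (θ.range.subgroupOf χ.range).Normal).eq_bot_or_eq_top with h | h
    · rw [h, Subgroup.index_bot, hS] at h3
      omega
    · rw [h, Subgroup.index_top] at h3
      omega
  let eS : χ.range.comap θ ≃* χ.range :=
    ((χ.range.comap θ).equivMapOfInjective θ hθ).trans (MulEquiv.subgroupCongr (by
      rw [Subgroup.map_comap_eq, inf_eq_right.2 hle]))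
  refine ⟨χ.range.comap θ, by rw [Nat.card_congr eS.toEquiv, hS], ?_, ⟨eS.trans (MonoidHom.ofInjective hχ).symm⟩⟩
  exact eS.isSimpleGroup

theorem card_mulAut_psl {F : Type*} [Field F] [Fintype F] [DecidableEq F] (hF : Fintype.card F = 4) :
    Nat.card (MulAut (Matrix.ProjectiveSpecialLinearGroup (Fin 3) F)) ≤ 241920 := by
  haveI : Fact (Nat.Prime 2) := ⟨Nat.prime_two⟩
  obtain ⟨e⟩ := CfsgLib.AutPSL.nonempty_ringAut_equiv (F := F) (p := 2) (f := 2) (by norm_num) (by rw [hF]; rfl)
  obtain ⟨e'⟩ := CfsgLib.AutPSL.nonempty_inndiag_equiv_PGL (F := F) (n := 3) (by norm_num)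
  have hP : Nat.card (Matrix.ProjGenLinGroup (Fin 3) F) = 60480 := card_pgl_three hF
  rw [CfsgLib.AutPSL.card_eq_card_mul_ker _ (CfsgLib.AutPSL.outData_surjective (F := F) (n := 3) le_rfl),
    CfsgLib.AutPSL.ker_outData, Nat.card_congr e'.toEquiv, hP, Nat.card_prod, Nat.card_congr e.toEquiv,
    Nat.card_congr Multiplicative.toAdd, Nat.card_zmod]

section Fused

variable {G : Type*} [Group G] [Finite G] {z : G} {c : Nat → G} {N : Subgroup G}

/-- The fused case. -/
theorem Big.fused_iso (B : Big z c N) (hF : IsConj z (c 224)) {F : Type*} [Field F] [Fintype F]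
    (hF4 : Fintype.card F = 4) :
    Nonempty (G ≃* MulAut (GL (Fin 3) F ⧸ Subgroup.center (GL (Fin 3) F))) := by
  classical
  haveI := B.normal
  haveI : Fintype (B.Orb false) := Fintype.ofFinite _
  have hN := B.card_fused_eq hF
  obtain ⟨hAut, ⟨eQ⟩, S, hS, hsimp, ⟨eS⟩⟩ := iso_pgl (B.plane hF) hN (B.conjPerm false)
    (B.conjPerm_injective hF) (fun g => B.conjPerm_line g) (F := F) hF4
  -- the simple subgroup is invariant
  have hN120 : Nat.card N ≤ 120960 := by rw [hN]; norm_num
  have hinv : ∀ α : MulAut N, S.map α.toMonoidHom = S := fun α =>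
    eq_of_simple_of_card hN120 _ S
      (by rw [← Nat.card_congr (S.equivMapOfInjective _ α.injective).toEquiv, hS]) hS
  have hmem : ∀ (α : MulAut N), ∀ s ∈ S, α s ∈ S := fun α s hs => by
    rw [← hinv α]
    exact ⟨s, hs, rfl⟩
  haveI hSn : S.Normal := ⟨fun s hs g => hmem (MulAut.conj g) s hs⟩
  -- involutions lie in it
  have hinvol : ∀ x : N, x * x = 1 → x ∈ S := by
    intro x hx
    have h3 : S.index = 3 := by
      have h := S.index_mul_card
      rw [hS, hN] at h
      omega
    have h := S.pow_index_mem x
    rwa [h3, show x ^ 3 = x * x * x by rw [pow_succ, pow_two], hx, one_mul] at h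
  -- its centralizer is trivial
  have hcent : ∀ x : N, (∀ s ∈ S, s * x = x * s) → x = 1 := by
    intro x hx
    have hzS : (⟨z, B.z_mem⟩ : N) ∈ S := hinvol _ (Subtype.ext (Invol.mul_self_eq_one B.sys.hz))
    have hmem' : ∀ i, (x : G) ∈ subA B.sys.cod i := by
      intro i
      refine B.cent_subA (congrArg Subtype.val (hx _ hzS)).symm fun a ha => ?_
      exact (congrArg Subtype.val (hx ⟨a, (mem_inf.1 (B.subA_le i ha)).2⟩
        (hinvol _ (Subtype.ext (B.subA_sq i a ha))))).symm
    have hxS : x ∈ S := hinvol x (Subtype.ext (B.subA_sq false _ (hmem' false)))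
    by_contra h1
    have hle : Subgroup.zpowers (⟨x, hxS⟩ : S) ≤ Subgroup.center S := by
      rw [Subgroup.zpowers_le, Subgroup.mem_center_iff]
      exact fun s => Subtype.ext (hx s s.2)
    rcases (Subgroup.center S).normal_of_characteristic.eq_bot_or_eq_top with h | h
    · rw [h, le_bot_iff, Subgroup.zpowers_eq_bot] at hle
      exact h1 (congrArg Subtype.val hle)
    · have hab : ∀ a ∈ subA B.sys.cod false, ∀ b ∈ subA B.sys.cod true, a * b = b * a := by
        intro a ha b hb
        have ha' : (⟨a, (mem_inf.1 (B.subA_le _ ha)).2⟩ : N) ∈ S := hinvol _ (Subtype.ext (B.subA_sq _ a ha))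
        have hb' : (⟨b, (mem_inf.1 (B.subA_le _ hb)).2⟩ : N) ∈ S := hinvol _ (Subtype.ext (B.subA_sq _ b hb))
        have := Subgroup.mem_center_iff.1 (show (⟨_, hb'⟩ : S) ∈ Subgroup.center S by rw [h]; exact Subgroup.mem_top _)
          ⟨_, ha'⟩
        exact congrArg (fun q : S => ((q : N) : G)) this
      refine B.subA_ne (Subgroup.eq_of_le_of_card_ge (fun a ha => ?_) (by rw [card_subA, card_subA]))
      refine B.cent_subA (mem_centralizer_singleton_iff.1 (mem_inf.1 (B.subA_le false ha)).1) fun b hb => ?_
      exact hab a ha b hb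
  -- restriction
  let res : MulAut N →* MulAut S := MonoidHom.mk' (fun α =>
    { toFun := fun s => ⟨α s, hmem α s s.2⟩
      invFun := fun s => ⟨α⁻¹ (s : N), hmem α⁻¹ s s.2⟩
      left_inv := fun s => Subtype.ext (MulAut.inv_apply_self N α s)
      right_inv := fun s => Subtype.ext (MulAut.apply_inv_self N α s)
      map_mul' := fun s t => Subtype.ext (map_mul α (s : N) t) }) fun α β => MulEquiv.ext fun s => rfl
  have hres : Function.Injective res := by
    rw [injective_iff_map_eq_one]
    intro α hα
    have hfix : ∀ s ∈ S, α s = s := fun s hs =>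
      congrArg Subtype.val (DFunLike.congr_fun hα (⟨s, hs⟩ : S))
    refine MulEquiv.ext fun x => ?_
    show α x = x
    refine mul_inv_eq_one.1 (hcent _ fun s hs => ?_)
    have hc : x⁻¹ * s * x ∈ S := by simpa using hSn.conj_mem s hs x⁻¹
    have h := hfix _ hc
    rw [map_mul, map_mul, map_inv, hfix s hs] at h
    calc s * (α x * x⁻¹) = α x * ((α x)⁻¹ * s * α x) * x⁻¹ := by group
      _ = _ := by rw [h]; group
  have hbound : Nat.card (MulAut N) ≤ 241920 := by
    refine (Nat.card_le_card_of_injective res hres).trans ?_
    rw [Nat.card_congr (MulAut.congr eS).toEquiv]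
    exact card_mulAut_psl hF4
  -- the action of `G`
  let f : G →* MulAut N := MulAut.conjNormal
  have hf : Function.Injective f := by
    rw [injective_iff_map_eq_one]
    intro g hg
    refine B.cent_eq_one hF fun n hn => ?_
    have := congrArg Subtype.val (DFunLike.congr_fun hg ⟨n, hn⟩)
    rw [MulAut.conjNormal_apply] at this
    exact mul_inv_eq_iff_eq_mul.1 this
  have hbij := hf.bijective_of_nat_card_le (by
    refine hbound.trans ?_
    rw [B.card_eq, hN])
  exact ⟨(MulEquiv.ofBijective f hbij).trans (MulAut.congr eQ)⟩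

end Fused

end CfsgLib.ChzL34
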