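import Cfsg.Agent.ChzL34.CaseF
import Cfsg.Agent.ChzL34.CaseW

/-! The elementary abelian subgroups of order sixteen when `224` is fused. -/

set_option autoImplicit false
set_option linter.unusedSectionVars false
set_option linter.style.haveILetI false
set_option maxRecDepth 100000

namespace CfsgLib.ChzL34

open Subgroup
open CfsgLib.Invol (orderOf_conj_eq)

variable {G : Type*} [Group G]

/-- The conjugate of a subgroup. -/
def cj (g : G) (X : Subgroup G) : Subgroup G := X.map (MulAut.conj g).toMonoidHom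

theorem mem_cj {g : G} {X : Subgroup G} {x : G} : x ∈ cj g X ↔ g⁻¹ * x * g ∈ X := by
  constructor
  · rintro ⟨y, hy, rfl⟩
    rw [show g⁻¹ * (MulAut.conj g).toMonoidHom y * g = y by
      show g⁻¹ * (g * y * g⁻¹) * g = y
      group]
    exact hy
  · intro h
    exact ⟨_, h, show g * (g⁻¹ * x * g) * g⁻¹ = x by group⟩

theorem conj_mem_cj {g : G} {X : Subgroup G} {x : G} : g * x * g⁻¹ ∈ cj g X ↔ x ∈ X := by
  rw [mem_cj, show g⁻¹ * (g * x * g⁻¹) * g = x by group]

theorem cj_cj (g h : G) (X : Subgroup G) : cj g (cj h X) = cj (g * h) X := by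
  ext x
  rw [mem_cj, mem_cj, mem_cj, show h⁻¹ * (g⁻¹ * x * g) * h = (g * h)⁻¹ * x * (g * h) by group]

theorem cj_one (X : Subgroup G) : cj 1 X = X := by
  ext x
  rw [mem_cj, inv_one, one_mul, mul_one]

theorem cj_inv_cj (g : G) (X : Subgroup G) : cj g⁻¹ (cj g X) = X := by
  rw [cj_cj, inv_mul_cancel, cj_one]

theorem card_cj (g : G) (X : Subgroup G) : Nat.card (cj g X) = Nat.card X :=
  (Nat.card_congr (X.equivMapOfInjective _ (MulAut.conj g).injective).toEquiv).symm

/-- The stabilizer in `N` of a subgroup under conjugation. -/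
def stN (N X : Subgroup G) : Subgroup N where
  carrier := {n | cj (n : G) X = X}
  one_mem' := cj_one X
  mul_mem' := by
    intro a b (ha : cj (a : G) X = X) (hb : cj (b : G) X = X)
    show cj ((a * b : N) : G) X = X
    rw [coe_mul, ← cj_cj, hb, ha]
  inv_mem' := by
    intro a (ha : cj (a : G) X = X)
    show cj ((a⁻¹ : N) : G) X = X
    rw [coe_inv]
    conv_lhs => rw [← ha]
    rw [cj_inv_cj]

theorem mem_stN {N X : Subgroup G} {n : N} : n ∈ stN N X ↔ cj (n : G) X = X := Iff.rfl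

theorem cj_eq_self [Finite G] {g : G} {X : Subgroup G} (h : ∀ x ∈ X, g * x * g⁻¹ ∈ X) : cj g X = X := by
  refine eq_of_le_of_card_ge ?_ (by rw [card_cj])
  rintro _ ⟨y, hy, rfl⟩
  exact h y hy

/-- The two lists of nodes. -/
def aList (i : Bool) : List Nat := cond i nA2 nA1

theorem aList_mem (i : Bool) : aList i ∈ [nA1, nA2] := by cases i <;> simp [aList]

variable [Finite G] {z : G} {c : Nat → G} {N : Subgroup G}

/-- The two elementary abelian subgroups of order 16. -/
noncomputable def subA (K : Cod z 0 c) (i : Bool) : Subgroup G :=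
  nodeSub K (fun n => (aList i).contains n) (by cases i <;> decide +kernel) (by
    intro p _ q _ hp hq
    have h := List.all_eq_true.1 sub_ok (aList i) (aList_mem i)
    simp only [Bool.and_eq_true] at h
    have h' := List.all_eq_true.1 h.2 p (List.contains_iff_mem.1 hp)
    simp only [Bool.and_eq_true] at h'
    exact List.all_eq_true.1 h'.1.1.2 q (List.contains_iff_mem.1 hq))

theorem mem_subA (K : Cod z 0 c) {i : Bool} {x : G} :
    x ∈ subA K i ↔ ∃ n ∈ aList i, n < 768 ∧ c n = x :=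
  ⟨fun ⟨n, h1, h2, h3⟩ => ⟨n, List.contains_iff_mem.1 h2, h1, h3⟩,
    fun ⟨n, h1, h2, h3⟩ => ⟨n, h2, List.contains_iff_mem.2 h1, h3⟩⟩

theorem card_subA (K : Cod z 0 c) (i : Bool) : Nat.card (subA K i) = 16 := by
  rw [subA, card_nodeSub]
  cases i <;> decide +kernel

theorem subA_node (i : Bool) {n : Nat} (hn : n ∈ aList i) :
    n < 768 ∧ inH1 n = true ∧ inS n = true ∧ m 0 n n = 0 ∧
      (∀ h, h < 768 → inH1 h = true → ∃ b ∈ aList i, m 0 h n = m 0 b h) ∧
      ([0, 16, 15, 31].contains n = true ∨ n ∈ clB) := by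
  have h := List.all_eq_true.1 sub_ok (aList i) (aList_mem i)
  simp only [Bool.and_eq_true] at h
  have h' := List.all_eq_true.1 h.2 n hn
  simp only [Bool.and_eq_true, Bool.or_eq_true] at h'
  obtain ⟨⟨⟨⟨⟨⟨h1, h2⟩, h3⟩, h4⟩, -⟩, h6⟩, h7⟩ := h'
  refine ⟨Nat.le_of_ble_eq_true h1, h2, h3, Nat.eq_of_beq_eq_true h4, fun j hj hj' => ?_, ?_⟩
  · have h8 := List.all_eq_true.1 h6 j (List.mem_range.2 hj)
    rw [hj', Bool.not_true, Bool.or_eq_true] at h8
    rcases h8 with h8 | h8
    · simp at h8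
    · obtain ⟨b, hb, hbe⟩ := List.any_eq_true.1 h8
      exact ⟨b, hb, Nat.eq_of_beq_eq_true hbe⟩
  · exact h7.imp id fun h => List.contains_iff_mem.1 h.1

namespace Big

variable (B : Big z c N)

include B

theorem subA_le (i : Bool) : subA B.sys.cod i ≤ centralizer ({z} : Set G) ⊓ N := by
  intro x hx
  obtain ⟨n, hn, hn', rfl⟩ := (mem_subA B.sys.cod).1 hx
  exact mem_inf.2 ⟨mem_centralizer_singleton_iff.2 (B.sys.cod.mem n hn'),
    (B.mem n hn').2 (subA_node i hn).2.1⟩

theorem subA_sq (i : Bool) : ∀ a ∈ subA B.sys.cod i, a * a = 1 := by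
  intro a ha
  obtain ⟨n, hn, hn', rfl⟩ := (mem_subA B.sys.cod).1 ha
  rw [B.sys.cod.mul n hn' n hn', (subA_node i hn).2.2.2.1, B.sys.cod.one]

theorem four_le_subA (i : Bool) : fourSub B.sys.cod ≤ subA B.sys.cod i := by
  intro x hx
  rcases (mem_fourSub B.sys.cod).1 hx with rfl | rfl | rfl | rfl
  · exact one_mem _
  · exact (mem_subA B.sys.cod).2 ⟨16, by cases i <;> decide +kernel, by norm_num, B.sys.cod.zeq.symm⟩
  · exact (mem_subA B.sys.cod).2 ⟨15, by cases i <;> decide +kernel, by norm_num, rfl⟩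
  · exact (mem_subA B.sys.cod).2 ⟨31, by cases i <;> decide +kernel, by norm_num, rfl⟩

theorem z_mem_subA (i : Bool) : z ∈ subA B.sys.cod i :=
  B.four_le_subA i ((mem_fourSub B.sys.cod).2 (Or.inr (Or.inl rfl)))

theorem subA_class (hF : IsConj z (c 224)) {i : Bool} {a : G} (ha : a ∈ subA B.sys.cod i) (h1 : a ≠ 1) :
    IsConj z a := by
  obtain ⟨n, hn, hn', rfl⟩ := (mem_subA B.sys.cod).1 ha
  rcases (subA_node i hn).2.2.2.2.2 with h | h
  · exact B.four_class (show c n ∈ fourSub B.sys.cod from ⟨n, hn', h, rfl⟩) h1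
  · exact hF.trans (B.clB_conj h)

theorem subA_normal (i : Bool) {h : G} (hh : h ∈ centralizer ({z} : Set G) ⊓ N) {a : G}
    (ha : a ∈ subA B.sys.cod i) : h * a * h⁻¹ ∈ subA B.sys.cod i := by
  obtain ⟨j, hj, rfl⟩ := B.sys.cod.surj h (mem_centralizer_singleton_iff.1 (mem_inf.1 hh).1)
  obtain ⟨n, hn, hn', rfl⟩ := (mem_subA B.sys.cod).1 ha
  obtain ⟨b, hb, hbe⟩ := (subA_node i hn).2.2.2.2.1 j hj ((B.mem j hj).1 (mem_inf.1 hh).2)
  have hb' := (subA_node i hb).1
  refine (mem_subA B.sys.cod).2 ⟨b, hb, hb', ?_⟩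
  rw [eq_mul_inv_iff_mul_eq, B.sys.cod.mul j hj n hn', hbe, ← B.sys.cod.mul b hb' j hj]

theorem cj_subA (i : Bool) {h : G} (hh : h ∈ centralizer ({z} : Set G) ⊓ N) :
    cj h (subA B.sys.cod i) = subA B.sys.cod i :=
  cj_eq_self fun _ hx => B.subA_normal i hh hx

theorem subA_inter {x : G} (h1 : x ∈ subA B.sys.cod false) (h2 : x ∈ subA B.sys.cod true) :
    x ∈ fourSub B.sys.cod := by
  obtain ⟨n, hn, hn', rfl⟩ := (mem_subA B.sys.cod).1 h1
  obtain ⟨p, hp, hp', e⟩ := (mem_subA B.sys.cod).1 h2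
  obtain rfl : p = n := B.sys.cod.inj p hp' n hn' e
  refine ⟨p, hn', ?_, rfl⟩
  have h := List.all_eq_true.1 meet_ok p (List.mem_range.2 hn')
  rw [List.contains_iff_mem.2 (show p ∈ nA1 from hn), List.contains_iff_mem.2 (show p ∈ nA2 from hp)] at h
  simpa using h

theorem subA_cross {a b : G} (ha : a ∈ subA B.sys.cod false) (hb : b ∈ subA B.sys.cod true)
    (hab : a * b = b * a) : a ∈ fourSub B.sys.cod ∨ b ∈ fourSub B.sys.cod := by
  obtain ⟨n, hn, hn', rfl⟩ := (mem_subA B.sys.cod).1 ha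
  obtain ⟨p, hp, hp', rfl⟩ := (mem_subA B.sys.cod).1 hb
  have h := List.all_eq_true.1 (List.all_eq_true.1 cross_ok n hn) p hp
  simp only [Bool.or_eq_true, Bool.not_eq_true'] at h
  rcases h with (h | h) | h
  · exact Or.inl ⟨n, hn', h, rfl⟩
  · exact Or.inr ⟨p, hp', h, rfl⟩
  · rw [(B.sys.cod.beq_mul hn' hp').2 hab] at h
    exact absurd h (by simp)

theorem subA_ne : subA B.sys.cod false ≠ subA B.sys.cod true := fun h => by
  have hle : subA B.sys.cod false ≤ fourSub B.sys.cod := fun x hx => B.subA_inter hx (h ▸ hx)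
  have := card_le_of_le hle
  rw [card_subA, card_fourSub] at this
  omega

/-- The elementary abelian subgroups of order 16 in the centralizer. -/
theorem elem_cases {X : Subgroup G} (hX : X ≤ centralizer ({z} : Set G) ⊓ N) (hsq : ∀ x ∈ X, x * x = 1)
    (h16 : Nat.card X = 16) : ∃ i, X = subA B.sys.cod i := by
  have hmem : ∀ x ∈ X, x ∈ subA B.sys.cod false ∨ x ∈ subA B.sys.cod true := by
    intro x hx
    obtain ⟨p, hp, rfl⟩ := B.sys.cod.surj x (mem_centralizer_singleton_iff.1 (mem_inf.1 (hX hx)).1)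
    by_cases h1 : c p = 1
    · exact Or.inl (h1 ▸ one_mem _)
    by_cases hz : c p = z
    · exact Or.inl (hz.symm ▸ B.z_mem_subA false)
    have h2 : orderOf (c p) = 2 := orderOf_eq_prime (by rw [pow_two, hsq _ hx]) h1
    have h := List.all_eq_true.1 t_invs_ok p (B.sys.cod.mem_invs hp h2 hz)
    rw [(B.mem p hp).1 (mem_inf.1 (hX hx)).2] at h
    simp only [Bool.not_true, Bool.false_or, Bool.or_eq_true, List.contains_iff_mem] at h
    exact h.imp (fun h => (mem_subA B.sys.cod).2 ⟨p, h, hp, rfl⟩)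
      (fun h => (mem_subA B.sys.cod).2 ⟨p, h, hp, rfl⟩)
  by_cases hle : X ≤ subA B.sys.cod false
  · exact ⟨false, eq_of_le_of_card_ge hle (by rw [card_subA, h16])⟩
  · obtain ⟨b, hbX, hb⟩ := Set.not_subset.1 hle
    refine ⟨true, eq_of_le_of_card_ge (fun a ha => ?_) (by rw [card_subA, h16])⟩
    rcases hmem a ha with h | h
    · by_contra ha'
      rcases B.subA_cross h ((hmem b hbX).resolve_left hb) (mul_comm_of_sq hsq ha hbX) with e | e
      · exact ha' (B.four_le_subA true e)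
      · exact hb (B.four_le_subA false e)
    · exact h

/-- An elementary abelian subgroup of order 16 through a conjugate of `z`. -/
theorem at_conj {X : Subgroup G} (hX : X ≤ N) (hsq : ∀ x ∈ X, x * x = 1) (h16 : Nat.card X = 16) {g : G}
    (hg : g ∈ N) (hz : g * z * g⁻¹ ∈ X) : ∃ i, X = cj g (subA B.sys.cod i) := by
  obtain ⟨i, hi⟩ := B.elem_cases (X := cj g⁻¹ X) (fun x hx => by
      rw [mem_cj, inv_inv] at hx
      refine mem_inf.2 ⟨mem_centralizer_singleton_iff.2 ?_, ?_⟩
      · have h := (comm_conj g⁻¹ (g * x * g⁻¹) (g * z * g⁻¹)).1 (mul_comm_of_sq hsq hx hz)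
        rwa [inv_inv, show g⁻¹ * (g * x * g⁻¹) * g = x by group,
          show g⁻¹ * (g * z * g⁻¹) * g = z by group] at h
      · have h := mul_mem (mul_mem (inv_mem hg) (hX hx)) hg
        rwa [show g⁻¹ * (g * x * g⁻¹) * g = x by group] at h)
    (fun x hx => by
      rw [mem_cj, inv_inv] at hx
      have h := hsq _ hx
      rwa [show g * x * g⁻¹ * (g * x * g⁻¹) = g * (x * x) * g⁻¹ by group, conj_eq_one_iff] at h)
    (by rw [card_cj, h16])
  exact ⟨i, by rw [← hi, cj_cj, mul_inv_cancel, cj_one]⟩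

theorem subA_not_conj (h64 : 64 ∣ Nat.card N) (h128 : ¬ 128 ∣ Nat.card N) {g : G} (hg : g ∈ N) :
    cj g (subA B.sys.cod true) ≠ subA B.sys.cod false := by
  classical
  intro hgA
  haveI : Fact (Nat.Prime 2) := ⟨Nat.prime_two⟩
  set A := subA B.sys.cod false with hA
  set A' := subA B.sys.cod true with hA'
  set T := B.sys.syl ⊓ N with hTdef
  have hTz : T ≤ centralizer ({z} : Set G) ⊓ N := by
    intro x hx
    obtain ⟨⟨n, hn, -, rfl⟩, hN⟩ := mem_inf.1 hx
    exact mem_inf.2 ⟨mem_centralizer_singleton_iff.2 (B.sys.cod.mem n hn), hN⟩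
  have hAT : ∀ i, subA B.sys.cod i ≤ T := by
    intro i x hx
    obtain ⟨n, hn, hn', rfl⟩ := (mem_subA B.sys.cod).1 hx
    exact mem_inf.2 ⟨⟨n, hn', (subA_node i hn).2.2.1, rfl⟩, (B.mem n hn').2 (subA_node i hn).2.1⟩
  have hT : Nat.card T = 64 := by
    have h : Nat.card {v : G // v * z = z * v ∧ v ∈ T} = 64 := by
      rw [B.sys.cod.card_filter (fun v => v ∈ T) (fun n => inH1 n && inS n) fun j hj => by
        rw [Bool.and_eq_true, ← B.mem j hj, hTdef, mem_inf, and_comm]
        exact and_congr_left' (mem_nodeSub B.sys.cod hj).symm]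
      have := count_ok
      simp only [Bool.and_eq_true] at this
      exact Nat.eq_of_beq_eq_true this.2
    rw [← h]
    exact Nat.card_congr (Equiv.subtypeEquivRight fun v =>
      ⟨fun h => ⟨mem_centralizer_singleton_iff.1 (mem_inf.1 (hTz h)).1, h⟩, fun h => h.2⟩)
  have hT' : Nat.card (T.subgroupOf N) = 64 := by
    rw [Nat.card_congr (subgroupOfEquivOfLe inf_le_right).toEquiv, hT]
  have hf : (Nat.card N).factorization 2 = 6 := by
    obtain ⟨k, hk⟩ := h64
    have hk2 : ¬ 2 ∣ k := fun ⟨j, hj⟩ => h128 ⟨j, by rw [hk, hj]; ring⟩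
    rw [hk, Nat.factorization_mul (by norm_num) (fun h0 : k = 0 => hk2 (by rw [h0]; exact dvd_zero 2)), Finsupp.add_apply,
      Nat.factorization_eq_zero_of_not_dvd hk2, show (64 : ℕ) = 2 ^ 6 by norm_num,
      Nat.Prime.factorization_pow Nat.prime_two, Finsupp.single_eq_same]
  let P : Sylow 2 N := Sylow.ofCard (T.subgroupOf N) (by rw [hT', hf]; norm_num)
  have hPmem : ∀ t : N, t ∈ P ↔ (t : G) ∈ T := fun t => mem_subgroupOf
  have hPst : ∀ i, (P : Subgroup N) ≤ stN N (subA B.sys.cod i) := fun i t ht =>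
    B.cj_subA i (hTz ((hPmem t).1 ht))
  set gn : N := ⟨g, hg⟩
  have hQst : ((gn • P : Sylow 2 N) : Subgroup N) ≤ stN N A := by
    rintro _ ⟨t, ht, rfl⟩
    show cj ((gn * t * gn⁻¹ : N) : G) A = A
    rw [coe_mul, coe_mul, coe_inv]
    show cj (g * (t : G) * g⁻¹) A = A
    rw [← hgA, cj_cj, inv_mul_cancel_right, ← cj_cj, mem_stN.1 (hPst true ht)]
  obtain ⟨h, hh⟩ := MulAction.exists_smul_eq (stN N A) ((gn • P).subtype hQst) (P.subtype (hPst false))
  set n : N := (h : N) * gn with hn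
  have hnP : ∀ t : N, t ∈ P → n * t * n⁻¹ ∈ P := by
    intro t ht
    have h1 : (gn * t * gn⁻¹ : N) ∈ (gn • P : Sylow 2 N) := ⟨t, ht, rfl⟩
    have h2 : h * ⟨gn * t * gn⁻¹, hQst h1⟩ * h⁻¹ ∈ (h • (gn • P).subtype hQst : Sylow 2 (stN N A)) :=
      ⟨⟨gn * t * gn⁻¹, hQst h1⟩, h1, rfl⟩
    rw [hh] at h2
    have h3 : ((h * ⟨gn * t * gn⁻¹, hQst h1⟩ * h⁻¹ : stN N A) : N) ∈ P := h2
    rw [hn]
    convert h3 using 1
    push_cast
    group
  have hnA : cj (n : G) A' = A := by
    rw [hn, coe_mul, ← cj_cj, hgA, mem_stN.1 h.2]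
  have hnA' : cj (n : G) A = A' := by
    obtain ⟨i, hi⟩ := B.elem_cases (X := cj (n : G) A) (fun x hx => by
        obtain ⟨y, hy, rfl⟩ := hx
        exact hTz ((hPmem _).1 (hnP ⟨y, (mem_inf.1 (hAT false hy)).2⟩ ((hPmem _).2 (hAT false hy)))))
      (fun x hx => by
        obtain ⟨y, hy, rfl⟩ := hx
        rw [← map_mul, B.subA_sq false y hy, map_one])
      (by rw [card_cj, card_subA])
    cases i
    · exfalso
      have h2 : cj (n : G) A = cj (n : G) A' := hi.trans hnA.symm
      have := congrArg (cj (n : G)⁻¹) h2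
      rw [cj_inv_cj, cj_inv_cj] at this
      exact B.subA_ne this
    · exact hi
  have hn2 : n * n ∈ stN N A := by
    rw [mem_stN, coe_mul, ← cj_cj, hnA', hnA]
  set Nm := normalizer (P : Set N)
  have hnNm : n ∈ Nm := by
    have hle : (P : Subgroup N).map (MulAut.conj n).toMonoidHom = (P : Subgroup N) := by
      refine eq_of_le_of_card_ge ?_ (by
        rw [← Nat.card_congr ((P : Subgroup N).equivMapOfInjective _ (MulAut.conj n).injective).toEquiv])
      rintro _ ⟨t, ht, rfl⟩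
      exact hnP t ht
    refine mem_normalizer_iff.2 fun t => ⟨hnP t, fun ht => ?_⟩
    have : n * t * n⁻¹ ∈ (P : Subgroup N).map (MulAut.conj n).toMonoidHom := hle.symm ▸ ht
    obtain ⟨t', ht', e⟩ := this
    have e' : n * t' * n⁻¹ = n * t * n⁻¹ := e
    rwa [mul_left_cancel (mul_right_cancel e')] at ht'
  haveI : ((P : Subgroup N).subgroupOf Nm).Normal := normal_in_normalizer
  have hk : ((P : Subgroup N).subgroupOf Nm).index ∣ (P : Subgroup N).index :=
    ⟨_, (relIndex_mul_index (le_normalizer : (P : Subgroup N) ≤ Nm)).symm⟩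
  have hodd : Odd ((P : Subgroup N).subgroupOf Nm).index := by
    rw [Nat.odd_iff, ← Nat.two_dvd_ne_zero]
    exact fun h => P.not_dvd_index (h.trans hk)
  have hpow := ((P : Subgroup N).subgroupOf Nm).pow_index_mem ⟨n, hnNm⟩
  rw [mem_subgroupOf] at hpow
  push_cast at hpow
  obtain ⟨j, hj⟩ := hodd
  rw [hj, pow_succ, pow_mul] at hpow
  have hmem : n ∈ stN N A := by
    have := mul_mem (inv_mem (pow_mem (show n ^ 2 ∈ stN N A by rwa [pow_two]) j)) (hPst false hpow)
    rwa [inv_mul_cancel_left] at this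
  rw [mem_stN, hnA'] at hmem
  exact B.subA_ne hmem.symm

/-- The normalizers of the two subgroups. -/
theorem card_stN (hF : IsConj z (c 224)) (h64 : 64 ∣ Nat.card N) (h128 : ¬ 128 ∣ Nat.card N) (i : Bool) :
    Nat.card (stN N (subA B.sys.cod i)) = 2880 := by
  classical
  set A := subA B.sys.cod i with hA
  have hex : ∀ a : {a : A // a ≠ 1}, ∃ g : N, g ∈ stN N A ∧ (g : G) * z * (g : G)⁻¹ = ((a : A) : G) := by
    rintro ⟨⟨a, ha⟩, ha1⟩
    obtain ⟨g, hg, hga⟩ := B.conj_in (B.subA_class hF ha fun e => ha1 (Subtype.ext e))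
    refine ⟨⟨g, hg⟩, ?_, hga⟩
    obtain ⟨j, hj⟩ := B.at_conj (fun x hx => (mem_inf.1 (B.subA_le i hx)).2) (B.subA_sq i)
      (card_subA B.sys.cod i) hg (hga.symm ▸ ha)
    have : j = i := by
      by_contra hne
      cases i <;> cases j <;> try exact hne rfl
      · exact B.subA_not_conj h64 h128 hg hj.symm
      · refine B.subA_not_conj h64 h128 (inv_mem hg) ?_
        conv_lhs => rw [hj]
        rw [cj_inv_cj]
    rw [this] at hj
    exact hj.symm
  choose g hgst hgz using hex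
  set H := centralizer ({z} : Set G) ⊓ N with hH
  let f : {a : A // a ≠ 1} × H → stN N A := fun p =>
    ⟨g p.1 * ⟨(p.2 : G), (mem_inf.1 p.2.2).2⟩, mul_mem (hgst _) (B.cj_subA i p.2.2)⟩
  have hfz : ∀ p, ((f p : N) : G) * z * ((f p : N) : G)⁻¹ = ((p.1 : A) : G) := by
    rintro ⟨a, ⟨h, hh⟩⟩
    show (g a : G) * h * z * ((g a : G) * h)⁻¹ = _
    rw [mul_inv_rev, mul_assoc (g a : G), mem_centralizer_singleton_iff.1 (mem_inf.1 hh).1, ← hgz a]
    group
  have hf : Function.Bijective f := by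
    constructor
    · rintro ⟨a, h⟩ ⟨b, k⟩ e
      have hab : a = b := by
        refine Subtype.ext (Subtype.ext ?_)
        rw [← hfz (a, h), ← hfz (b, k), e]
      subst hab
      have e' : (g a : G) * h = (g a : G) * k := congrArg (fun q : stN N A => ((q : N) : G)) e
      exact Prod.ext rfl (Subtype.ext (mul_left_cancel e'))
    · rintro ⟨n, hn⟩
      have hmem : (n : G) * z * (n : G)⁻¹ ∈ A := by
        rw [← mem_stN.1 hn]
        exact conj_mem_cj.2 (B.z_mem_subA i)
      have hne : (⟨_, hmem⟩ : A) ≠ 1 := fun e => Invol.ne_one B.sys.hz (by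
        have := congrArg Subtype.val e
        exact conj_eq_one_iff.1 this)
      set a : {a : A // a ≠ 1} := ⟨⟨_, hmem⟩, hne⟩
      have hh : (g a : G)⁻¹ * n ∈ H := by
        refine mem_inf.2 ⟨mem_centralizer_singleton_iff.2 ?_, mul_mem (inv_mem (g a).2) n.2⟩
        refine eq_mul_of_mul_inv_eq ?_
        rw [show (g a : G)⁻¹ * n * z * ((g a : G)⁻¹ * n)⁻¹ = (g a : G)⁻¹ * ((n : G) * z * (n : G)⁻¹) * g a by
          group, show (n : G) * z * (n : G)⁻¹ = ((a : A) : G) from rfl, ← hgz a]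
        group
      exact ⟨(a, ⟨_, hh⟩), Subtype.ext (Subtype.ext (mul_inv_cancel_left (g a : G) (n : G)))⟩
  have hH192 : Nat.card H = 192 := by
    have h : Nat.card {v : G // v * z = z * v ∧ v ∈ N} = 192 := by
      rw [B.sys.cod.card_filter (fun v => v ∈ N) inH1 fun j hj => (B.mem j hj).symm]
      have := count_ok
      simp only [Bool.and_eq_true] at this
      exact Nat.eq_of_beq_eq_true this.1.2
    rw [← h]
    exact Nat.card_congr (Equiv.subtypeEquivRight fun v => by rw [hH, mem_inf, mem_centralizer_singleton_iff])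
  haveI := Fintype.ofFinite A
  rw [← Nat.card_congr (Equiv.ofBijective f hf), Nat.card_prod, hH192, Nat.card_eq_fintype_card (α := {a : A // a ≠ 1}),
    Fintype.card_subtype_compl, Fintype.card_subtype_eq, ← Nat.card_eq_fintype_card, hA, card_subA]

theorem card_fused_eq (hF : IsConj z (c 224)) : Nat.card N = 60480 := by
  rcases B.card_fused hF with h | h | h
  · have h2 := card_subgroup_dvd_card (stN N (subA B.sys.cod false))
    rw [B.card_stN hF (by rw [h]; norm_num) (by rw [h]; norm_num), h] at h2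
    norm_num at h2
  · have h2 := card_subgroup_dvd_card (stN N (subA B.sys.cod false))
    rw [B.card_stN hF (by rw [h]; norm_num) (by rw [h]; norm_num), h] at h2
    norm_num at h2
  · exact h

theorem stN_card (hF : IsConj z (c 224)) (i : Bool) : Nat.card (stN N (subA B.sys.cod i)) = 2880 :=
  B.card_stN hF (by rw [B.card_fused_eq hF]; norm_num) (by rw [B.card_fused_eq hF]; norm_num) i

theorem not_conj' (hF : IsConj z (c 224)) {g : G} (hg : g ∈ N) (i : Bool) :
    cj g (subA B.sys.cod i) ≠ subA B.sys.cod (!i) := by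
  have h64 : 64 ∣ Nat.card N := by rw [B.card_fused_eq hF]; norm_num
  have h128 : ¬ 128 ∣ Nat.card N := by rw [B.card_fused_eq hF]; norm_num
  cases i
  · intro h
    refine B.subA_not_conj h64 h128 (inv_mem hg) ?_
    show cj g⁻¹ (subA B.sys.cod (!false)) = _
    rw [← h, cj_inv_cj]
  · exact B.subA_not_conj h64 h128 hg

end Big

end CfsgLib.ChzL34
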