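import Cfsg.Agent.ChzL34.FusedLocal
import Cfsg.Agent.PlaneFour.Automorphisms

/-! The plane of order four formed by the subgroups of order sixteen. -/

set_option autoImplicit false
set_option linter.unusedSectionVars false
set_option linter.style.haveILetI false
set_option maxRecDepth 100000

namespace CfsgLib.ChzL34

open Subgroup
open CfsgLib.Invol (orderOf_conj_eq)

variable {G : Type*} [Group G] [Finite G] {z : G} {c : Nat → G} {N : Subgroup G}

/-- A nontrivial common element. -/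
def Meet (X Y : Subgroup G) : Prop := ∃ x, x ∈ X ∧ x ∈ Y ∧ x ≠ 1

theorem even_of_involutive {S : Type*} [Finite S] (σ : S → S) (hσ : Function.Involutive σ)
    (h : ∀ x, σ x ≠ x) : Even (Nat.card S) := by
  classical
  haveI := Fintype.ofFinite S
  let τ : Equiv.Perm S := hσ.toPerm σ
  have hs : τ.support = Finset.univ := by
    ext x
    simp [τ, Equiv.Perm.mem_support, h x]
  have h2 : 2 ∣ τ.support.card := Equiv.Perm.two_dvd_card_support (by
    ext x
    simp [τ, pow_two, hσ x])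
  rw [hs, Finset.card_univ, ← Nat.card_eq_fintype_card] at h2
  exact even_iff_two_dvd.2 h2

theorem Meet.symm {X Y : Subgroup G} (h : Meet X Y) : Meet Y X := by
  obtain ⟨x, h1, h2, h3⟩ := h
  exact ⟨x, h2, h1, h3⟩

theorem Meet.cj {X Y : Subgroup G} (h : Meet X Y) (g : G) : Meet (cj g X) (cj g Y) := by
  obtain ⟨x, h1, h2, h3⟩ := h
  exact ⟨g * x * g⁻¹, conj_mem_cj.2 h1, conj_mem_cj.2 h2, fun e => h3 (conj_eq_one_iff.1 e)⟩

namespace Big

variable (B : Big z c N)

/-- The conjugates of one of the two subgroups. -/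
abbrev Orb (i : Bool) : Type _ := {X : Subgroup G // ∃ g ∈ N, cj g (subA B.sys.cod i) = X}

/-- Conjugation on one class of subgroups. -/
noncomputable def conjPerm (i : Bool) : N →* Equiv.Perm (B.Orb i) where
  toFun n :=
    { toFun := fun X => ⟨cj (n : G) X.1, by
        obtain ⟨g, hg, hX⟩ := X.2
        exact ⟨n * g, mul_mem n.2 hg, by rw [← hX, cj_cj]⟩⟩
      invFun := fun X => ⟨cj (n : G)⁻¹ X.1, by
        obtain ⟨g, hg, hX⟩ := X.2
        exact ⟨(n : G)⁻¹ * g, mul_mem (inv_mem n.2) hg, by rw [← hX, cj_cj]⟩⟩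
      left_inv := fun X => Subtype.ext (cj_inv_cj _ _)
      right_inv := fun X => Subtype.ext (by show cj (n : G) (cj (n : G)⁻¹ X.1) = X.1; rw [cj_cj, mul_inv_cancel, cj_one]) }
  map_one' := Equiv.ext fun X => Subtype.ext (cj_one _)
  map_mul' a b := Equiv.ext fun X => Subtype.ext (cj_cj (a : G) (b : G) X.1).symm

include B

theorem orb_props {i : Bool} (X : B.Orb i) :
    X.1 ≤ N ∧ (∀ x ∈ X.1, x * x = 1) ∧ Nat.card X.1 = 16 := by
  obtain ⟨g, hg, hX⟩ := X.2
  refine ⟨fun x hx => ?_, fun x hx => ?_, by rw [← hX, card_cj, card_subA]⟩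
  · rw [← hX, mem_cj] at hx
    have h := mul_mem (mul_mem hg (mem_inf.1 (B.subA_le i hx)).2) (inv_mem hg)
    rwa [show g * (g⁻¹ * x * g) * g⁻¹ = x by group] at h
  · rw [← hX, mem_cj] at hx
    have h := B.subA_sq i _ hx
    rwa [show g⁻¹ * x * g * (g⁻¹ * x * g) = g⁻¹ * (x * x) * g⁻¹⁻¹ by group, conj_eq_one_iff] at h

theorem card_orb (hF : IsConj z (c 224)) (i : Bool) : Nat.card (B.Orb i) = 21 := by
  classical
  set A := subA B.sys.cod i
  choose g hg hgX using fun X : B.Orb i => X.2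
  let f : B.Orb i × stN N A → N := fun p => ⟨g p.1, hg p.1⟩ * p.2
  have hf : Function.Bijective f := by
    constructor
    · rintro ⟨X, h⟩ ⟨Y, k⟩ e
      have e' : g X * ((h : N) : G) = g Y * ((k : N) : G) := congrArg Subtype.val e
      have hXY : X = Y := by
        refine Subtype.ext ?_
        have e1 : cj (g X * ((h : N) : G)) A = X.1 := by rw [← cj_cj, mem_stN.1 h.2, hgX X]
        have e2 : cj (g Y * ((k : N) : G)) A = Y.1 := by rw [← cj_cj, mem_stN.1 k.2, hgX Y]
        rw [← e1, e', e2]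
      subst hXY
      exact Prod.ext rfl (Subtype.ext (Subtype.ext (mul_left_cancel e')))
    · intro n
      set X : B.Orb i := ⟨cj (n : G) A, n, n.2, rfl⟩
      refine ⟨(X, ⟨⟨g X, hg X⟩⁻¹ * n, ?_⟩), mul_inv_cancel_left _ _⟩
      rw [mem_stN, coe_mul, coe_inv, ← cj_cj]
      show cj (g X)⁻¹ (cj (n : G) A) = A
      have e : cj (n : G) A = cj (g X) A := (hgX X).symm
      rw [e, cj_inv_cj]
  have h := Nat.card_congr (Equiv.ofBijective f hf)
  rw [Nat.card_prod, B.stN_card hF i, B.card_fused_eq hF] at h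
  omega

/-- The member of a class through a conjugate of `z`. -/
theorem through (hF : IsConj z (c 224)) {i : Bool} (X : B.Orb i) {g : G} (hg : g ∈ N)
    (hx : g * z * g⁻¹ ∈ X.1) : X.1 = cj g (subA B.sys.cod i) := by
  obtain ⟨h1, h2, h3⟩ := B.orb_props X
  obtain ⟨j, hj⟩ := B.at_conj h1 h2 h3 hg hx
  suffices j = i by simpa only [this] using hj
  by_contra hne
  obtain ⟨k, hk, hX⟩ := X.2
  have hji : j = !i := by cases i <;> cases j <;> first | rfl | exact absurd rfl hne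
  refine B.not_conj' hF (mul_mem (inv_mem hg) hk) i ?_
  rw [← cj_cj, hX, hj, cj_inv_cj, hji]

theorem orb_class (hF : IsConj z (c 224)) {i : Bool} (X : B.Orb i) {x : G} (hx : x ∈ X.1) (h1 : x ≠ 1) :
    IsConj z x := by
  obtain ⟨g, -, hX⟩ := X.2
  rw [← hX, mem_cj] at hx
  refine (B.subA_class hF hx fun e => h1 ?_).trans (isConj_iff.2 ⟨g, by group⟩)
  have := congrArg (fun t => g * t * g⁻¹) e
  simpa [mul_assoc] using this

theorem exists_through (hF : IsConj z (c 224)) {x : G} (hx : IsConj z x) (i : Bool) :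
    ∃! X : B.Orb i, x ∈ X.1 := by
  obtain ⟨g, hg, rfl⟩ := B.conj_in hx
  exact ⟨⟨cj g (subA B.sys.cod i), g, hg, rfl⟩, conj_mem_cj.2 (B.z_mem_subA i),
    fun Y hY => Subtype.ext (B.through hF Y hg hY)⟩

/-- Two meeting members of different classes. -/
theorem flag (hF : IsConj z (c 224)) {i : Bool} (X : B.Orb i) (Y : B.Orb (!i)) {x : G} (hX : x ∈ X.1)
    (hY : x ∈ Y.1) (h1 : x ≠ 1) :
    ∃ g ∈ N, X.1 = cj g (subA B.sys.cod i) ∧ Y.1 = cj g (subA B.sys.cod (!i)) := by
  obtain ⟨g, hg, rfl⟩ := B.conj_in (B.orb_class hF X hX h1)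
  exact ⟨g, hg, B.through hF X hg hX, B.through hF Y hg hY⟩

theorem flag_card (hF : IsConj z (c 224)) {i : Bool} (X : B.Orb i) (Y : B.Orb (!i)) (h : Meet X.1 Y.1) :
    Nat.card {x : G // x ∈ X.1 ∧ x ∈ Y.1 ∧ x ≠ 1} = 3 := by
  classical
  obtain ⟨x, hx, hy, h1⟩ := h
  obtain ⟨g, hg, eX, eY⟩ := B.flag hF X Y hx hy h1
  have e : Nat.card {x : G // x ∈ X.1 ∧ x ∈ Y.1 ∧ x ≠ 1} = Nat.card {x : fourSub B.sys.cod // x ≠ 1} := by
    refine Nat.card_congr
      { toFun := fun v => ⟨⟨g⁻¹ * v.1 * g, ?_⟩, fun e => v.2.2.2 ?_⟩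
        invFun := fun w => ⟨g * (w.1 : G) * g⁻¹, ?_, ?_, fun e => w.2 (Subtype.ext (conj_eq_one_iff.1 e))⟩
        left_inv := fun v => Subtype.ext (show g * (g⁻¹ * v.1 * g) * g⁻¹ = v.1 by group)
        right_inv := fun w => Subtype.ext (Subtype.ext (show g⁻¹ * (g * (w.1 : G) * g⁻¹) * g = w.1 by group)) }
    · have h1 := mem_cj.1 ((SetLike.ext_iff.1 eX v.1).1 v.2.1)
      have h2 := mem_cj.1 ((SetLike.ext_iff.1 eY v.1).1 v.2.2.1)
      cases i
      · exact B.subA_inter h1 h2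
      · exact B.subA_inter h2 h1
    · have := congrArg (fun t => g * t * g⁻¹) (congrArg Subtype.val e)
      simpa [mul_assoc] using this
    · exact (SetLike.ext_iff.1 eX _).2 (conj_mem_cj.2 (B.four_le_subA i w.1.2))
    · exact (SetLike.ext_iff.1 eY _).2 (conj_mem_cj.2 (B.four_le_subA (!i) w.1.2))
  haveI := Fintype.ofFinite (fourSub B.sys.cod)
  rw [e, Nat.card_eq_fintype_card, Fintype.card_subtype_compl, Fintype.card_subtype_eq,
    ← Nat.card_eq_fintype_card, card_fourSub]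

theorem card_meet (hF : IsConj z (c 224)) {i : Bool} (X : B.Orb i) :
    Nat.card {Y : B.Orb (!i) // Meet X.1 Y.1} = 5 := by
  classical
  let f : {Y : B.Orb (!i) // Meet X.1 Y.1} → Type _ := fun Y => {x : G // x ∈ X.1 ∧ x ∈ Y.1.1 ∧ x ≠ 1}
  have e : Nat.card (Σ Y, f Y) = Nat.card {x : X.1 // x ≠ 1} := by
    let φ : (Σ Y, f Y) → {x : X.1 // x ≠ 1} := fun p =>
      ⟨⟨p.2.1, p.2.2.1⟩, fun e => p.2.2.2.2 (congrArg Subtype.val e)⟩
    refine Nat.card_congr (Equiv.ofBijective φ ⟨?_, ?_⟩)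
    · rintro ⟨Y, x, hx⟩ ⟨Y', x', hx'⟩ h
      have hxx : x = x' := congrArg (fun q : {x : X.1 // x ≠ 1} => ((q.1 : G))) h
      subst hxx
      obtain rfl : Y = Y' := Subtype.ext ((B.exists_through hF (B.orb_class hF X hx.1 hx.2.2) (!i)).unique hx.2.1 hx'.2.1)
      rfl
    · rintro ⟨⟨x, hx⟩, hx1⟩
      have h1 : x ≠ 1 := fun e => hx1 (Subtype.ext e)
      obtain ⟨Y, hY, -⟩ := B.exists_through hF (B.orb_class hF X hx h1) (!i)
      exact ⟨⟨⟨Y, x, hx, hY, h1⟩, x, hx, hY, h1⟩, rfl⟩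
  haveI := Fintype.ofFinite {Y : B.Orb (!i) // Meet X.1 Y.1}
  haveI := Fintype.ofFinite X.1
  rw [Nat.card_sigma, Finset.sum_congr rfl (g := fun _ => 3) (fun Y _ => B.flag_card hF X Y.1 Y.2),
    Finset.sum_const, Finset.card_univ, ← Nat.card_eq_fintype_card, smul_eq_mul,
    Nat.card_eq_fintype_card (α := {x : X.1 // x ≠ 1}), Fintype.card_subtype_compl, Fintype.card_subtype_eq,
    ← Nat.card_eq_fintype_card, (B.orb_props X).2.2] at e
  omega

/-- Two points lie on at most one line. -/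
theorem meet_unique (hF : IsConj z (c 224)) {P P' : B.Orb false} {Y Y' : B.Orb true} (hne : P ≠ P')
    (h1 : Meet P.1 Y.1) (h2 : Meet P'.1 Y.1) (h3 : Meet P.1 Y'.1) (h4 : Meet P'.1 Y'.1) : Y = Y' := by
  by_contra hY
  obtain ⟨x, hx, hy, hx1⟩ := h1
  obtain ⟨g, hg, eP, eY⟩ := B.flag hF (i := false) P Y hx hy hx1
  replace eY : Y.1 = cj g (subA B.sys.cod true) := eY
  obtain ⟨w0, hw0P, hw0Y, hw01⟩ := h3
  obtain ⟨u0, hu0P, hu0Y, hu01⟩ := h2
  obtain ⟨v0, hv0P, hv0Y, hv01⟩ := h4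
  have hY'sq := (B.orb_props Y').2.1
  -- the element fixing the second point
  have hfix : cj w0 P'.1 = P'.1 := by
    obtain ⟨k, hk, hP'⟩ := P'.2
    have hw0N : w0 ∈ N := (B.orb_props Y').1 hw0Y
    have hv : w0 * v0 * w0⁻¹ = v0 := by
      rw [mul_comm_of_sq hY'sq hw0Y hv0Y, mul_inv_cancel_right]
    have := (B.exists_through hF (B.orb_class hF P' hv0P hv01) false).unique
      (y₁ := ⟨cj w0 P'.1, w0 * k, mul_mem hw0N hk, by rw [← hP', cj_cj]⟩) (y₂ := P')
      (show v0 ∈ cj w0 P'.1 by rw [← hv]; exact conj_mem_cj.2 hv0P) hv0P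
    exact congrArg Subtype.val this
  set w := g⁻¹ * w0 * g with hwdef
  have hwA : w ∈ subA B.sys.cod false := by
    rw [eP, mem_cj] at hw0P
    exact hw0P
  have hwV : w ∉ fourSub B.sys.cod := by
    intro hwV
    refine hY ((B.exists_through hF (B.orb_class hF Y' hw0Y hw01) true).unique ?_ hw0Y)
    rw [eY, mem_cj]
    exact B.four_le_subA true hwV
  set P2 := cj g⁻¹ P'.1 with hP2
  have hfix2 : ∀ u ∈ P2, w * u * w⁻¹ ∈ P2 := by
    intro u hu
    rw [hP2, mem_cj, inv_inv] at hu ⊢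
    have h := (conj_mem_cj (g := w0)).2 hu
    rw [hfix] at h
    rwa [hwdef, show g * (g⁻¹ * w0 * g * u * (g⁻¹ * w0 * g)⁻¹) * g⁻¹ = w0 * (g * u * g⁻¹) * w0⁻¹ by group]
  have hwH : w ∈ centralizer ({z} : Set G) ⊓ N := B.subA_le false hwA
  -- the three common involutions
  let S := {u : G // u ∈ P2 ∧ u ∈ subA B.sys.cod true ∧ u ≠ 1}
  have hS : Nat.card S = 3 := by
    rw [← B.flag_card hF (i := false) P' Y ⟨u0, hu0P, hu0Y, hu01⟩]
    refine card_conj g _ _ fun v => ?_
    rw [hP2, mem_cj, inv_inv, eY, mem_cj, show g⁻¹ * (g * v * g⁻¹) * g = v by group]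
    refine and_congr_right' (and_congr_right' (not_congr ⟨fun e => ?_, fun e => ?_⟩))
    · rw [e, mul_one, mul_inv_cancel]
    · exact conj_eq_one_iff.1 e
  have hww : w * w = 1 := B.subA_sq false w hwA
  let σ : S → S := fun u => ⟨w * u.1 * w⁻¹, hfix2 _ u.2.1, B.subA_normal true hwH u.2.2.1,
    fun e => u.2.2.2 (conj_eq_one_iff.1 e)⟩
  have hσ : Function.Involutive σ := fun u => Subtype.ext (by
    show w * (w * u.1 * w⁻¹) * w⁻¹ = u.1
    rw [show w * (w * u.1 * w⁻¹) * w⁻¹ = (w * w) * u.1 * (w * w)⁻¹ by group, hww]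
    group)
  obtain ⟨u, hu⟩ : ∃ u, σ u = u := by
    by_contra hno
    push Not at hno
    haveI := Fintype.ofFinite S
    have h2 := even_of_involutive σ hσ hno
    rw [hS] at h2
    exact absurd h2 (by decide)
  have huc : w * u.1 = u.1 * w := mul_inv_eq_iff_eq_mul.1 (congrArg Subtype.val hu)
  rcases B.subA_cross hwA u.2.2.1 huc with h | h
  · exact hwV h
  · refine hne ((B.exists_through hF (B.orb_class hF P' (x := g * u.1 * g⁻¹) ?_ ?_) false).unique ?_ ?_)
    · have h3 : u.1 ∈ ChzL34.cj g⁻¹ P'.1 := u.2.1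
      rwa [mem_cj, inv_inv] at h3
    · exact fun e => u.2.2.2 (conj_eq_one_iff.1 e)
    · rw [eP, conj_mem_cj]
      exact B.four_le_subA false h
    · have h3 : u.1 ∈ ChzL34.cj g⁻¹ P'.1 := u.2.1
      rwa [mem_cj, inv_inv] at h3

open Classical in
/-- The points on a line. -/
noncomputable def lineOf (_B : Big z c N) [Fintype (_B.Orb false)] (Y : _B.Orb true) : Finset (_B.Orb false) :=
  Finset.univ.filter fun P => Meet P.1 Y.1

theorem mem_lineOf [Fintype (B.Orb false)] {Y : B.Orb true} {P : B.Orb false} :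
    P ∈ B.lineOf Y ↔ Meet P.1 Y.1 := by
  classical
  simp [lineOf]

theorem card_lineOf (hF : IsConj z (c 224)) [Fintype (B.Orb false)] (Y : B.Orb true) :
    (B.lineOf Y).card = 5 := by
  rw [← B.card_meet hF (i := true) Y, ← Fintype.card_coe, ← Nat.card_eq_fintype_card]
  exact Nat.card_congr (Equiv.subtypeEquivRight fun P => by
    rw [mem_lineOf]; exact ⟨Meet.symm, Meet.symm⟩)

theorem join_exists (hF : IsConj z (c 224)) [Fintype (B.Orb false)] {P P' : B.Orb false} (hne : P ≠ P') :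
    ∃ Y : B.Orb true, P ∈ B.lineOf Y ∧ P' ∈ B.lineOf Y := by
  classical
  haveI := Fintype.ofFinite (B.Orb true)
  set R := (Finset.univ : Finset (B.Orb true)).filter fun Y => Meet P.1 Y.1 with hR
  have hcR : R.card = 5 := by
    rw [← B.card_meet hF (i := false) P, ← Fintype.card_coe, ← Nat.card_eq_fintype_card]
    exact Nat.card_congr (Equiv.subtypeEquivRight fun Y => by rw [hR]; simp)
  set U := R.biUnion fun Y => (B.lineOf Y).erase P with hU
  have hdis : (R : Set (B.Orb true)).PairwiseDisjoint fun Y => (B.lineOf Y).erase P := by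
    intro Y hY Y' hY' hYY
    rw [Function.onFun, Finset.disjoint_left]
    intro Q hQ hQ'
    simp only [hR, Finset.coe_filter, Finset.mem_univ, true_and, Set.mem_ofPred_eq] at hY hY'
    rw [Finset.mem_erase, mem_lineOf] at hQ hQ'
    exact hYY (B.meet_unique hF hQ.1.symm hY hQ.2 hY' hQ'.2)
  have hcU : U.card = 20 := by
    rw [hU, Finset.card_biUnion hdis, Finset.sum_congr rfl (g := fun _ => 4) fun Y hY => ?_,
      Finset.sum_const, hcR, smul_eq_mul]
    rw [Finset.card_erase_of_mem, B.card_lineOf hF]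
    rw [mem_lineOf]
    exact (Finset.mem_filter.1 hY).2
  have hsub : U ⊆ Finset.univ.erase P := fun Q hQ => by
    obtain ⟨Y, -, hQY⟩ := Finset.mem_biUnion.1 hQ
    exact Finset.mem_erase.2 ⟨(Finset.mem_erase.1 hQY).1, Finset.mem_univ _⟩
  have heq : U = Finset.univ.erase P := Finset.eq_of_subset_of_card_le hsub (by
    rw [Finset.card_erase_of_mem (Finset.mem_univ P), Finset.card_univ, ← Nat.card_eq_fintype_card,
      B.card_orb hF, hcU])
  have hP' : P' ∈ U := heq ▸ Finset.mem_erase.2 ⟨hne.symm, Finset.mem_univ _⟩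
  obtain ⟨Y, hY, hPY⟩ := Finset.mem_biUnion.1 hP'
  exact ⟨Y, B.mem_lineOf.2 (Finset.mem_filter.1 hY).2, (Finset.mem_erase.1 hPY).2⟩

theorem plane (hF : IsConj z (c 224)) [Fintype (B.Orb false)] [DecidableEq (B.Orb false)] :
    Cfsg.Agent.PlaneFour.Plane (Set.range B.lineOf) := by
  refine ⟨⟨?_, fun s hs => ?_⟩, by rw [← Nat.card_eq_fintype_card, B.card_orb hF]⟩
  · rintro b ⟨Y, rfl⟩
    exact B.card_lineOf hF Y
  · obtain ⟨P, P', hne, rfl⟩ := Finset.card_eq_two.1 hs
    obtain ⟨Y, h1, h2⟩ := B.join_exists hF hne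
    refine ⟨B.lineOf Y, ⟨⟨Y, rfl⟩, by simp [Finset.insert_subset_iff, h1, h2]⟩, ?_⟩
    rintro b ⟨⟨Y', rfl⟩, hsub⟩
    rw [B.meet_unique hF hne (B.mem_lineOf.1 (hsub (by simp))) (B.mem_lineOf.1 (hsub (by simp)))
      (B.mem_lineOf.1 h1) (B.mem_lineOf.1 h2)]

theorem conjPerm_line [Fintype (B.Orb false)] [DecidableEq (B.Orb false)] (n : N) :
    ∀ l ∈ Set.range B.lineOf, l.image (B.conjPerm false n) ∈ Set.range B.lineOf := by
  rintro _ ⟨Y, rfl⟩
  refine ⟨B.conjPerm true n Y, ?_⟩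
  ext P
  rw [mem_lineOf, Finset.mem_image]
  constructor
  · intro h
    refine ⟨B.conjPerm false n⁻¹ P, ?_, ?_⟩
    · rw [mem_lineOf]
      have h2 : Meet (ChzL34.cj ((n⁻¹ : N) : G) P.1) (ChzL34.cj ((n⁻¹ : N) : G) (ChzL34.cj (n : G) Y.1)) := h.cj _
      rw [coe_inv, cj_inv_cj] at h2
      exact h2
    · rw [← Equiv.Perm.mul_apply, ← map_mul, mul_inv_cancel, map_one]
      rfl
  · rintro ⟨Q, hQ, rfl⟩
    exact (B.mem_lineOf.1 hQ).cj _

/-- `z` moves a point. -/
theorem z_not_fix (hF : IsConj z (c 224)) (hn : ∀ n : N, (n : G) = z → B.conjPerm false n = 1) : False := by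
  classical
  set Y : B.Orb true := ⟨subA B.sys.cod true, 1, one_mem N, cj_one _⟩
  haveI := Fintype.ofFinite (B.Orb false)
  have hz := B.z_mem
  have h1 := hn ⟨z, hz⟩ rfl
  have hall : ∀ P : B.Orb false, P.1 = subA B.sys.cod false ∨ Meet P.1 Y.1 := by
    intro P
    have hP : cj z P.1 = P.1 := congrArg Subtype.val (Equiv.ext_iff.1 h1 P)
    obtain ⟨hPN, hPsq, hP16⟩ := B.orb_props P
    obtain ⟨x, hx, hx1, hxc⟩ : ∃ x ∈ P.1, x ≠ 1 ∧ z * x * z⁻¹ = x := by
      by_contra hno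
      push Not at hno
      let σ : {x : P.1 // x ≠ 1} → {x : P.1 // x ≠ 1} := fun x =>
        ⟨⟨z * x.1.1 * z⁻¹, by
          have h : z * x.1.1 * z⁻¹ ∈ ChzL34.cj z P.1 := conj_mem_cj.2 x.1.2
          rwa [hP] at h⟩, fun e => x.2 (Subtype.ext (conj_eq_one_iff.1 (congrArg Subtype.val e)))⟩
      haveI := Fintype.ofFinite P.1
      have hev := even_of_involutive σ (fun x => Subtype.ext (Subtype.ext (by
        show z * (z * x.1.1 * z⁻¹) * z⁻¹ = x.1.1
        rw [show z * (z * x.1.1 * z⁻¹) * z⁻¹ = (z * z) * x.1.1 * (z * z)⁻¹ by group,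
          Invol.mul_self_eq_one B.sys.hz]
        group))) (fun x e => hno _ x.1.2 (fun e => x.2 (Subtype.ext e))
          (congrArg (fun q : {x : P.1 // x ≠ 1} => ((q.1 : G))) e))
      rw [Nat.card_eq_fintype_card, Fintype.card_subtype_compl, Fintype.card_subtype_eq,
        ← Nat.card_eq_fintype_card, hP16] at hev
      exact absurd hev (by decide)
    have hxz : x * z = z * x := (mul_inv_eq_iff_eq_mul.1 hxc).symm
    by_cases hz' : x = z
    · left
      have hzP : z ∈ P.1 := by subst hz'; exact hx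
      have := B.through hF P (one_mem N) (by rw [one_mul, inv_one, mul_one]; exact hzP)
      rwa [cj_one] at this
    obtain ⟨p, hp, rfl⟩ := B.sys.cod.surj x hxz
    have h2 : orderOf (c p) = 2 := orderOf_eq_prime (by rw [pow_two, hPsq _ hx]) hx1
    have h := List.all_eq_true.1 t_invs_ok p (B.sys.cod.mem_invs hp h2 hz')
    rw [(B.mem p hp).1 (hPN hx)] at h
    simp only [Bool.not_true, Bool.false_or, Bool.or_eq_true, List.contains_iff_mem] at h
    rcases h with h | h
    · left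
      exact congrArg Subtype.val ((B.exists_through hF (B.orb_class hF P hx hx1) false).unique hx
        (y₂ := ⟨subA B.sys.cod false, 1, one_mem N, cj_one _⟩) ((mem_subA B.sys.cod).2 ⟨p, h, hp, rfl⟩))
    · exact Or.inr ⟨_, hx, (mem_subA B.sys.cod).2 ⟨p, h, hp, rfl⟩, hx1⟩
  have hle : (Finset.univ : Finset (B.Orb false)) ⊆
      insert ⟨subA B.sys.cod false, 1, one_mem N, cj_one _⟩ (B.lineOf Y) := by
    intro P _
    rw [Finset.mem_insert, mem_lineOf]
    exact (hall P).imp Subtype.ext id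
  have h := (Finset.card_le_card hle).trans (Finset.card_insert_le _ _)
  rw [Finset.card_univ, ← Nat.card_eq_fintype_card, B.card_orb hF, B.card_lineOf hF] at h
  omega

theorem cent_subA {i : Bool} {g : G} (hgz : g * z = z * g) (h : ∀ a ∈ subA B.sys.cod i, g * a = a * g) :
    g ∈ subA B.sys.cod i := by
  obtain ⟨p, hp, rfl⟩ := B.sys.cod.surj g hgz
  have h2 := List.all_eq_true.1 (List.all_eq_true.1 selfcent_ok (aList i) (aList_mem i)) p (List.mem_range.2 hp)
  simp only [Bool.or_eq_true, List.any_eq_true, Bool.not_eq_true'] at h2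
  rcases h2 with h2 | ⟨a, ha, hne⟩
  · exact (mem_subA B.sys.cod).2 ⟨p, List.contains_iff_mem.1 h2, hp, rfl⟩
  · have ha' := (subA_node i ha).1
    rw [(B.sys.cod.beq_mul hp ha').2 (h _ ((mem_subA B.sys.cod).2 ⟨a, ha, ha', rfl⟩))] at hne
    exact absurd hne (by simp)

theorem conjPerm_injective (hF : IsConj z (c 224)) : Function.Injective (B.conjPerm false) := by
  rw [← MonoidHom.ker_eq_bot_iff, eq_bot_iff_forall]
  intro n hn
  set K := (B.conjPerm false).ker
  set A := subA B.sys.cod false with hA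
  have hKA : ∀ a : N, a ∈ K → (a : G) ∈ A → a = 1 := by
    intro a ha haA
    by_contra h1
    obtain ⟨g, hg, hgz⟩ := B.conj_in (B.subA_class hF haA fun e => h1 (Subtype.ext e))
    refine B.z_not_fix hF fun n hn' => ?_
    have : n = ⟨g, hg⟩⁻¹ * a * ⟨g, hg⟩ := Subtype.ext (by
      rw [hn']; push_cast; rw [← hgz]; group)
    rw [this]
    have hk := (B.conjPerm false).normal_ker.conj_mem a ha ⟨g, hg⟩⁻¹
    rw [inv_inv] at hk
    exact MonoidHom.mem_ker.1 hk
  have hfix : cj (n : G) A = A :=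
    congrArg Subtype.val (Equiv.ext_iff.1 (MonoidHom.mem_ker.1 hn) ⟨A, 1, one_mem N, cj_one _⟩)
  have hcomm : ∀ a ∈ A, (n : G) * a = a * (n : G) := by
    intro a ha
    set a' : N := ⟨a, (mem_inf.1 (B.subA_le false ha)).2⟩
    have h1 : n * a' * n⁻¹ * a'⁻¹ ∈ K := by
      have := mul_mem hn ((B.conjPerm false).normal_ker.conj_mem _ (inv_mem hn) a')
      rwa [show n * (a' * n⁻¹ * a'⁻¹) = n * a' * n⁻¹ * a'⁻¹ by group] at this
    have h2 : ((n * a' * n⁻¹ * a'⁻¹ : N) : G) ∈ A := by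
      push_cast
      refine mul_mem ?_ (inv_mem ha)
      rw [← hfix]
      exact conj_mem_cj.2 ha
    have := congrArg Subtype.val (hKA _ h1 h2)
    push_cast at this
    exact mul_inv_eq_iff_eq_mul.1 (mul_inv_eq_one.1 this)
  exact hKA n hn (B.cent_subA (hcomm z (B.z_mem_subA false)) hcomm)

theorem cent_eq_one (hF : IsConj z (c 224)) {g : G} (h : ∀ n ∈ N, g * n = n * g) : g = 1 := by
  have hmem : ∀ i, g ∈ subA B.sys.cod i := fun i =>
    B.cent_subA (h z B.z_mem) fun a ha => h a (mem_inf.1 (B.subA_le i ha)).2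
  by_contra h1
  have hgV := B.subA_inter (hmem false) (hmem true)
  obtain ⟨k, hk, hkg⟩ := B.conj_in (B.four_class hgV h1)
  have hgz : z = g := by
    have := h k hk
    rw [← hkg] at this
    have e : k * z * k⁻¹ * k = k * (k * z * k⁻¹) := this
    rw [inv_mul_cancel_right] at e
    have e2 := mul_left_cancel e
    rw [← hkg]
    exact e2
  obtain rfl := hgz
  -- `z` would act trivially
  have hcen : ∀ n ∈ N, n * z = z * n := fun n hn => (h n hn).symm
  have h192 : Nat.card N ≤ Nat.card (centralizer ({z} : Set G)) :=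
    card_le_of_le fun n hn => mem_centralizer_singleton_iff.2 (hcen n hn)
  rw [B.sys.cod.card_cent, B.card_fused_eq hF] at h192
  omega

end Big

end CfsgLib.ChzL34
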