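import Cfsg.Agent.ChzL34.Node

/-! Fusion of involutions. -/

set_option autoImplicit false
set_option linter.unusedSectionVars false
set_option linter.style.haveILetI false
set_option maxRecDepth 100000

namespace CfsgLib.ChzL34

open Subgroup
open CfsgLib.Invol (orderOf_conj_eq)

variable {G : Type*} [Group G]

theorem list_three {x : Nat} {l : List Nat} (h : ([15, 31].contains x || l.contains x) = true) :
    x = 15 ∨ x = 31 ∨ x ∈ l := by
  simpa [List.contains_iff_mem, or_assoc] using h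

theorem Cod.inv_ne {z : G} {tw : Nat} {c : Nat → G} (K : Cod z tw c) {x y : Nat} (hx : x < 768)
    (hy : y < 768) (h : x ≠ y) : c x ≠ c y := fun e => h (K.inj x hx y hy e)

/-- The node of the pullback of `z`, with its invariants. -/
theorem Cod.transport {z : G} {tw : Nat} {c : Nat → G} (K : Cod z tw c) (hz : orderOf z = 2)
    {x : Nat} (hx : x < 768) (hxz : x ≠ 16) {g : G} (hg : g * z * g⁻¹ = c x) :
    ∃ y ∈ invs tw, y < 768 ∧ g⁻¹ * z * g = c y ∧ (cen1 tw x).length = (cen1 tw y).length ∧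
      roots tw x x = roots tw y 16 ∧ roots tw x 16 = roots tw y y := by
  have hcomm : (g⁻¹ * z * g) * z = z * (g⁻¹ * z * g) := by
    rw [comm_conj g, show g * (g⁻¹ * z * g) * g⁻¹ = z by group, hg]
    exact (K.mem x hx).symm
  obtain ⟨y, hy, hye⟩ := K.surj _ hcomm
  have hgy : g * c y * g⁻¹ = z := by rw [← hye]; group
  have hord : orderOf (c y) = 2 := by
    rw [← hye, show g⁻¹ * z * g = g⁻¹ * z * g⁻¹⁻¹ by group, orderOf_conj_eq, hz]
  have hyz : c y ≠ z := fun h => K.inv_ne hx (by norm_num) hxz (by rw [← hg, ← K.zeq, ← h, hgy, h])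
  refine ⟨y, K.mem_invs hy hord hyz, hy, hye, ?_, ?_, ?_⟩
  · rw [← K.card_cen1 hx, ← K.card_cen1 hy]
    refine card_conj g⁻¹ _ _ fun v => ?_
    rw [comm_conj g⁻¹ v z, comm_conj g⁻¹ v (c x), inv_inv, ← hye,
      show g⁻¹ * c x * g = z by rw [← hg]; group]
    exact and_comm
  · rw [← K.card_roots hx hx, ← K.card_roots hy (by norm_num : 16 < 768)]
    refine card_conj g⁻¹ _ _ fun v => ?_
    rw [comm_conj g⁻¹ v z, comm_conj g⁻¹ v (c x), inv_inv, ← hye, ← K.zeq,
      show g⁻¹ * c x * g = z by rw [← hg]; group]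
    refine ⟨fun ⟨a, b, d⟩ => ⟨b, a, ?_⟩, fun ⟨a, b, d⟩ => ⟨b, a, ?_⟩⟩
    · rw [show g⁻¹ * v * g * (g⁻¹ * v * g) = g⁻¹ * (v * v) * g by group, d, ← hg]; group
    · rw [show v * v = g * (g⁻¹ * v * g * (g⁻¹ * v * g)) * g⁻¹ by group, d, hg]
  · rw [← K.card_roots hx (by norm_num : 16 < 768), ← K.card_roots hy hy]
    refine card_conj g⁻¹ _ _ fun v => ?_
    rw [comm_conj g⁻¹ v z, comm_conj g⁻¹ v (c x), inv_inv, ← hye, ← K.zeq,
      show g⁻¹ * c x * g = z by rw [← hg]; group]
    refine ⟨fun ⟨a, b, d⟩ => ⟨b, a, ?_⟩, fun ⟨a, b, d⟩ => ⟨b, a, ?_⟩⟩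
    · rw [show g⁻¹ * v * g * (g⁻¹ * v * g) = g⁻¹ * (v * v) * g by group, d]
    · rw [show v * v = g * (g⁻¹ * v * g * (g⁻¹ * v * g)) * g⁻¹ by group, d]; group

theorem Cod.allowed {z : G} {tw : Nat} {c : Nat → G} (K : Cod z tw c) (hz : orderOf z = 2)
    {x : Nat} (hx : x < 768) (hxz : x ≠ 16) (h : IsConj z (c x)) :
    (tw = 1 ∧ x ∈ clB) ∨ (tw = 0 ∧ (x = 15 ∨ x = 31 ∨ x ∈ clB)) := by
  obtain ⟨g, hg⟩ := isConj_iff.1 h
  obtain ⟨y, hy, -, -, -, h1, h2⟩ := K.transport hz hx hxz hg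
  have hord : orderOf (c x) = 2 := by rw [← hg, orderOf_conj_eq, hz]
  have hxI := K.mem_invs hx hord fun e => hxz (K.eq_z hx e)
  have hm := List.all_eq_true.1 root_ok tw (by have := K.tlt; interval_cases tw <;> simp)
  have hrx := List.all_eq_true.1 hm x hxI
  have hry := List.all_eq_true.1 hm y hy
  simp only [rootB, Bool.and_eq_true, Bool.or_eq_true, Bool.not_eq_true', Nat.ble_eq, Nat.blt_eq] at hrx hry
  obtain ⟨⟨-, -⟩, hcase⟩ := hrx
  obtain ⟨⟨hy0, hy12⟩, -⟩ := hry
  rcases hcase with ((h0 | h12) | ⟨ht, hB⟩) | ⟨ht, hAB⟩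
  · exfalso
    rw [h1] at h0
    rw [h0] at hy0
    exact absurd hy0 (by simp)
  · omega
  · exact Or.inl ⟨Nat.eq_of_beq_eq_true ht, by simpa [List.contains_iff_mem] using hB⟩
  · exact Or.inr ⟨Nat.eq_of_beq_eq_true ht, list_three (by simpa only [Bool.or_eq_true] using hAB)⟩

theorem Cod.a_of_b {z : G} {tw : Nat} {c : Nat → G} (K : Cod z tw c) (hz : orderOf z = 2) (ht : tw ≤ 1)
    {x : Nat} (hxB : x ∈ clB) (h : IsConj z (c x)) : IsConj z (c 15) := by
  have htl : tw ∈ [0, 1] := by interval_cases tw <;> simp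
  have hB := List.all_eq_true.1 classB_ok tw htl
  have hA := List.all_eq_true.1 classA_ok tw htl
  obtain ⟨hx, e, -, he⟩ := K.conj_of_class hB (by norm_num) hxB
  obtain ⟨g, hg⟩ := isConj_iff.1 (h.trans (isConj_iff.2 ⟨e, he⟩).symm)
  have h224 : (224 : Nat) < 768 := by norm_num
  obtain ⟨y, hy, hy', hye, hn, -, -⟩ := K.transport hz h224 (by norm_num) hg
  have hyconj : IsConj z (c y) := isConj_iff.2 ⟨g⁻¹, by rw [inv_inv, hye]⟩
  have hy16 : y ≠ 16 := by
    simp only [invs, List.mem_filter, Bool.and_eq_true, Bool.not_eq_true'] at hy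
    intro e
    rw [e] at hy
    exact absurd hy.2.2 (by simp)
  have hcn := List.all_eq_true.1 cnum_ok tw htl
  simp only [Bool.and_eq_true] at hcn
  obtain ⟨⟨c15, c31⟩, cB⟩ := hcn
  have h32 : (cen1 tw 224).length = 32 :=
    Nat.eq_of_beq_eq_true (List.all_eq_true.1 cB 224 (by simp [clB]))
  have hyB : y ∈ clB := by
    rcases K.allowed hz hy' hy16 hyconj with ⟨-, h⟩ | ⟨-, rfl | rfl | h⟩
    · exact h
    · rw [hn, Nat.eq_of_beq_eq_true c15] at h32; omega
    · rw [hn, Nat.eq_of_beq_eq_true c31] at h32; omega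
    · exact h
  have hp := List.all_eq_true.1 pair_ok tw htl
  simp only [Bool.and_eq_true, Bool.not_eq_true'] at hp
  obtain ⟨⟨⟨⟨⟨p1, p2⟩, p3⟩, p4⟩, -⟩, p6⟩ := hp
  have h15 : (15 : Nat) < 768 := by norm_num
  have h16 : (16 : Nat) < 768 := by norm_num
  have hgz : g⁻¹ * c 224 * g = z := by rw [← hg]; group
  have h1' : (g⁻¹ * c 15 * g) * z = z * (g⁻¹ * c 15 * g) := by
    have := (comm_conj g⁻¹ (c 15) (c 224)).1 ((K.beq_mul h15 h224).1 p2)
    rwa [inv_inv, hgz] at this
  obtain ⟨w, hw, hwe⟩ := K.surj _ h1'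
  have hwy : c w * c y = c y * c w := by
    rw [← hwe, ← hye]
    have := (comm_conj g⁻¹ (c 15) z).1 (K.mem 15 h15)
    rwa [inv_inv] at this
  have hwI : isI tw w = true := by
    rw [K.isI_iff hw, ← hwe, show g⁻¹ * c 15 * g = g⁻¹ * c 15 * g⁻¹⁻¹ by group, orderOf_conj_eq]
    exact (K.isI_iff h15).1 p1
  have hcount : (cen2 tw y w).length = 16 := by
    rw [← K.card_cen2 hy' hw, ← Nat.eq_of_beq_eq_true p3, ← K.card_cen2 h224 h15]
    refine card_conj g _ _ fun v => ?_
    rw [comm_conj g v z, comm_conj g v (c y), comm_conj g v (c w), hg, ← hye, ← hwe,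
      show g * (g⁻¹ * z * g) * g⁻¹ = z by group, show g * (g⁻¹ * c 15 * g) * g⁻¹ = c 15 by group]
    exact and_left_comm
  have hne1 : w ≠ 16 := by
    rintro rfl
    rw [← K.zeq, ← hgz] at hwe
    simp at hwe
    exact absurd (K.inj _ h15 _ h224 hwe) (by norm_num)
  have hne2 : w ≠ y := by
    rintro rfl
    rw [← hye] at hwe
    simp at hwe
    exact absurd (K.eq_z h15 hwe) (by norm_num)
  have hne3 : w ≠ m tw y 16 := by
    rintro rfl
    rw [← K.mul y hy' 16 h16, ← K.zeq, ← hye] at hwe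
    conv_rhs at hwe => arg 2; rw [← hgz]
    have : c 15 = z * c 224 := by
      have e2 := congrArg (fun v => g * v * g⁻¹) hwe
      simpa [mul_assoc] using e2
    rw [← K.mem 224 h224] at this
    nth_rw 1 [K.zeq] at this
    rw [K.mul 224 h224 16 h16] at this
    rw [← K.inj _ h15 _ (K.lt 224 h224 16 h16) this, Nat.beq_refl] at p6
    exact absurd p6 (by simp)
  have hmove := List.all_eq_true.1 (List.all_eq_true.1 (List.all_eq_true.1 move_ok tw htl) y hyB) w
    (List.mem_filter.2 ⟨List.mem_range.2 hw, (K.beq_mul hw hy').2 hwy⟩)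
  simp only [Bool.or_eq_true, Bool.not_eq_true'] at hmove
  have hB' : ∀ {v}, v ∈ clB → IsConj z (c v) := fun {v} hv => by
    obtain ⟨-, f, -, hf⟩ := K.conj_of_class hB (by norm_num) hv
    exact (isConj_iff.2 ⟨g, hg⟩).trans (isConj_iff.2 ⟨f, hf⟩)
  have hconj15 : IsConj (c w) (c 15) := isConj_iff.2 ⟨g, by rw [← hwe]; group⟩
  rcases hmove with (((((h' | h') | h') | h') | h') | h') | h'
  · rw [hwI] at h'; exact absurd h' (by simp)
  · exact absurd (Nat.eq_of_beq_eq_true h') hne1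
  · exact absurd (Nat.eq_of_beq_eq_true h') hne2
  · exact absurd (Nat.eq_of_beq_eq_true h') hne3
  · rw [hcount] at h'; exact absurd h' (by simp)
  · exact (hB' (by simpa [List.contains_iff_mem] using h')).trans hconj15
  · have e31 : IsConj z (c 31) := by
      refine (hB' (by simpa [List.contains_iff_mem] using h')).trans (isConj_iff.2 ⟨g, ?_⟩)
      rw [← K.mul w hw y hy', ← hwe, ← hye, ← Nat.eq_of_beq_eq_true p4, ← K.mul 15 h15 16 h16, ← K.zeq]
      group
    obtain ⟨-, f, -, hf⟩ := K.conj_of_class hA (by norm_num) (x := 31) (by simp)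
    exact e31.trans (isConj_iff.2 ⟨f, hf⟩).symm

/-- The involution is isolated, or the centralizer is the split one and `15` is fused. -/
theorem Cod.dichotomy [Finite G] {z : G} {tw : Nat} {c : Nat → G} (K : Cod z tw c) (hz : orderOf z = 2) :
    Cfsg.IsIsolatedInvolution z ∨ (tw = 0 ∧ IsConj z (c 15)) := by
  refine or_iff_not_imp_right.2 fun hno => ⟨hz, fun g hg => ?_⟩
  by_contra hne
  obtain ⟨x, hx, hxe⟩ := K.surj (g * z * g⁻¹) hg.symm
  have hx16 : x ≠ 16 := fun e => hne (by rw [hxe, e, ← K.zeq])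
  have hc : IsConj z (c x) := isConj_iff.2 ⟨g, hxe⟩
  rcases K.allowed hz hx hx16 hc with ⟨rfl, hB⟩ | ⟨rfl, rfl | rfl | hB⟩
  · have h15 := K.a_of_b hz le_rfl hB hc
    rcases K.allowed hz (by norm_num) (by norm_num) h15 with ⟨-, h⟩ | ⟨h, -⟩
    · simp [clB] at h
    · omega
  · exact hno ⟨rfl, hc⟩
  · obtain ⟨-, f, -, hf⟩ := K.conj_of_class (List.all_eq_true.1 classA_ok 0 (by simp)) (by norm_num)
      (x := 31) (by simp)
    exact hno ⟨rfl, hc.trans (isConj_iff.2 ⟨f, hf⟩).symm⟩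
  · exact hno ⟨rfl, K.a_of_b hz (Nat.zero_le _) hB hc⟩

/-- The split centralizer with `15` fused to the central involution. -/
structure Sys (z : G) (c : Nat → G) : Prop where
  hz : orderOf z = 2
  cod : Cod z 0 c
  conjA : IsConj z (c 15)

/-- A dihedral conjugation: no second conjugate commutes, so a conjugate in the centralizer of `u`
is conjugate there. -/
theorem conj_in_cent [Finite G] {z u z' : G} (hz : orderOf z = 2) (hu : u * z = z * u)
    (hun : ∀ v, v * z = z * v → v * u = u * v → IsConj z v → v = z) (h' : IsConj z z')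
    (hu' : u * z' = z' * u) : ∃ h, h * u = u * h ∧ h * z * h⁻¹ = z' := by
  obtain ⟨g, hg⟩ := isConj_iff.1 h'
  have hz' : orderOf z' = 2 := by rw [← hg, orderOf_conj_eq, hz]
  have hr : Commute u (z * z') := (show Commute u z from hu).mul_right hu'
  rcases Nat.even_or_odd (orderOf (z * z')) with he | ho
  · exfalso
    obtain ⟨hj, hjz, -⟩ := Invol.half_props hz hz' he
    set j := (z * z') ^ (orderOf (z * z') / 2) with hjdef
    have hju : Commute u j := hr.pow_right _
    have hzj : IsConj z (z * j) := by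
      rcases Invol.mul_half_isConj hz hz' he with h | h
      exacts [h, h'.trans h]
    have hjz' : Commute z j := hjz.symm
    have := hun (z * j) ((Commute.refl z).mul_right hjz').symm.eq
      ((show Commute u z from hu).mul_right hju).symm.eq hzj
    exact Invol.ne_one hj (mul_eq_left.1 this)
  · obtain ⟨k, hk⟩ := Invol.exists_pow_conj_of_odd hz hz' ho
    exact ⟨(z * z') ^ k, (hr.pow_right k).symm.eq, hk⟩

namespace Sys

variable {z : G} {c : Nat → G} (S : Sys z c)

include S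

theorem conj31 : IsConj z (c 31) := by
  obtain ⟨-, f, -, hf⟩ := S.cod.conj_of_class (List.all_eq_true.1 classA_ok 0 (by simp)) (by norm_num)
    (x := 31) (by simp)
  exact S.conjA.trans (isConj_iff.2 ⟨f, hf⟩)

theorem mul15 : c 15 * z = c 31 ∧ z * c 15 = c 31 := by
  have h := List.all_eq_true.1 pair_ok 0 (by simp)
  simp only [Bool.and_eq_true] at h
  obtain ⟨⟨⟨-, p4⟩, p5⟩, -⟩ := h
  exact ⟨by rw [S.cod.zeq, S.cod.mul 15 (by norm_num) 16 (by norm_num), Nat.eq_of_beq_eq_true p4],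
    by rw [S.cod.zeq, S.cod.mul 16 (by norm_num) 15 (by norm_num), Nat.eq_of_beq_eq_true p5]⟩

/-- Conjugates of `z` in its centralizer. -/
theorem zclass {x : Nat} (hx : x < 768) (h : IsConj z (c x)) :
    x = 16 ∨ x = 15 ∨ x = 31 ∨ (x ∈ clB ∧ IsConj z (c 224)) := by
  by_cases h16 : x = 16
  · exact Or.inl h16
  rcases S.cod.allowed S.hz hx h16 h with ⟨h0, -⟩ | ⟨-, h1 | h1 | h1⟩
  · omega
  · exact Or.inr (Or.inl h1)
  · exact Or.inr (Or.inr (Or.inl h1))
  · obtain ⟨-, f, -, hf⟩ := S.cod.conj_of_class (List.all_eq_true.1 classB_ok 0 (by simp)) (by norm_num) h1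
    exact Or.inr (Or.inr (Or.inr ⟨h1, h.trans (isConj_iff.2 ⟨f, hf⟩).symm⟩))

theorem not_conj_z {x : Nat} (hx : x < 768) (h16 : x ≠ 16) (h15 : x ≠ 15) (h31 : x ≠ 31)
    (hB : x ∉ clB) : ¬ IsConj z (c x) := fun h => by
  rcases S.zclass hx h with h | h | h | h
  exacts [h16 h, h15 h, h31 h, hB h.1]

variable [Finite G]

/-- The conjugates of a node without a second commuting conjugate of `z`. -/
theorem unique_fusion {r : Nat} {l : List Nat} (hl : classB 0 r l = true) (hr : r < 768) (hrl : r ∈ l)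
    (hun : ∀ v, v < 768 → IsConj z (c v) → c v * c r = c r * c v → v = 16)
    {v : Nat} (hv : v < 768) (h : IsConj (c r) (c v)) : v ∈ l := by
  obtain ⟨g, hg⟩ := isConj_iff.1 h
  have hcr : c r * (g⁻¹ * z * g) = (g⁻¹ * z * g) * c r := by
    have := (comm_conj g⁻¹ (c v) z).1 (S.cod.mem v hv)
    rwa [inv_inv, show g⁻¹ * c v * g = c r by rw [← hg]; group] at this
  obtain ⟨k, hk, hkz⟩ := conj_in_cent S.hz (S.cod.mem r hr) (fun w hw hwr hwz => by
    obtain ⟨p, hp, rfl⟩ := S.cod.surj w hw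
    rw [hun p hp hwz hwr, ← S.cod.zeq]) (isConj_iff.2 ⟨g⁻¹, by rw [inv_inv]⟩) hcr
  refine S.cod.class_closed hl hr hrl (v := g * k) ?_ hv ?_
  · have : g * k * z * (g * k)⁻¹ = z := by
      rw [show g * k * z * (g * k)⁻¹ = g * (k * z * k⁻¹) * g⁻¹ by group, hkz]; group
    exact mul_inv_eq_iff_eq_mul.1 this
  · rw [show g * k * c r * (g * k)⁻¹ = g * (k * c r * k⁻¹) * g⁻¹ by group, hk,
      mul_inv_cancel_right, hg]

theorem one_fusion {v : Nat} (hv : v < 768) (h : IsConj (c 1) (c v)) : v ∈ clE := by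
  refine S.unique_fusion classE_ok (by norm_num) (by simp [clE]) (fun w hw hwz hc => ?_) hv h
  have hu := unique_ok
  rw [Bool.and_eq_true] at hu
  by_contra h16
  have hmem : w ∈ [15, 31] ++ clB := by
    rcases S.zclass hw hwz with h | h | h | h
    · exact absurd h h16
    · simp [h]
    · simp [h]
    · exact List.mem_append_right _ h.1
  have := List.all_eq_true.1 (List.all_eq_true.1 hu.1 1 (by simp [clE])) w hmem
  rw [(S.cod.beq_mul (by norm_num) hw).2 hc.symm] at this
  exact absurd this (by simp)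

theorem t_fusion (hB : ¬ IsConj z (c 224)) {v : Nat} (hv : v < 768) (h : IsConj (c 32) (c v)) :
    v ∈ clT := by
  refine S.unique_fusion classT_ok (by norm_num) (by simp [clT]) (fun w hw hwz hc => ?_) hv h
  have hu := unique_ok
  rw [Bool.and_eq_true] at hu
  by_contra h16
  have hmem : w ∈ [15, 31] := by
    rcases S.zclass hw hwz with h | h | h | h
    · exact absurd h h16
    · simp [h]
    · simp [h]
    · exact absurd h.2 hB
  have := List.all_eq_true.1 (List.all_eq_true.1 hu.2 32 (by simp [clT])) w hmem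
  rw [(S.cod.beq_mul (by norm_num) hw).2 hc.symm] at this
  exact absurd this (by simp)

theorem three (hB : ¬ IsConj z (c 224)) {x : G} (hx : x * z = z * x) (h : IsConj z x) :
    x = z ∨ x = c 15 ∨ x = c 31 := by
  obtain ⟨p, hp, rfl⟩ := S.cod.surj x hx
  rcases S.zclass hp h with rfl | rfl | rfl | h
  exacts [Or.inl S.cod.zeq.symm, Or.inr (Or.inl rfl), Or.inr (Or.inr rfl), absurd h.2 hB]

theorem pullback (hB : ¬ IsConj z (c 224)) {w : Nat} (hw : w = 15 ∨ w = 31) :
    Nat.card {v : G // v * c w = c w * v ∧ v * c 224 = c 224 * v} = 32 ∧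
      ∀ x, x * c w = c w * x → IsConj z x → x = c w ∨ x = z ∨ x = z * c w := by
  have hw' : w < 768 := by omega
  have h224 : (224 : Nat) < 768 := by norm_num
  have hconj : IsConj z (c w) := by rcases hw with rfl | rfl; exacts [S.conjA, S.conj31]
  obtain ⟨g, hg⟩ := isConj_iff.1 hconj
  obtain ⟨y, hy, hy', hye, -, -, -⟩ := S.cod.transport S.hz hw' (by omega) hg
  have hyc : IsConj z (c y) := isConj_iff.2 ⟨g⁻¹, by rw [inv_inv, hye]⟩
  have hgy : g * c y * g⁻¹ = z := by rw [← hye]; group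
  have hgw : g⁻¹ * c w * g = z := by rw [← hg]; group
  have hy15 : y = 15 ∨ y = 31 := by
    rcases S.zclass hy' hyc with h | h | h | h
    · simp [invs, h] at hy
    · exact Or.inl h
    · exact Or.inr h
    · exact absurd h.2 hB
  have hpk := List.all_eq_true.1 pair_ok 0 (by simp)
  simp only [Bool.and_eq_true] at hpk
  obtain ⟨⟨⟨⟨⟨-, pc⟩, -⟩, -⟩, -⟩, -⟩ := hpk
  have h224w : c 224 * c w = c w * c 224 := by
    have h15 := (S.cod.beq_mul (by norm_num) h224).1 pc
    rcases hw with rfl | rfl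
    · exact h15.symm
    · rw [← S.mul15.1]
      exact ((show Commute (c 224) (c 15) from h15.symm).mul_right (S.cod.mem 224 h224)).eq
  have hxz : (g⁻¹ * c 224 * g) * z = z * (g⁻¹ * c 224 * g) := by
    have := (comm_conj g⁻¹ (c 224) (c w)).1 h224w
    rwa [inv_inv, hgw] at this
  obtain ⟨x, hx, hxe⟩ := S.cod.surj _ hxz
  have hgx : g * c x * g⁻¹ = c 224 := by rw [← hxe]; group
  have hxy : c x * c y = c y * c x := by
    rw [← hxe, ← hye]
    have := (comm_conj g⁻¹ (c 224) z).1 (S.cod.mem 224 h224)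
    rwa [inv_inv] at this
  have hxI : x ∈ invs 0 := by
    refine S.cod.mem_invs hx ?_ fun e => ?_
    · rw [← hxe, show g⁻¹ * c 224 * g = g⁻¹ * c 224 * g⁻¹⁻¹ by group, orderOf_conj_eq]
      exact (S.cod.isI_iff h224).1 (by decide +kernel)
    · refine hB (hconj.trans ?_)
      rw [← hgx, e, hg]
  have hxA : ([15, 31].contains x) = false := by
    rw [← Bool.not_eq_true]
    intro h
    refine hB (IsConj.trans ?_ (isConj_iff.2 ⟨g, hgx⟩))
    simp at h
    rcases h with rfl | rfl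
    exacts [S.conjA, S.conj31]
  have hcount : (cen2 0 x y).length = 16 := by
    have h1 : (cen2 0 224 w).length = 16 := by
      have := cent_ok
      simp only [Bool.and_eq_true] at this
      rcases hw with rfl | rfl
      exacts [Nat.eq_of_beq_eq_true this.1.2, Nat.eq_of_beq_eq_true this.2]
    rw [← h1, ← S.cod.card_cen2 hx hy', ← S.cod.card_cen2 h224 hw']
    refine card_conj g _ _ fun v => ?_
    rw [comm_conj g v z, comm_conj g v (c x), comm_conj g v (c y), hg, hgx, hgy]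
    exact ⟨fun ⟨a, b, d⟩ => ⟨d, b, a⟩, fun ⟨a, b, d⟩ => ⟨d, b, a⟩⟩
  have hxB : x ∈ clB := by
    have := List.all_eq_true.1 four_ok x hxI
    rw [hxA, Bool.false_or] at this
    have := List.all_eq_true.1 this y (by rcases hy15 with rfl | rfl <;> simp)
    rw [(S.cod.beq_mul hx hy').2 hxy, hcount] at this
    simpa [List.contains_iff_mem] using this
  refine ⟨?_, fun u hu huz => ?_⟩
  · have hn := List.all_eq_true.1 cnum_ok 0 (by simp)
    simp only [Bool.and_eq_true] at hn
    rw [← Nat.eq_of_beq_eq_true (List.all_eq_true.1 hn.2 x hxB), ← S.cod.card_cen1 hx]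
    refine (card_conj g _ _ fun v => ?_).symm
    rw [comm_conj g v z, comm_conj g v (c x), hg, hgx]
  · have h1 : (g⁻¹ * u * g) * z = z * (g⁻¹ * u * g) := by
      have := (comm_conj g⁻¹ u (c w)).1 hu
      rwa [inv_inv, hgw] at this
    have hu' : u = g * (g⁻¹ * u * g) * g⁻¹ := by group
    rcases S.three hB h1 (huz.trans (isConj_iff.2 ⟨g⁻¹, by rw [inv_inv]⟩)) with h | h | h
    · left; rw [hu', h, hg]
    all_goals right
    · rcases hy15 with rfl | rfl
      · left; rw [hu', h, hgy]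
      · right
        have h31 : c 15 = c 31 * z := by
          rw [← S.mul15.1, mul_assoc, Invol.mul_self_eq_one S.hz, mul_one]
        rw [hu', h, h31, show g * (c 31 * z) * g⁻¹ = g * c 31 * g⁻¹ * (g * z * g⁻¹) by group, hgy, hg]
    · rcases hy15 with rfl | rfl
      · right
        rw [hu', h, ← S.mul15.1, show g * (c 15 * z) * g⁻¹ = g * c 15 * g⁻¹ * (g * z * g⁻¹) by group, hgy, hg]
      · left; rw [hu', h, hgy]

theorem zmul {w : Nat} (hw : w = 15 ∨ w = 31) : z * c w = c 15 ∨ z * c w = c 31 := by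
  rcases hw with rfl | rfl
  · exact Or.inr S.mul15.2
  · left
    rw [← S.mul15.2, ← mul_assoc, Invol.mul_self_eq_one S.hz, one_mul]

/-- The conjugates of `z` commuting with `c 224`, when `c 224` is not one of them. -/
theorem b_conj (hB : ¬ IsConj z (c 224)) {z' : G} (h : IsConj z z') (hc : c 224 * z' = z' * c 224) :
    ∃ k, k * c 224 = c 224 * k ∧ (k * z' * k⁻¹ = z ∨ k * z' * k⁻¹ = c 15 ∨ k * z' * k⁻¹ = c 31) := by
  obtain ⟨g, hg⟩ := isConj_iff.1 h
  have hz' : orderOf z' = 2 := by rw [← hg, orderOf_conj_eq, S.hz]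
  have h224 : (224 : Nat) < 768 := by norm_num
  have hbz : Commute (c 224) z := S.cod.mem 224 h224
  rcases Nat.even_or_odd (orderOf (z * z')) with he | ho
  · obtain ⟨hj, hjz, hjz'⟩ := Invol.half_props S.hz hz' he
    have hzj : IsConj z (z * (z * z') ^ (orderOf (z * z') / 2)) := by
      rcases Invol.mul_half_isConj S.hz hz' he with h1 | h1
      exacts [h1, h.trans h1]
    set j := (z * z') ^ (orderOf (z * z') / 2) with hjdef
    have hw : ∃ w, (w = 15 ∨ w = 31) ∧ j = c w := by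
      have hjc : Commute z j := hjz.symm
      have hj' : j = z * (z * j) := by rw [← mul_assoc, Invol.mul_self_eq_one S.hz, one_mul]
      rcases S.three hB ((Commute.refl z).mul_right hjc).symm.eq hzj with e | e | e
      · exact absurd (mul_eq_left.1 e) (Invol.ne_one hj)
      · exact ⟨31, Or.inr rfl, by rw [hj', e]; exact S.mul15.2⟩
      · refine ⟨15, Or.inl rfl, ?_⟩
        rw [hj', e, ← S.mul15.2, ← mul_assoc, Invol.mul_self_eq_one S.hz, one_mul]
    obtain ⟨w, hw, hjw⟩ := hw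
    have hzw : z' * c w = c w * z' := hjw ▸ (hjz'.symm).eq
    refine ⟨1, by simp, ?_⟩
    rcases (S.pullback hB hw).2 z' hzw h with e | e | e
    · rcases hw with rfl | rfl <;> simp [e]
    · simp [e]
    · rcases S.zmul hw with e' | e' <;> simp [e, e']
  · obtain ⟨k, hk⟩ := Invol.exists_pow_conj_of_odd S.hz hz' ho
    have hr : Commute (c 224) ((z * z') ^ k) := (hbz.mul_right hc).pow_right k
    refine ⟨((z * z') ^ k)⁻¹, hr.inv_right.symm.eq, Or.inl ?_⟩
    conv_lhs => arg 1; arg 2; rw [← hk]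
    group

theorem b_not_c (hB : ¬ IsConj z (c 224)) : ¬ IsConj (c 224) (c 33) := fun h => by
  obtain ⟨g, hg⟩ := isConj_iff.1 h
  have h224 : (224 : Nat) < 768 := by norm_num
  have h33 : (33 : Nat) < 768 := by norm_num
  have hc : c 224 * (g⁻¹ * z * g) = (g⁻¹ * z * g) * c 224 := by
    have := (comm_conj g⁻¹ (c 33) z).1 (S.cod.mem 33 h33)
    rwa [inv_inv, show g⁻¹ * c 33 * g = c 224 by rw [← hg]; group] at this
  obtain ⟨k, hk, hkw⟩ := S.b_conj hB (isConj_iff.2 ⟨g⁻¹, by rw [inv_inv]⟩) hc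
  have hn := cent_ok
  simp only [Bool.and_eq_true] at hn
  obtain ⟨⟨⟨c32, c16⟩, -⟩, -⟩ := hn
  have key : ∀ w : G, k * (g⁻¹ * z * g) * k⁻¹ = w →
      Nat.card {v : G // v * w = w * v ∧ v * c 224 = c 224 * v} = 16 := by
    intro w hw
    rw [← Nat.eq_of_beq_eq_true c16, ← S.cod.card_cen1 h33]
    refine card_conj (g * k⁻¹) _ _ fun v => ?_
    rw [comm_conj (g * k⁻¹) v w, comm_conj (g * k⁻¹) v (c 224)]
    have e1 : g * k⁻¹ * w * (g * k⁻¹)⁻¹ = z := by rw [← hw]; group
    have e2 : g * k⁻¹ * c 224 * (g * k⁻¹)⁻¹ = c 33 := by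
      rw [show g * k⁻¹ * c 224 * (g * k⁻¹)⁻¹ = g * (k⁻¹ * (c 224 * k)) * g⁻¹ by group, ← hk,
        inv_mul_cancel_left, hg]
    rw [e1, e2]
  rcases hkw with e | e | e
  · have := key z e
    rw [S.cod.card_cen1 h224, Nat.eq_of_beq_eq_true c32] at this
    omega
  · have := key _ e
    rw [(S.pullback hB (Or.inl rfl)).1] at this
    omega
  · have := key _ e
    rw [(S.pullback hB (Or.inr rfl)).1] at this
    omega

end Sys

end CfsgLib.ChzL34
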