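import Mathlib

/-! Lists of coordinates. -/

set_option autoImplicit false

namespace CfsgLib.ChzL34

/-- The class of `224`. -/
def clB : List Nat := [224, 227, 236, 239, 240, 243, 252, 255, 512, 517, 522, 527, 528, 533, 538, 543, 736, 742, 745, 751, 752, 758, 761, 767]

/-- The class of `33`. -/
def clC : List Nat := [33, 34, 45, 46, 49, 50, 61, 62, 65, 71, 72, 78, 81, 87, 88, 94, 161, 164, 171, 174, 177, 180, 187, 190, 196, 199, 200, 203, 212, 215, 216, 219, 450, 455, 456, 461, 466, 471, 472, 477, 674, 676, 683, 685, 690, 692, 699, 701]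

/-- The class of `32`. -/
def clT : List Nat := [32, 44, 48, 60, 64, 70, 80, 86, 160, 170, 176, 186, 192, 195, 208, 211, 448, 453, 464, 469, 672, 681, 688, 697]

/-- The class of `1`. -/
def clE : List Nat := [1, 2, 4, 8, 17, 18, 20, 24]

/-- The first elementary abelian subgroup of order 16. -/
def nA1 : List Nat := [0, 15, 16, 31, 224, 239, 240, 255, 512, 527, 528, 543, 736, 751, 752, 767]

/-- The second elementary abelian subgroup of order 16. -/
def nA2 : List Nat := [0, 15, 16, 31, 227, 236, 243, 252, 517, 522, 533, 538, 742, 745, 758, 761]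

/-- A Sylow 2-subgroup of the symmetric group. -/
def gD8 : List Nat := [0, 1, 6, 7, 16, 17, 22, 23]

/-- The odd permutations. -/
def gOdd : List Nat := [1, 2, 5, 6, 9, 10, 13, 14, 17, 18, 21, 22]

end CfsgLib.ChzL34
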