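import Cfsg.Agent.ChzL34.SubChecks

/-! Kernel checks for the case in which only three commuting conjugates exist. -/

set_option autoImplicit false
set_option maxRecDepth 100000

namespace CfsgLib.ChzL34

theorem a1_cosets : (nA1.all fun a => [0, 16, 15, 31].any fun v => [0, 224, 512, 736].any fun x =>
    Nat.beq a (m 0 v x)) = true := by
  decide +kernel

theorem a1_facts : (Nat.beq (m 0 224 512) 736 && Nat.beq (m 0 512 224) 736 && nA1.contains 224 &&
    nA1.contains 512 && nA1.contains 736 && Nat.beq (m 0 15 15) 0 && Nat.beq (m 0 31 31) 0 &&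
    Nat.beq (m 0 15 31) 16 && Nat.beq (m 0 31 15) 16 &&
    [16, 15, 31].all fun u => clB.all fun v => Nat.beq (m 0 (m 0 u v) (m 0 u v)) 0 &&
      !(Nat.beq (m 0 u v) 16)) = true := by
  decide +kernel

theorem a1_abelian : (nA1.all fun a => nA1.all fun b => Nat.beq (m 0 a b) (m 0 b a)) = true := by
  decide +kernel

theorem four_closed : ([0, 16, 15, 31].all fun a => [0, 16, 15, 31].all fun b =>
    [0, 16, 15, 31].contains (m 0 a b)) = true := by
  decide +kernel

theorem eight_closed : ([224, 512, 736].all fun x => ([0, 16, 15, 31] ++ [m 0 0 x, m 0 16 x, m 0 15 x, m 0 31 x]).all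
    fun a => ([0, 16, 15, 31] ++ [m 0 0 x, m 0 16 x, m 0 15 x, m 0 31 x]).all fun b =>
      ([0, 16, 15, 31] ++ [m 0 0 x, m 0 16 x, m 0 15 x, m 0 31 x]).contains (m 0 a b)) = true := by
  decide +kernel

theorem b_cen_count : Nat.beq ((List.range 768).filter fun h =>
    inH1 h && Nat.beq (m 0 h 224) (m 0 224 h)).length 16 = true := by
  decide +kernel

theorem c_cen_count : Nat.beq ((List.range 768).filter fun h =>
    inH1 h && Nat.beq (m 0 h 33) (m 0 33 h)).length 4 = true := by
  decide +kernel

end CfsgLib.ChzL34
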