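import Cfsg.Agent.ChzL34.Big
import Cfsg.Agent.ChzL34.WChecks

/-! The centralizers of a further involution. -/

set_option autoImplicit false
set_option linter.unusedSectionVars false
set_option linter.style.haveILetI false
set_option maxRecDepth 100000

namespace CfsgLib.ChzL34

open Subgroup
open CfsgLib.Invol (orderOf_conj_eq)

variable {G : Type*} [Group G] [Finite G]

/-- The four group as a subgroup. -/
noncomputable def fourSub {z : G} {c : Nat → G} (K : Cod z 0 c) : Subgroup G :=
  nodeSub K (fun n => [0, 16, 15, 31].contains n) (by simp) (by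
    intro p _ q _ hp hq
    exact List.all_eq_true.1 (List.all_eq_true.1 four_closed p (List.contains_iff_mem.1 hp)) q
      (List.contains_iff_mem.1 hq))

theorem mem_fourSub {z : G} {c : Nat → G} (K : Cod z 0 c) {x : G} :
    x ∈ fourSub K ↔ x = 1 ∨ x = z ∨ x = c 15 ∨ x = c 31 := by
  constructor
  · rintro ⟨n, -, hn, rfl⟩
    simp only [List.contains_iff_mem, List.mem_cons, List.not_mem_nil, or_false] at hn
    rcases hn with rfl | rfl | rfl | rfl
    · exact Or.inl K.one
    · exact Or.inr (Or.inl K.zeq.symm)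
    · exact Or.inr (Or.inr (Or.inl rfl))
    · exact Or.inr (Or.inr (Or.inr rfl))
  · rintro (rfl | rfl | rfl | rfl)
    · exact one_mem _
    · exact ⟨16, by norm_num, by simp, K.zeq.symm⟩
    · exact ⟨15, by norm_num, by simp, rfl⟩
    · exact ⟨31, by norm_num, by simp, rfl⟩

theorem card_fourSub {z : G} {c : Nat → G} (K : Cod z 0 c) : Nat.card (fourSub K) = 4 := by
  rw [fourSub, card_nodeSub]
  decide +kernel

namespace Big

variable {z : G} {c : Nat → G} {N : Subgroup G} (B : Big z c N)

include B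

theorem four_le : fourSub B.sys.cod ≤ N := by
  intro x hx
  rcases (mem_fourSub B.sys.cod).1 hx with rfl | rfl | rfl | rfl
  · exact one_mem _
  · exact B.z_mem
  · exact B.class_mem B.sys.conjA
  · exact B.class_mem B.sys.conj31

theorem four_sq : ∀ w ∈ fourSub B.sys.cod, w * w = 1 := by
  intro w hw
  rcases (mem_fourSub B.sys.cod).1 hw with rfl | rfl | rfl | rfl
  · exact one_mul 1
  · exact Invol.mul_self_eq_one B.sys.hz
  · obtain ⟨g, hg⟩ := isConj_iff.1 B.sys.conjA
    exact Invol.mul_self_eq_one (by rw [← hg, orderOf_conj_eq, B.sys.hz])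
  · obtain ⟨g, hg⟩ := isConj_iff.1 B.sys.conj31
    exact Invol.mul_self_eq_one (by rw [← hg, orderOf_conj_eq, B.sys.hz])

theorem four_class {w : G} (hw : w ∈ fourSub B.sys.cod) (hw1 : w ≠ 1) : IsConj z w := by
  rcases (mem_fourSub B.sys.cod).1 hw with rfl | rfl | rfl | rfl
  · exact absurd rfl hw1
  · exact IsConj.refl _
  · exact B.sys.conjA
  · exact B.sys.conj31

theorem not_conj33 : ¬ IsConj z (c 33) := B.sys.no_z (by norm_num) (Or.inr (Or.inr rfl))

/-- The centralizer in `N` of a conjugate of `z` commuting with a node of one of two classes. -/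
theorem card_pair {r : Nat} (hr : r = 33 ∨ (r = 224 ∧ ¬ IsConj z (c 224))) {w : G} (hw : IsConj z w)
    (hwr : w * c r = c r * w) :
    Nat.card {v : G // v ∈ N ∧ v * w = w * v ∧ v * c r = c r * v} =
      ((List.range 768).filter fun h => inH1 h && Nat.beq (m 0 h r) (m 0 r h)).length := by
  have hr768 : r < 768 := by omega
  have hrI : isI 0 r = true := by rcases hr with rfl | ⟨rfl, -⟩ <;> decide +kernel
  obtain ⟨g, hgN, hg⟩ := B.conj_in hw
  have hgw : g⁻¹ * w * g = z := by rw [← hg]; group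
  have hxz : (g⁻¹ * c r * g) * z = z * (g⁻¹ * c r * g) := by
    have := (comm_conj g⁻¹ (c r) w).1 hwr.symm
    rwa [inv_inv, hgw] at this
  obtain ⟨x, hx, hxe⟩ := B.sys.cod.surj _ hxz
  have hconj : IsConj (c r) (c x) := isConj_iff.2 ⟨g⁻¹, by rw [inv_inv, hxe]⟩
  have hnz : ¬ IsConj z (c r) := by
    rcases hr with rfl | ⟨rfl, hB⟩
    exacts [B.not_conj33, hB]
  have hx16 : x ≠ 16 := fun e => hnz (hconj.trans (by rw [e, ← B.sys.cod.zeq])).symm
  have hxI := B.sys.invs_cases hx hrI hr768 hconj hx16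
  obtain ⟨pe, ps⟩ := B.conj_psi hr768 hx hconj
  have hcl := List.all_eq_true.1 psi_class_ok x hxI
  obtain ⟨f, hf, hfe⟩ : ∃ f, f * z = z * f ∧ f * c r * f⁻¹ = c x := by
    rcases hr with rfl | ⟨rfl, hB⟩
    · rw [← pe, ← ps, show psiE 33 = true by decide +kernel, show psiS 33 = true by decide +kernel] at hcl
      exact (B.sys.cod.conj_of_class classC_ok (by norm_num) (List.contains_iff_mem.1 hcl)).2
    · rw [← pe, ← ps, show psiE 224 = false by decide +kernel, show psiS 224 = false by decide +kernel] at hcl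
      rcases list_three hcl with e | e | e
      · exact absurd (B.sys.conjA.trans (e ▸ hconj).symm) hB
      · exact absurd (B.sys.conj31.trans (e ▸ hconj).symm) hB
      · exact (B.sys.cod.conj_of_class (List.all_eq_true.1 classB_ok 0 (by simp)) (by norm_num) e).2
  rw [← B.sys.cod.card_filter (fun v => v ∈ N ∧ v * c r = c r * v) _ fun j hj => by
    rw [Bool.and_eq_true, B.sys.cod.beq_mul hj hr768, B.mem j hj]]
  refine (card_conj (g * f) _ _ fun v => ?_).symm
  have e1 : g * f * z * (g * f)⁻¹ = w := by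
    rw [show g * f * z * (g * f)⁻¹ = g * (f * z * f⁻¹) * g⁻¹ by group, hf, mul_inv_cancel_right, hg]
  have e2 : g * f * c r * (g * f)⁻¹ = c r := by
    rw [show g * f * c r * (g * f)⁻¹ = g * (f * c r * f⁻¹) * g⁻¹ by group, hfe, ← hxe]; group
  rw [comm_conj (g * f) v z, comm_conj (g * f) v (c r), e1, e2]
  refine ⟨fun ⟨a, b, d⟩ => ⟨B.normal.conj_mem _ b _, a, d⟩, fun ⟨a, b, d⟩ => ⟨b, ?_, d⟩⟩
  have h2 := B.normal.conj_mem _ a (g * f)⁻¹
  rwa [inv_inv, show (g * f)⁻¹ * (g * f * v * (g * f)⁻¹) * (g * f) = v by group] at h2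

end Big

end CfsgLib.ChzL34
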