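import Cfsg.Agent.ChzL34.Tables
import Cfsg.Agent.ChzL34.Lists

/-! Kernel checks on the multiplication of nodes. -/

set_option autoImplicit false
set_option maxRecDepth 100000

namespace CfsgLib.ChzL34

/-- The nodes commuting with two given ones. -/
noncomputable def cen2 (tw x y : Nat) : List Nat :=
  (List.range 768).filter fun j => Nat.beq (m tw j x) (m tw x j) && Nat.beq (m tw j y) (m tw y j)

/-- The nodes commuting with a given one. -/
noncomputable def cen1 (tw x : Nat) : List Nat :=
  (List.range 768).filter fun j => Nat.beq (m tw j x) (m tw x j)

/-- The number of square roots of `y` commuting with `x`. -/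
noncomputable def roots (tw x y : Nat) : Nat :=
  ((List.range 768).filter fun j => Nat.beq (m tw j x) (m tw x j) && Nat.beq (m tw j j) y).length

/-- Is the node an involution? -/
noncomputable def isI (tw x : Nat) : Bool := !(Nat.beq x 0) && Nat.beq (m tw x x) 0

/-- The involutions other than the centre. -/
noncomputable def invs (tw : Nat) : List Nat :=
  (List.range 768).filter fun x => isI tw x && !(Nat.beq x 16)

/-- Conjugates of `r` in the list, and conversely. -/
noncomputable def classB (tw r : Nat) (l : List Nat) : Bool :=
  ((List.range 768).all fun h => l.any fun x => Nat.beq (m tw h r) (m tw x h)) &&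
    l.all fun x => Nat.blt x 768 && (List.range 768).any fun h => Nat.beq (m tw h r) (m tw x h)

/-- What a conjugate of the central involution must satisfy. -/
noncomputable def rootB (tw x : Nat) : Bool :=
  !(Nat.beq (roots tw x 16) 0) && Nat.ble (roots tw x x) 12 &&
    (Nat.beq (roots tw x x) 0 || Nat.blt 12 (roots tw x 16) ||
      (Nat.beq tw 1 && clB.contains x) || (Nat.beq tw 0 && ([15, 31].contains x || clB.contains x)))

theorem root_ok : ([0, 1, 2, 3].all fun tw => (invs tw).all fun x => rootB tw x) = true := by
  decide +kernel

theorem a_root : Nat.blt 12 (roots 1 15 16) = true := by decide +kernel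

theorem classA_ok : ([0, 1].all fun tw => classB tw 15 [15, 31]) = true := by decide +kernel
theorem classB_ok : ([0, 1].all fun tw => classB tw 224 clB) = true := by decide +kernel
theorem classC_ok : classB 0 33 clC = true := by decide +kernel
theorem classT_ok : classB 0 32 clT = true := by decide +kernel
theorem classE_ok : classB 0 1 clE = true := by decide +kernel

theorem invs_ok : ((invs 0).all fun x => [15, 31].contains x || clB.contains x || clC.contains x ||
    clT.contains x || clE.contains x) = true := by
  decide +kernel

theorem cnum_ok : ([0, 1].all fun tw => Nat.beq (cen1 tw 15).length 384 &&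
    Nat.beq (cen1 tw 31).length 384 && clB.all fun x => Nat.beq (cen1 tw x).length 32) = true := by
  decide +kernel

/-- In the centralizer of a conjugate `y` of `224`, candidates for the image of `15`. -/
theorem move_ok : ([0, 1].all fun tw => clB.all fun y =>
    (cen1 tw y).all fun w => !(isI tw w) || Nat.beq w 16 || Nat.beq w y || Nat.beq w (m tw y 16) ||
      !(Nat.beq (cen2 tw y w).length 16) || clB.contains w || clB.contains (m tw w y)) = true := by
  decide +kernel

theorem pair_ok : ([0, 1].all fun tw => isI tw 15 && Nat.beq (m tw 15 224) (m tw 224 15) &&
    Nat.beq (cen2 tw 224 15).length 16 && Nat.beq (m tw 15 16) 31 && Nat.beq (m tw 16 15) 31 &&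
    !(Nat.beq (m tw 224 16) 15)) = true := by
  decide +kernel

/-- No candidate for a conjugate of the central involution commutes with the nodes of these
classes. -/
theorem unique_ok : ((clE.all fun u => ([15, 31] ++ clB).all fun v => !(Nat.beq (m 0 u v) (m 0 v u))) &&
    (clT.all fun u => [15, 31].all fun v => !(Nat.beq (m 0 u v) (m 0 v u)))) = true := by
  decide +kernel

theorem four_ok : ((invs 0).all fun x => ([15, 31].contains x) || [15, 31].all fun w =>
    !(Nat.beq (m 0 x w) (m 0 w x)) || !(Nat.beq (cen2 0 x w).length 16) || clB.contains x) = true := by
  decide +kernel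

theorem cent_ok : (Nat.beq (cen1 0 224).length 32 && Nat.beq (cen1 0 33).length 16 &&
    Nat.beq (cen2 0 224 15).length 16 && Nat.beq (cen2 0 224 31).length 16) = true := by
  decide +kernel

end CfsgLib.ChzL34
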