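import Cfsg.Agent.ChzL34.Coord
import Cfsg.Agent.ChzL34.NodeChecks

/-! Translating between group elements and nodes. -/

set_option autoImplicit false
set_option linter.unusedSectionVars false
set_option linter.style.haveILetI false
set_option maxRecDepth 100000

namespace CfsgLib.ChzL34

open Subgroup

variable {G : Type*} [Group G]

namespace Cod

variable {z : G} {tw : Nat} {c : Nat → G} (K : Cod z tw c)

include K

theorem beq_mul {p q : Nat} (hp : p < 768) (hq : q < 768) :
    Nat.beq (m tw p q) (m tw q p) = true ↔ c p * c q = c q * c p := by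
  rw [K.mul p hp q hq, K.mul q hq p hp]
  exact ⟨fun h => by rw [Nat.eq_of_beq_eq_true h],
    fun h => by rw [K.inj _ (K.lt p hp q hq) _ (K.lt q hq p hp) h]; exact Nat.beq_refl _⟩

theorem comm_z {v : G} (h : v * z = z * v) : ∃ p < 768, v = c p := K.surj v h

theorem eq_one {p : Nat} (hp : p < 768) (h : c p = 1) : p = 0 :=
  K.inj p hp 0 (by norm_num) (h.trans K.one.symm)

theorem eq_z {p : Nat} (hp : p < 768) (h : c p = z) : p = 16 :=
  K.inj p hp 16 (by norm_num) (h.trans K.zeq)

theorem isI_iff {p : Nat} (hp : p < 768) : isI tw p = true ↔ orderOf (c p) = 2 := by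
  simp only [isI, Bool.and_eq_true, Bool.not_eq_true']
  constructor
  · rintro ⟨h0, h2⟩
    refine orderOf_eq_prime (by rw [pow_two, K.mul p hp p hp, Nat.eq_of_beq_eq_true h2, K.one]) ?_
    intro h
    rw [K.eq_one hp h] at h0
    exact absurd h0 (by simp)
  · intro h
    refine ⟨?_, ?_⟩
    · rw [← Bool.not_eq_true]
      intro h0
      rw [Nat.eq_of_beq_eq_true h0, K.one] at h
      simp at h
    · have hh : c (m tw p p) = 1 := by
        rw [← K.mul p hp p hp, ← pow_two, ← h, pow_orderOf_eq_one]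
      rw [K.eq_one (K.lt p hp p hp) hh]
      rfl

theorem mem_invs {p : Nat} (hp : p < 768) (h : orderOf (c p) = 2) (hz : c p ≠ z) : p ∈ invs tw := by
  simp only [invs, List.mem_filter, List.mem_range, Bool.and_eq_true, Bool.not_eq_true']
  refine ⟨hp, (K.isI_iff hp).2 h, ?_⟩
  rw [← Bool.not_eq_true]
  exact fun h16 => hz (by rw [Nat.eq_of_beq_eq_true h16, ← K.zeq])

theorem card_filter (P : G → Prop) (q : Nat → Bool) (hq : ∀ j, j < 768 → (q j = true ↔ P (c j))) :
    Nat.card {v : G // v * z = z * v ∧ P v} = ((List.range 768).filter q).length := by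
  classical
  have e : {j : Fin 768 // q j.val = true} ≃ {v : G // v * z = z * v ∧ P v} :=
    Equiv.ofBijective (fun j => ⟨c j.1.1, K.mem _ j.1.2, (hq _ j.1.2).1 j.2⟩)
      ⟨fun i j h => Subtype.ext (Fin.ext (K.inj _ i.1.2 _ j.1.2 (Subtype.mk.inj h :))),
        fun ⟨v, hv, hP⟩ => by
          obtain ⟨p, hp, rfl⟩ := K.surj v hv
          exact ⟨⟨⟨p, hp⟩, (hq p hp).2 hP⟩, rfl⟩⟩
  rw [← Nat.card_congr e, Nat.card_eq_fintype_card, Fintype.card_subtype]
  rw [← List.toFinset_card_of_nodup (List.nodup_range.filter _)]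
  refine Finset.card_bij (fun j _ => j.val) ?_ ?_ ?_
  · intro j hj
    simpa using (Finset.mem_filter.1 hj).2
  · exact fun i _ j _ h => Fin.ext h
  · intro b hb
    simp only [List.mem_toFinset, List.mem_filter, List.mem_range] at hb
    exact ⟨⟨b, hb.1⟩, by simpa using hb.2, rfl⟩

theorem card_cen1 {x : Nat} (hx : x < 768) :
    Nat.card {v : G // v * z = z * v ∧ v * c x = c x * v} = (cen1 tw x).length :=
  K.card_filter _ _ fun _ hj => K.beq_mul hj hx

theorem card_cen2 {x y : Nat} (hx : x < 768) (hy : y < 768) :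
    Nat.card {v : G // v * z = z * v ∧ (v * c x = c x * v ∧ v * c y = c y * v)} =
      (cen2 tw x y).length :=
  K.card_filter _ _ fun j hj => by rw [Bool.and_eq_true, K.beq_mul hj hx, K.beq_mul hj hy]

theorem card_roots {x y : Nat} (hx : x < 768) (hy : y < 768) :
    Nat.card {v : G // v * z = z * v ∧ (v * c x = c x * v ∧ v * v = c y)} = roots tw x y :=
  K.card_filter _ _ fun j hj => by
    rw [Bool.and_eq_true, K.beq_mul hj hx, K.mul j hj j hj]
    exact and_congr_right fun _ => ⟨fun h => by rw [Nat.eq_of_beq_eq_true h],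
      fun h => by rw [K.inj _ (K.lt j hj j hj) _ hy h]; exact Nat.beq_refl _⟩

/-- Members of a class list are conjugate to its representative. -/
theorem conj_of_class {r : Nat} {l : List Nat} (hl : classB tw r l = true) (hr : r < 768) {x : Nat}
    (hx : x ∈ l) : x < 768 ∧ ∃ h, h * z = z * h ∧ h * c r * h⁻¹ = c x := by
  simp only [classB, Bool.and_eq_true] at hl
  have h1 := List.all_eq_true.1 hl.2 x hx
  simp only [Bool.and_eq_true, Nat.blt_eq, List.any_eq_true, List.mem_range] at h1
  obtain ⟨hx', h, hh, heq⟩ := h1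
  refine ⟨hx', c h, K.mem h hh, ?_⟩
  rw [mul_inv_eq_iff_eq_mul, K.mul h hh r hr, K.mul x hx' h hh, Nat.eq_of_beq_eq_true heq]

/-- A class list is closed under conjugation in the centralizer. -/
theorem class_closed {r : Nat} {l : List Nat} (hl : classB tw r l = true) (hr : r < 768) {x : Nat}
    (hx : x ∈ l) {v : G} (hv : v * z = z * v) {y : Nat} (hy : y < 768) (he : v * c x * v⁻¹ = c y) :
    y ∈ l := by
  obtain ⟨-, h, hh, hxe⟩ := K.conj_of_class hl hr hx
  obtain ⟨p, hp, hpe⟩ := K.surj (v * h) (show Commute (v * h) z from (show Commute v z from hv).mul_left hh)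
  simp only [classB, Bool.and_eq_true] at hl
  obtain ⟨x', hx', hx'e⟩ := List.any_eq_true.1 (List.all_eq_true.1 hl.1 p (List.mem_range.2 hp))
  have hx'' : x' < 768 := by
    have h1 := List.all_eq_true.1 hl.2 x' hx'
    simp only [Bool.and_eq_true, Nat.blt_eq] at h1
    exact h1.1
  have e1 : c p * c r = c y * c p := by
    rw [← he, ← hxe, ← hpe]
    group
  have e2 : c p * c r = c x' * c p := by
    rw [K.mul p hp r hr, K.mul x' hx'' p hp, Nat.eq_of_beq_eq_true hx'e]
  rw [K.inj y hy x' hx'' (mul_right_cancel (e1.symm.trans e2))]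
  exact hx'

end Cod

/-- Transporting a cardinality by conjugation. -/
theorem card_conj (g : G) (P Q : G → Prop) (h : ∀ v, P v ↔ Q (g * v * g⁻¹)) :
    Nat.card {v : G // P v} = Nat.card {v : G // Q v} :=
  Nat.card_congr (Equiv.subtypeEquiv (MulAut.conj g).toEquiv h)

theorem comm_conj (g v a : G) :
    v * a = a * v ↔ g * v * g⁻¹ * (g * a * g⁻¹) = g * a * g⁻¹ * (g * v * g⁻¹) := by
  rw [show g * v * g⁻¹ * (g * a * g⁻¹) = g * (v * a) * g⁻¹ by group,
    show g * a * g⁻¹ * (g * v * g⁻¹) = g * (a * v) * g⁻¹ by group]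
  simp

end CfsgLib.ChzL34
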