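import Cfsg.Agent.ChzL34.NodeChecks

/-! Kernel checks on subgroups of the split centralizer. -/

set_option autoImplicit false
set_option maxRecDepth 100000

namespace CfsgLib.ChzL34

/-- The parity of the coordinates in the extraspecial group. -/
noncomputable def par (x : Nat) : Bool :=
  Bool.xor (Bool.xor (x.testBit 0) (x.testBit 1)) (Bool.xor (x.testBit 2) (x.testBit 3))

/-- The sign of a node of the symmetric group. -/
noncomputable def sg (g : Nat) : Bool := gOdd.contains g

/-- The first character. -/
noncomputable def psiE (n : Nat) : Bool := par (Nat.land n 31)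

/-- The second character. -/
noncomputable def psiS (n : Nat) : Bool := sg (Nat.shiftRight n 5)

/-- The Sylow 2-subgroup. -/
noncomputable def inS (n : Nat) : Bool := gD8.contains (Nat.shiftRight n 5)

/-- The kernel of both characters. -/
noncomputable def inH1 (n : Nat) : Bool := !(psiE n) && !(psiS n)

/-- The conjugates of the central involution when `224` is fused. -/
def zNodes : List Nat := [16, 15, 31] ++ clB

/-- Powers of a node. -/
noncomputable def pwN (x : Nat) : Nat → Nat
  | 0 => 0
  | k + 1 => m 0 (pwN x k) x

/-- The pairs whose product has `16` among its powers. -/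
noncomputable def zPairs : List (Nat × Nat) :=
  (zNodes.flatMap fun u => clC.map fun v => (u, v)).filter fun q =>
    (List.range 24).any fun k => Nat.beq (pwN (m 0 q.1 q.2) k) 16

theorem pieces_ok : ((List.range 32).all fun x => (par (Nat.xor x 16) == par x) &&
    ((List.range 32).all fun y => par (em x y) == Bool.xor (par x) (par y)) &&
    (List.range 24).all fun g => par (act g x) == par x) = true := by
  decide +kernel

theorem gmul_ok : ((List.range 24).all fun g => (List.range 24).all fun h =>
    (sg (gmul g h) == Bool.xor (sg g) (sg h)) && Nat.beq (coc 0 g h) 0 &&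
      (!(gD8.contains g && gD8.contains h) || gD8.contains (gmul g h))) = true := by
  decide +kernel

theorem count_ok : (Nat.beq ((List.range 768).filter inS).length 256 &&
    Nat.beq ((List.range 768).filter fun n => inS n && !(psiE n)).length 128 &&
    Nat.beq ((List.range 768).filter fun n => inS n && !(psiS n)).length 128 &&
    Nat.beq ((List.range 768).filter inH1).length 192 &&
    Nat.beq ((List.range 768).filter fun n => inH1 n && inS n).length 64) = true := by
  decide +kernel

theorem reps_ok : (psiE 1 && !(psiS 1) && !(psiE 32) && psiS 32 && psiE 33 && psiS 33 &&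
    inH1 16 && inH1 15 && inH1 31 && inH1 224 && inS 1 && inS 32 && inS 33 && inS 16) = true := by
  decide +kernel

theorem psi_class_ok : ((invs 0).all fun x =>
    cond (psiE x) (cond (psiS x) (clC.contains x) (clE.contains x))
      (cond (psiS x) (clT.contains x) ([15, 31].contains x || clB.contains x))) = true := by
  decide +kernel

theorem s_center_ok : (([15, 31] ++ clB).all fun x => !(inS x) ||
    (List.range 768).any fun j => inS j && !(Nat.beq (m 0 x j) (m 0 j x))) = true := by
  decide +kernel

/-- The two elementary abelian subgroups of order 16 are normal in the kernel. -/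
theorem sub_ok : ([nA1, nA2].all fun A => Nat.beq A.length 16 && A.contains 16 && A.contains 15 &&
    A.all fun a => Nat.blt a 768 && inH1 a && inS a && Nat.beq (m 0 a a) 0 &&
      (A.all fun b => A.contains (m 0 a b)) &&
      ((List.range 768).all fun h => !(inH1 h) || A.any fun b => Nat.beq (m 0 h a) (m 0 b h)) &&
      ([0, 16, 15, 31].contains a ||
        (clB.contains a && (List.range 768).all fun h =>
          !(inH1 h && Nat.beq (m 0 h a) (m 0 a h)) || A.contains h))) = true := by
  decide +kernel

theorem meet_ok : ((List.range 768).all fun a => (nA1.contains a && nA2.contains a) ==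
    [0, 16, 15, 31].contains a) = true := by
  decide +kernel

theorem t_invs_ok : ((invs 0).all fun x => !(inH1 x) || nA1.contains x || nA2.contains x) = true := by
  decide +kernel

theorem cross_ok : (nA1.all fun a => nA2.all fun b => [0, 16, 15, 31].contains a ||
    [0, 16, 15, 31].contains b || !(Nat.beq (m 0 a b) (m 0 b a))) = true := by
  decide +kernel

theorem selfcent_ok : ([nA1, nA2].all fun A => (List.range 768).all fun h =>
    A.contains h || A.any fun a => !(Nat.beq (m 0 h a) (m 0 a h))) = true := by
  decide +kernel

theorem four_cent_ok : ((List.range 768).all fun h =>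
    (inH1 h && Nat.beq (m 0 h 33) (m 0 33 h)) == [0, 16, 15, 31].contains h) = true := by
  decide +kernel

theorem b_cent_ok : ((List.range 768).all fun h =>
    (inH1 h && Nat.beq (m 0 h 224) (m 0 224 h)) == nA1.contains h) = true := by
  decide +kernel

theorem zpairs_ok : (Nat.beq zPairs.length 384 &&
    zNodes.all fun u => clC.all fun v => Nat.beq (pwN (m 0 u v) 24) 0) = true := by
  decide +kernel

theorem times_ok : (([15, 31].all fun w => clB.contains (m 0 w 224) && clC.contains (m 0 w 33)) &&
    clB.contains (m 0 16 224) && clC.contains (m 0 16 33)) = true := by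
  decide +kernel

end CfsgLib.ChzL34

namespace CfsgLib.ChzL34

/-- Involutions generating the centralizer. -/
def gens : List Nat := [1, 2, 4, 8, 16, 32, 64, 192]

theorem descent_ok : (([1, 2, 4, 8].all fun x => clE.contains x) &&
    ([32, 64, 192].all fun x => clT.contains x) &&
    (List.range 768).all fun n => Nat.beq n 0 || gens.any fun y =>
      Nat.blt (m 0 y n) n && Nat.beq (m 0 y (m 0 y n)) n &&
        (psiE n == Bool.xor (psiE y) (psiE (m 0 y n))) &&
        (psiS n == Bool.xor (psiS y) (psiS (m 0 y n)))) = true := by
  decide +kernel

theorem gens_ok : (Nat.beq (m 0 1 17) 16 && [1, 2, 4, 8].all (fun x => psiE x && !(psiS x)) &&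
    [32, 64, 192].all (fun x => !(psiE x) && psiS x) && clE.contains 17 &&
    clE.all (fun x => psiE x) && clT.all (fun x => psiS x)) = true := by
  decide +kernel

end CfsgLib.ChzL34
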