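import Cfsg.Agent.ChzL34.Data

/-! Kernel checks on the coordinate tables. -/

set_option autoImplicit false
set_option maxRecDepth 100000

namespace CfsgLib.ChzL34

/-- The letters of an element of the extraspecial group (`4` is the centre). -/
noncomputable def bitsW (x : Nat) : List Nat :=
  cond (x.testBit 0) [0] [] ++ cond (x.testBit 1) [1] [] ++ cond (x.testBit 2) [2] [] ++
    cond (x.testBit 3) [3] [] ++ cond (x.testBit 4) [4] []

/-- The node of a generator of the symmetric group. -/
def gnode (l : Bool) : Nat := cond l 6 9

/-- The permutations of the two generators. -/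
def gperm (l : Bool) (i : Nat) : Nat :=
  cond l (([1, 0, 2, 3] : List Nat).getD i i) (([1, 2, 3, 0] : List Nat).getD i i)

/-- One edge. -/
noncomputable def stp (g : Nat) (l : Bool) : Nat := gmul g (gnode l)

/-- The end of a path. -/
noncomputable def pend : List Bool → Nat → Nat
  | [], g => g
  | l :: w, g => pend w (stp g l)

/-- The edges of a path, modulo two. -/
noncomputable def pmask : List Bool → Nat → Nat
  | [], _ => 0
  | l :: w, g => Nat.xor (2 ^ (2 * g + cond l 1 0)) (pmask w (stp g l))

/-- The value of a mask. -/
noncomputable def val (u : Nat → Bool) (M : Nat) : Bool :=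
  (List.range 48).foldl (fun b e => Bool.xor b (M.testBit e && u e)) false

/-- The relators. -/
def relw (k : Nat) : List Bool :=
  ([[false, false, false, false], [true, true],
    [false, true, false, true, false, true]] : List (List Bool)).getD k []

/-- The central value of a relator. -/
def rhs (i j : Bool) (k : Nat) : Bool := ([i, j] : List Bool).getD k false

/-- The mask of an equation. -/
noncomputable def qmask (q : Nat × Nat) : Nat := cond (Nat.beq q.2 3) (2 ^ q.1) (pmask (relw q.2) q.1)

/-- The validity of an equation. -/
noncomputable def qok (q : Nat × Nat) : Bool :=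
  cond (Nat.beq q.2 3)
    (Nat.blt q.1 48 && Nat.blt (stp (q.1 / 2) (q.1 % 2 == 1)) 24 &&
      (wtab.getD (stp (q.1 / 2) (q.1 % 2 == 1)) [] == wtab.getD (q.1 / 2) [] ++ [q.1 % 2 == 1]))
    (Nat.blt q.2 3 && Nat.blt q.1 24 && Nat.beq (pend (relw q.2) q.1) q.1)

/-- The number of a twist. -/
def twn (i j : Bool) : Nat := cond i 2 0 + cond j 1 0

/-- Multiplication of nodes. -/
noncomputable def m (tw a b : Nat) : Nat :=
  Nat.add
    (Nat.xor (em (Nat.land a 31) (act (Nat.shiftRight a 5) (Nat.land b 31)))
      (Nat.mul 16 (coc tw (Nat.shiftRight a 5) (Nat.shiftRight b 5))))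
    (Nat.mul 32 (gmul (Nat.shiftRight a 5) (Nat.shiftRight b 5)))

theorem cert_ok : ((List.range 48).all fun e => (cert.getD e []).all qok &&
    Nat.beq ((cert.getD e []).foldl (fun M q => Nat.xor M (qmask q)) 0) (2 ^ e)) = true := by
  decide +kernel

theorem ubit_ok : ([false, true].all fun i => [false, true].all fun j => (List.range 48).all fun e =>
    ubit (twn i j) e == (cert.getD e []).foldl (fun b q => Bool.xor b (rhs i j q.2)) false) = true := by
  decide +kernel

theorem coc_ok : ((List.range 4).all fun tw => (List.range 24).all fun g => (List.range 24).all fun h =>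
    Nat.beq (coc tw g h) (cond (val (ubit tw) (pmask (wtab.getD h []) g)) 1 0) &&
      Nat.beq (gmul g h) (pend (wtab.getD h []) g) && Nat.blt (gmul g h) 24) = true := by
  decide +kernel

theorem word_ok : ((List.range 24).all fun g => Nat.beq (pend (wtab.getD g []) 0) g &&
    (List.range 5).all fun i => Nat.beq ((wtab.getD g []).foldr gperm i) (prm g i) &&
      Nat.blt (prm g i) 5) = true := by
  decide +kernel

theorem em_ok : ((List.range 32).all fun x => (List.range 32).all fun y =>
    Nat.beq ((bitsW y).foldl (fun a l => em a (2 ^ l)) x) (em x y) && Nat.blt (em x y) 32) = true := by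
  decide +kernel

theorem act_ok : ((List.range 24).all fun g => (List.range 32).all fun x =>
    Nat.beq ((bitsW x).foldl (fun a l => em a (2 ^ prm g l)) 0) (act g x) && Nat.blt (act g x) 32) = true := by
  decide +kernel

end CfsgLib.ChzL34
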