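import Cfsg.Agent.ChzL34.Fusion
import Cfsg.Agent.ChzL34.SubChecks
import Cfsg.Agent.Invol.ThompsonTransfer

/-! A normal subgroup of index four. -/

set_option autoImplicit false
set_option linter.unusedSectionVars false
set_option linter.style.haveILetI false
set_option maxRecDepth 100000

namespace CfsgLib.ChzL34

open Subgroup
open CfsgLib.Invol (orderOf_conj_eq)

variable {G : Type*} [Group G] [Finite G] {z : G} {c : Nat → G}

theorem psi_mul {p q : Nat} (hp : p < 768) (hq : q < 768) :
    psiE (m 0 p q) = Bool.xor (psiE p) (psiE q) ∧ psiS (m 0 p q) = Bool.xor (psiS p) (psiS q) ∧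
      (inS p = true → inS q = true → inS (m 0 p q) = true) := by
  have hp1 : p % 32 < 32 := Nat.mod_lt _ (by norm_num)
  have hq1 : q % 32 < 32 := Nat.mod_lt _ (by norm_num)
  have hp2 : p / 32 < 24 := by omega
  have hq2 : q / 32 < 24 := by omega
  have l31 : ∀ n, Nat.land n 31 = n % 32 := fun n => Nat.and_two_pow_sub_one_eq_mod n 5
  have s5 : ∀ n, Nat.shiftRight n 5 = n / 32 := fun n => Nat.shiftRight_eq_div_pow n 5
  have hpc := pieces_ok
  rw [List.all_eq_true] at hpc
  have hg := List.all_eq_true.1 (List.all_eq_true.1 gmul_ok _ (List.mem_range.2 hp2)) _ (List.mem_range.2 hq2)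
  simp only [Bool.and_eq_true, beq_iff_eq, Bool.or_eq_true, Bool.not_eq_true'] at hg
  obtain ⟨⟨hsg, hcoc⟩, hD⟩ := hg
  have hx := hpc _ (List.mem_range.2 hp1)
  simp only [Bool.and_eq_true, beq_iff_eq, List.all_eq_true, List.mem_range] at hx
  have hy := hpc _ (List.mem_range.2 hq1)
  simp only [Bool.and_eq_true, beq_iff_eq, List.all_eq_true, List.mem_range] at hy
  have hact : act (p / 32) (q % 32) < 32 := by
    have h := List.all_eq_true.1 (List.all_eq_true.1 act_ok _ (List.mem_range.2 hp2)) _ (List.mem_range.2 hq1)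
    rw [Bool.and_eq_true, Nat.blt_eq] at h
    exact h.2
  have hem : em (p % 32) (act (p / 32) (q % 32)) < 32 := by
    have h := List.all_eq_true.1 (List.all_eq_true.1 em_ok _ (List.mem_range.2 hp1)) _ (List.mem_range.2 hact)
    rw [Bool.and_eq_true, Nat.blt_eq] at h
    exact h.2
  have hm : m 0 p q = em (p % 32) (act (p / 32) (q % 32)) + 32 * gmul (p / 32) (q / 32) := by
    unfold m
    rw [l31, l31, s5, s5, Nat.eq_of_beq_eq_true hcoc]
    show (_ ^^^ 16 * 0) + _ = _
    rw [mul_zero, Nat.xor_zero]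
    rfl
  have e1 : Nat.land (m 0 p q) 31 = em (p % 32) (act (p / 32) (q % 32)) := by
    rw [l31, hm]; omega
  have e2 : Nat.shiftRight (m 0 p q) 5 = gmul (p / 32) (q / 32) := by
    rw [s5, hm]; omega
  refine ⟨?_, ?_, ?_⟩
  · simp only [psiE, e1, l31]
    rw [hx.1.2 _ hact, hy.2 _ hp2]
  · simp only [psiS, e2, s5]
    exact hsg
  · simp only [inS, e2, s5]
    intro a b
    rcases hD with h | h
    · rw [a, b] at h; exact absurd h (by simp)
    · exact h

theorem Sys.conj_gen (S : Sys z c) {M : Subgroup G} (hM : M.Normal) {r : Nat} {l : List Nat}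
    (hl : classB 0 r l = true) (hr : r < 768) {x : Nat} (hx : x ∈ l) : c x ∈ M ↔ c r ∈ M := by
  obtain ⟨-, h, -, hh⟩ := S.cod.conj_of_class hl hr hx
  rw [← hh]
  refine ⟨fun h' => ?_, fun h' => hM.conj_mem _ h' h⟩
  have := hM.conj_mem _ h' h⁻¹
  rwa [inv_inv, show h⁻¹ * (h * c r * h⁻¹) * h = c r by group] at this

/-- A normal subgroup of index two is given by a character on nodes. -/
theorem Sys.mem_index_two (S : Sys z c) {M : Subgroup G} (hM : M.Normal) (h2 : M.index = 2) {n : Nat}
    (hn : n < 768) {a b : Bool} (ha : (c 1 ∉ M) ↔ a = true) (hb : (c 32 ∉ M) ↔ b = true) :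
    (c n ∉ M) ↔ Bool.xor (a && psiE n) (b && psiS n) = true := by
  have hd := descent_ok
  simp only [Bool.and_eq_true] at hd
  obtain ⟨⟨hE, hT⟩, hdes⟩ := hd
  have hg := gens_ok
  simp only [Bool.and_eq_true] at hg
  obtain ⟨⟨⟨⟨⟨h16, hgE⟩, hgT⟩, h17⟩, -⟩, -⟩ := hg
  have hmul : ∀ {x y : G}, x * y ∈ M ↔ (x ∈ M ↔ y ∈ M) := fun {x y} => mul_mem_iff_of_index_two h2
  have hz16 : c 16 ∈ M := by
    rw [← Nat.eq_of_beq_eq_true h16, ← S.cod.mul 1 (by norm_num) 17 (by norm_num), hmul,
      S.conj_gen hM classE_ok (by norm_num) (List.contains_iff_mem.1 h17)]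
  have hgen : ∀ y ∈ gens, (c y ∉ M) ↔ Bool.xor (a && psiE y) (b && psiS y) = true := by
    intro y hy
    simp only [gens, List.mem_cons, List.not_mem_nil, or_false] at hy
    by_cases h : y ∈ [1, 2, 4, 8]
    · have := List.all_eq_true.1 hgE y h
      simp only [Bool.and_eq_true, Bool.not_eq_true'] at this
      rw [S.conj_gen hM classE_ok (by norm_num) (List.contains_iff_mem.1 (List.all_eq_true.1 hE y h)), ha,
        this.1, this.2]
      simp
    · by_cases h' : y ∈ [32, 64, 192]
      · have := List.all_eq_true.1 hgT y h'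
        simp only [Bool.and_eq_true, Bool.not_eq_true'] at this
        rw [S.conj_gen hM classT_ok (by norm_num) (List.contains_iff_mem.1 (List.all_eq_true.1 hT y h')), hb,
          this.1, this.2]
        simp
      · simp only [List.mem_cons, List.not_mem_nil, or_false] at h h'
        obtain rfl : y = 16 := by omega
        simp [hz16, show psiE 16 = false by decide +kernel, show psiS 16 = false by decide +kernel]
  induction n using Nat.strong_induction_on with
  | _ n ih =>
  rcases Nat.eq_zero_or_pos n with rfl | hpos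
  · simp [S.cod.one, one_mem, show psiE 0 = false by decide +kernel, show psiS 0 = false by decide +kernel]
  have := List.all_eq_true.1 hdes n (List.mem_range.2 hn)
  rw [Bool.or_eq_true] at this
  rcases this with h | h
  · exact absurd (Nat.eq_of_beq_eq_true h) (by omega)
  obtain ⟨y, hy, hy'⟩ := List.any_eq_true.1 h
  simp only [Bool.and_eq_true, Nat.blt_eq, beq_iff_eq] at hy'
  obtain ⟨⟨⟨h1, h2'⟩, h3⟩, h4⟩ := hy'
  have hy768 : y < 768 := by
    simp only [gens, List.mem_cons, List.not_mem_nil, or_false] at hy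
    omega
  have e : c n = c y * c (m 0 y n) := by
    rw [S.cod.mul y hy768 _ (S.cod.lt y hy768 n hn), Nat.eq_of_beq_eq_true h2']
  have iy := hgen y hy
  have ip := ih _ h1 (h1.trans hn)
  rw [e, hmul]
  rw [h3, h4]
  by_cases m1 : c y ∈ M <;> by_cases m2 : c (m 0 y n) ∈ M <;> simp only [m1, m2, not_true_eq_false,
    not_false_eq_true, false_iff, true_iff, Bool.not_eq_true] at iy ip ⊢ <;> revert iy ip <;>
    cases a <;> cases b <;> cases psiE y <;> cases psiS y <;> cases psiE (m 0 y n) <;>
    cases psiS (m 0 y n) <;> decide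

/-- The subgroup given by a predicate on nodes. -/
def nodeSub {tw : Nat} (K : Cod z tw c) (P : Nat → Bool) (h0 : P 0 = true)
    (hm : ∀ p, p < 768 → ∀ q, q < 768 → P p = true → P q = true → P (m tw p q) = true) : Subgroup G where
  carrier := {x | ∃ n, n < 768 ∧ P n = true ∧ c n = x}
  one_mem' := ⟨0, by norm_num, h0, K.one⟩
  mul_mem' := by
    rintro _ _ ⟨p, hp, hP, rfl⟩ ⟨q, hq, hQ, rfl⟩
    exact ⟨_, K.lt p hp q hq, hm p hp q hq hP hQ, (K.mul p hp q hq).symm⟩
  inv_mem' := by
    rintro x ⟨p, hp, hP, rfl⟩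
    have key : ∀ k : ℕ, ∃ n, n < 768 ∧ P n = true ∧ c n = c p ^ k := by
      intro k
      induction k with
      | zero => exact ⟨0, by norm_num, h0, by rw [K.one, pow_zero]⟩
      | succ k ih =>
        obtain ⟨n, hn, hPn, hne⟩ := ih
        exact ⟨_, K.lt n hn p hp, hm n hn p hp hPn hP, by rw [← K.mul n hn p hp, hne, pow_succ]⟩
    obtain ⟨n, hn, hPn, hne⟩ := key (orderOf (c p) - 1)
    refine ⟨n, hn, hPn, ?_⟩
    rw [hne, eq_inv_iff_mul_eq_one, ← pow_succ,
      Nat.sub_add_cancel (orderOf_pos (c p)), pow_orderOf_eq_one]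

theorem card_nodeSub {tw : Nat} (K : Cod z tw c) (P : Nat → Bool) (h0 : P 0 = true)
    (hm : ∀ p, p < 768 → ∀ q, q < 768 → P p = true → P q = true → P (m tw p q) = true) :
    Nat.card (nodeSub K P h0 hm) = ((List.range 768).filter P).length := by
  rw [← K.card_filter (fun v => ∃ n, n < 768 ∧ P n = true ∧ c n = v) P fun j hj =>
    ⟨fun h => ⟨j, hj, h, rfl⟩, fun ⟨n, hn, h, e⟩ => K.inj n hn j hj e ▸ h⟩]
  refine Nat.card_congr (Equiv.subtypeEquivRight fun v => ?_)
  exact ⟨fun h => ⟨by obtain ⟨n, hn, -, rfl⟩ := h; exact K.mem n hn, h⟩, fun h => h.2⟩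

theorem mem_nodeSub {tw : Nat} (K : Cod z tw c) {P : Nat → Bool} {h0 : P 0 = true}
    {hm : ∀ p, p < 768 → ∀ q, q < 768 → P p = true → P q = true → P (m tw p q) = true}
    {p : Nat} (hp : p < 768) : c p ∈ nodeSub K P h0 hm ↔ P p = true :=
  ⟨fun ⟨n, hn, h, e⟩ => K.inj n hn p hp e ▸ h, fun h => ⟨p, hp, h, rfl⟩⟩

namespace Sys

variable (S : Sys z c)

include S

/-- The coordinate Sylow 2-subgroup. -/
noncomputable def syl : Subgroup G :=
  nodeSub S.cod inS (by decide +kernel) fun _ hp _ hq => (psi_mul hp hq).2.2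

theorem card_syl : Nat.card S.syl = 256 := by
  have h := count_ok
  simp only [Bool.and_eq_true] at h
  rw [syl, card_nodeSub, Nat.eq_of_beq_eq_true h.1.1.1.1]

theorem odd_index : Odd S.syl.index := by
  haveI : Fact (Nat.Prime 2) := ⟨Nat.prime_two⟩
  rw [← Nat.not_even_iff_odd, even_iff_two_dvd]
  intro h
  have hd : 2 ^ (8 + 1) ∣ Nat.card G := by
    rw [← S.syl.card_mul_index, S.card_syl]
    exact Nat.mul_dvd_mul (dvd_refl 256) h
  have hN := Sylow.prime_pow_dvd_card_normalizer hd (H := S.syl) (by rw [S.card_syl]; norm_num)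
  have hle : normalizer (S.syl : Set G) ≤ centralizer ({z} : Set G) := by
    intro q hq
    have hzmem : z ∈ S.syl := ⟨16, by norm_num, by decide +kernel, S.cod.zeq.symm⟩
    obtain ⟨x, hx, hxS, hxe⟩ := (mem_normalizer_iff.1 hq z).1 hzmem
    rw [mem_centralizer_singleton_iff]
    have hxc : IsConj z (c x) := isConj_iff.2 ⟨q, hxe.symm⟩
    suffices h16 : x = 16 by
      rw [h16, ← S.cod.zeq] at hxe
      exact mul_inv_eq_iff_eq_mul.1 hxe.symm
    by_contra hne
    have hmem : x ∈ [15, 31] ++ clB := by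
      rcases S.zclass hx hxc with h | h | h | h
      · exact absurd h hne
      · simp [h]
      · simp [h]
      · exact List.mem_append_right _ h.1
    have := List.all_eq_true.1 s_center_ok x hmem
    rw [hxS, Bool.not_true, Bool.false_or] at this
    obtain ⟨j, hj, hjc⟩ := List.any_eq_true.1 this
    simp only [Bool.and_eq_true, Bool.not_eq_true'] at hjc
    have hjm : c j ∈ S.syl := ⟨j, List.mem_range.1 hj, hjc.1, rfl⟩
    -- pull back to `z`
    obtain ⟨i, hi, -, hie⟩ := (mem_normalizer_iff.1 (inv_mem hq) (c j)).1 hjm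
    have hzi := (comm_conj q (c i) z).1 (S.cod.mem i hi)
    rw [← hxe, hie, inv_inv, show q * (q⁻¹ * c j * q) * q⁻¹ = c j by group] at hzi
    rw [(S.cod.beq_mul hx (List.mem_range.1 hj)).2 hzi.symm] at hjc
    exact absurd hjc.2 (by simp)
  have hH : Nat.card (centralizer ({z} : Set G)) = 768 := by
    rw [show Nat.card (centralizer ({z} : Set G)) = Nat.card {v : G // v * z = z * v ∧ True} from
      Nat.card_congr (Equiv.subtypeEquivRight fun v => by rw [mem_centralizer_singleton_iff, and_true]),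
      S.cod.card_filter (fun _ => True) (fun _ => true) fun _ _ => by simp]
    rw [List.filter_eq_self.2 (by simp), List.length_range]
  have := hN.trans (card_dvd_of_le hle)
  rw [hH] at this
  norm_num at this

/-- The transfer step. -/
theorem exists_half {u : Nat} (hu : u < 768) (hu2 : orderOf (c u) = 2) (hus : inS u = true)
    (ψ : Nat → Bool) (h0 : ψ 0 = false)
    (hψ : ∀ p, p < 768 → ∀ q, q < 768 → ψ (m 0 p q) = Bool.xor (ψ p) (ψ q))
    (hc : ((List.range 768).filter fun n => inS n && !(ψ n)).length = 128)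
    (hno : ∀ v, v < 768 → inS v = true → ψ v = false → ¬ IsConj (c u) (c v)) :
    ∃ M : Subgroup G, M.Normal ∧ M.index = 2 ∧ c u ∉ M := by
  let Q := nodeSub S.cod (fun n => inS n && !(ψ n)) (by rw [h0]; decide +kernel) (by
    intro p hp q hq a b
    simp only [Bool.and_eq_true, Bool.not_eq_true'] at a b ⊢
    exact ⟨(psi_mul hp hq).2.2 a.1 b.1, by rw [hψ p hp q hq, a.2, b.2]; rfl⟩)
  have hQle : Q ≤ S.syl := by
    rintro x ⟨n, hn, hP, rfl⟩
    simp only [Bool.and_eq_true] at hP
    exact ⟨n, hn, hP.1, rfl⟩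
  have hrel : Q.relIndex S.syl = 2 := by
    have h := (Q.subgroupOf S.syl).index_mul_card
    rw [Nat.card_congr (subgroupOfEquivOfLe hQle).toEquiv, card_nodeSub, hc, S.card_syl] at h
    show (Q.subgroupOf S.syl).index = 2
    omega
  have hsq : c u * c u = 1 := Invol.mul_self_eq_one hu2
  refine (ThompsonTransfer.thompson_transfer S.syl Q S.odd_index hrel hsq).resolve_right ?_
  rintro ⟨g, n, hn, hP, hne⟩
  simp only [Bool.and_eq_true, Bool.not_eq_true'] at hP
  exact hno n hn hP.1 hP.2 (isConj_iff.2 ⟨g, hne.symm⟩)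

theorem ord_node {n : Nat} (hn : n < 768) (h : isI 0 n = true) : orderOf (c n) = 2 :=
  (S.cod.isI_iff hn).1 h

theorem invs_cases {v : Nat} (hv : v < 768) {u : Nat} (hu : isI 0 u = true) (hu' : u < 768)
    (hconj : IsConj (c u) (c v)) (hvz : v ≠ 16) : v ∈ invs 0 := by
  obtain ⟨g, hg⟩ := isConj_iff.1 hconj
  exact S.cod.mem_invs hv (by rw [← hg, orderOf_conj_eq, S.ord_node hu' hu]) fun e => hvz (S.cod.eq_z hv e)

theorem no_z {u : Nat} (hu : u < 768) (h : u = 1 ∨ u = 32 ∨ u = 33) : ¬ IsConj z (c u) := by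
  refine S.not_conj_z hu ?_ ?_ ?_ ?_
  all_goals rcases h with rfl | rfl | rfl <;> simp [clB]

/-- There is a normal subgroup of index four whose trace on the centralizer is the joint kernel. -/
theorem exists_index_four :
    ∃ N : Subgroup G, N.Normal ∧ N.index = 4 ∧
      ∀ n, n < 768 → (c n ∈ N ↔ inH1 n = true) := by
  have hrep := reps_ok
  simp only [Bool.and_eq_true, Bool.not_eq_true'] at hrep
  have hcount := count_ok
  simp only [Bool.and_eq_true] at hcount
  obtain ⟨⟨⟨⟨-, cE⟩, cS⟩, -⟩, -⟩ := hcount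
  obtain ⟨⟨⟨⟨⟨⟨⟨⟨⟨⟨⟨⟨⟨r1e, r1s⟩, r2e⟩, r2s⟩, r3e⟩, r3s⟩, -⟩, -⟩, -⟩, -⟩, i1⟩, i32⟩, i33⟩, -⟩ := hrep
  have hψE : ∀ p, p < 768 → ∀ q, q < 768 → psiE (m 0 p q) = Bool.xor (psiE p) (psiE q) :=
    fun p hp q hq => (psi_mul hp hq).1
  have hψS : ∀ p, p < 768 → ∀ q, q < 768 → psiS (m 0 p q) = Bool.xor (psiS p) (psiS q) :=
    fun p hp q hq => (psi_mul hp hq).2.1
  have hI1 : isI 0 1 = true := by decide +kernel
  have hI32 : isI 0 32 = true := by decide +kernel
  have hI33 : isI 0 33 = true := by decide +kernel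
  -- where a node with given characters may be
  have hcls : ∀ v, v ∈ invs 0 → (psiE v = false → psiS v = false → v = 15 ∨ v = 31 ∨ v ∈ clB) ∧
      (psiE v = false → psiS v = true → v ∈ clT) ∧ (psiE v = true → psiS v = false → v ∈ clE) := by
    intro v hv
    have h := List.all_eq_true.1 psi_class_ok v hv
    refine ⟨fun a b => list_three (by simpa [a, b] using h), fun a b => ?_, fun a b => ?_⟩ <;>
      simpa [a, b, List.contains_iff_mem] using h
  have hfusA : ∀ {v u}, (u = 1 ∨ u = 32 ∨ u = 33) → (v = 15 ∨ v = 31) → ¬ IsConj (c u) (c v) := by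
    intro v u hu hv h
    refine S.no_z (by omega) hu (IsConj.trans ?_ h.symm)
    rcases hv with rfl | rfl
    exacts [S.conjA, S.conj31]
  have h224B : ∀ {v}, v ∈ clB → IsConj (c 224) (c v) := fun {v} hv => by
    obtain ⟨-, f, -, hf⟩ := S.cod.conj_of_class (List.all_eq_true.1 classB_ok 0 (by simp)) (by norm_num) hv
    exact isConj_iff.2 ⟨f, hf⟩
  have hTT : ∀ {v}, v ∈ clT → IsConj (c 32) (c v) := fun {v} hv => by
    obtain ⟨-, f, -, hf⟩ := S.cod.conj_of_class classT_ok (by norm_num) hv
    exact isConj_iff.2 ⟨f, hf⟩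
  have hEE : ∀ {v}, v ∈ clE → IsConj (c 1) (c v) := fun {v} hv => by
    obtain ⟨-, f, -, hf⟩ := S.cod.conj_of_class classE_ok (by norm_num) hv
    exact isConj_iff.2 ⟨f, hf⟩
  have hz16 : ∀ {u}, (u = 1 ∨ u = 32 ∨ u = 33) → ¬ IsConj (c u) (c 16) := by
    intro u hu h
    rw [← S.cod.zeq] at h
    exact S.no_z (by omega) hu h.symm
  obtain ⟨M1, hM1, hI1', hu1⟩ := S.exists_half (u := 1) (by norm_num) (S.ord_node (by norm_num) hI1) i1 psiE
    (by decide +kernel) hψE (Nat.eq_of_beq_eq_true cE) (by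
      intro v hv _ hve h
      by_cases h16 : v = 16
      · exact hz16 (Or.inl rfl) (h16 ▸ h)
      have hvI := S.invs_cases hv hI1 (by norm_num) h h16
      have hvE := S.one_fusion hv h
      have := List.all_eq_true.1 psi_class_ok v hvI
      have hE' := gens_ok
      simp only [Bool.and_eq_true] at hE'
      rw [List.all_eq_true.1 hE'.1.2 v hvE] at hve
      exact absurd hve (by simp))
  obtain ⟨M2, hM2, hI2', hu2⟩ := S.exists_half (u := 32) (by norm_num) (S.ord_node (by norm_num) hI32) i32 psiS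
    (by decide +kernel) hψS (Nat.eq_of_beq_eq_true cS) (by
      intro v hv _ hvs h
      by_cases h16 : v = 16
      · exact hz16 (Or.inr (Or.inl rfl)) (h16 ▸ h)
      have hvI := S.invs_cases hv hI32 (by norm_num) h h16
      cases hve : psiE v with
      | true =>
        have := S.one_fusion (by norm_num : 32 < 768) ((hEE ((hcls v hvI).2.2 hve hvs)).trans h.symm)
        simp [clE] at this
      | false =>
        rcases (hcls v hvI).1 hve hvs with e | e | e
        · exact hfusA (Or.inr (Or.inl rfl)) (Or.inl e) h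
        · exact hfusA (Or.inr (Or.inl rfl)) (Or.inr e) h
        · by_cases hB : IsConj z (c 224)
          · exact S.no_z (by norm_num) (Or.inr (Or.inl rfl)) ((hB.trans (h224B e)).trans h.symm)
          · have h1 := S.t_fusion hB hv h
            have hT' := gens_ok
            simp only [Bool.and_eq_true] at hT'
            rw [List.all_eq_true.1 hT'.2 v h1] at hvs
            exact absurd hvs (by simp))
  obtain ⟨M3, hM3, hI3', hu3⟩ := S.exists_half (u := 33) (by norm_num) (S.ord_node (by norm_num) hI33) i33 psiS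
    (by decide +kernel) hψS (Nat.eq_of_beq_eq_true cS) (by
      intro v hv _ hvs h
      by_cases h16 : v = 16
      · exact hz16 (Or.inr (Or.inr rfl)) (h16 ▸ h)
      have hvI := S.invs_cases hv hI33 (by norm_num) h h16
      cases hve : psiE v with
      | true =>
        have := S.one_fusion (by norm_num : 33 < 768) ((hEE ((hcls v hvI).2.2 hve hvs)).trans h.symm)
        simp [clE] at this
      | false =>
        rcases (hcls v hvI).1 hve hvs with e | e | e
        · exact hfusA (Or.inr (Or.inr rfl)) (Or.inl e) h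
        · exact hfusA (Or.inr (Or.inr rfl)) (Or.inr e) h
        · by_cases hB : IsConj z (c 224)
          · exact S.no_z (by norm_num) (Or.inr (Or.inr rfl)) ((hB.trans (h224B e)).trans h.symm)
          · exact S.b_not_c hB ((h224B e).trans h.symm))
  -- the characters of the three subgroups
  have key : ∀ M : Subgroup G, M.Normal → M.index = 2 → ∃ a b : Bool,
      ∀ n, n < 768 → ((c n ∉ M) ↔ Bool.xor (a && psiE n) (b && psiS n) = true) := by
    intro M hM h2
    classical
    exact ⟨decide (c 1 ∉ M), decide (c 32 ∉ M), fun n hn =>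
      S.mem_index_two hM h2 hn (decide_eq_true_iff).symm (decide_eq_true_iff).symm⟩
  obtain ⟨a1, b1, k1⟩ := key M1 hM1 hI1'
  obtain ⟨a2, b2, k2⟩ := key M2 hM2 hI2'
  obtain ⟨a3, b3, k3⟩ := key M3 hM3 hI3'
  have ea1 : a1 = true := by
    have := (k1 1 (by norm_num)).1 hu1
    simpa [r1e, r1s] using this
  have eb2 : b2 = true := by
    have := (k2 32 (by norm_num)).1 hu2
    simpa [r2e, r2s] using this
  have e3 : Bool.xor a3 b3 = true := by
    have := (k3 33 (by norm_num)).1 hu3
    simpa [r3e, r3s] using this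
  -- two of them differ
  obtain ⟨A, B, hA, hB, hA2, hB2, a, b, a', b', kA, kB, hind⟩ : ∃ (A B : Subgroup G),
      A.Normal ∧ B.Normal ∧ A.index = 2 ∧ B.index = 2 ∧ ∃ a b a' b' : Bool,
        (∀ n, n < 768 → ((c n ∉ A) ↔ Bool.xor (a && psiE n) (b && psiS n) = true)) ∧
        (∀ n, n < 768 → ((c n ∉ B) ↔ Bool.xor (a' && psiE n) (b' && psiS n) = true)) ∧
        Bool.xor (a && b') (b && a') = true := by
    by_cases hd : Bool.xor (a1 && b2) (b1 && a2) = true
    · exact ⟨M1, M2, hM1, hM2, hI1', hI2', a1, b1, a2, b2, k1, k2, hd⟩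
    · refine ⟨M1, M3, hM1, hM3, hI1', hI3', a1, b1, a3, b3, k1, k3, ?_⟩
      revert hd e3
      rw [ea1, eb2]
      cases b1 <;> cases a2 <;> cases a3 <;> cases b3 <;> decide
  haveI := hA
  haveI := hB
  refine ⟨A ⊓ B, inferInstance, ?_, ?_⟩
  · have hne : ¬ A ≤ B := by
      intro hle
      have heq : A = B := eq_of_le_of_card_ge hle (by
        have e1 := A.card_mul_index
        have e2 := B.card_mul_index
        rw [hA2] at e1
        rw [hB2] at e2
        omega)
      subst heq
      have h1 := (kA 1 (by norm_num)).symm.trans (kB 1 (by norm_num))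
      have h32 := (kA 32 (by norm_num)).symm.trans (kB 32 (by norm_num))
      simp only [r1e, r1s, r2e, r2s] at h1 h32
      revert h1 h32 hind
      cases a <;> cases b <;> cases a' <;> cases b' <;> decide
    have hrel : B.relIndex A = 2 := by
      have hd : B.relIndex A ∣ B.index := relIndex_dvd_index_of_normal B A
      rw [hB2] at hd
      rcases (Nat.dvd_prime Nat.prime_two).1 hd with h | h
      · exact absurd (relIndex_eq_one.1 h) hne
      · exact h
    rw [← relIndex_mul_index (inf_le_left : A ⊓ B ≤ A), hA2, inf_comm, inf_relIndex_right, hrel]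
  · intro n hn
    rw [mem_inf, inH1]
    have h1 := kA n hn
    have h2 := kB n hn
    by_cases ma : c n ∈ A <;> by_cases mb : c n ∈ B <;>
      simp only [ma, mb, not_true_eq_false, not_false_eq_true, false_iff, true_iff, and_true, and_false,
        true_and, false_and, Bool.not_eq_true] at h1 h2 ⊢ <;>
      revert hind h1 h2 <;> cases psiE n <;> cases psiS n <;> cases a <;> cases b <;> cases a' <;>
      cases b' <;> decide

end Sys

end CfsgLib.ChzL34
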