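import Cfsg.Agent.ChzL34.CaseWOrder

/-! No group of order 37440 arises. -/

set_option autoImplicit false
set_option linter.unusedSectionVars false
set_option linter.style.haveILetI false
set_option maxRecDepth 100000

namespace CfsgLib.ChzL34

open Subgroup
open CfsgLib.Invol (orderOf_conj_eq)

variable {G : Type*} [Group G] [Finite G] {z : G} {c : Nat → G} {N : Subgroup G}

theorem orderOf_conj_iff (g x : G) (n : ℕ) : orderOf (g * x * g⁻¹) = n ↔ orderOf x = n := by
  rw [orderOf_conj_eq]

/-- A perfect group has no proper subgroup of index at most four. -/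
theorem index_gt_four {Y : Type*} [Group Y] [Finite Y] (hY : commutator Y = ⊤) (H : Subgroup Y)
    (h : H.index ≤ 4) : H = ⊤ := by
  classical
  set f := MulAction.toPermHom Y (Y ⧸ H)
  have hs : Group.IsSolvable (Equiv.Perm (Y ⧸ H)) := by
    have hinst : Group.IsSolvable (Equiv.Perm (Fin 4)) := by
      exact Char.isSolvable_of_card_eq 2 3 3 1 Nat.prime_two Nat.prime_three
        (by rw [Nat.card_perm, Nat.card_fin]; rfl)
    have hle : Nat.card (Y ⧸ H) ≤ 4 := by rw [← index_eq_card]; exact h
    haveI := Fintype.ofFinite (Y ⧸ H)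
    obtain ⟨e⟩ := Function.Embedding.nonempty_of_card_le (α := Y ⧸ H) (β := Fin 4)
      (by rw [Fintype.card_fin, ← Nat.card_eq_fintype_card]; exact hle)
    exact solvable_of_solvable_injective (f := Equiv.Perm.viaEmbeddingHom e)
      (Equiv.Perm.viaEmbeddingHom_injective e)
  have hperf : commutator f.range = ⊤ := by
    have hr : Function.Surjective f.rangeRestrict := f.rangeRestrict_surjective
    rw [_root_.commutator_def] at hY ⊢
    rw [← map_top_of_surjective f.rangeRestrict hr, ← map_commutator, hY]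
  have hbot : f.range = ⊥ := by
    by_contra hne
    haveI : Nontrivial f.range := (nontrivial_iff_ne_bot _).2 hne
    haveI : Group.IsSolvable f.range := solvable_of_solvable_injective (f := f.range.subtype) f.range.subtype_injective
    exact (Group.IsSolvable.commutator_lt_top_of_nontrivial f.range).ne hperf
  refine (eq_top_iff' H).2 fun y => ?_
  have h1 : f y = 1 := by
    have : f y ∈ f.range := ⟨y, rfl⟩
    rwa [hbot, mem_bot] at this
  have h2 := Equiv.Perm.ext_iff.1 h1 (QuotientGroup.mk (1 : Y))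
  simpa [f, QuotientGroup.eq] using h2

set_option synthInstance.maxSize 1024 in
set_option synthInstance.maxHeartbeats 200000 in
theorem sylow_key : ∀ q < 46, ∀ e < 13, q ∣ 45 → e ∣ 12 → 2880 % (e * q) = 0 →
    (2880 / (e * q)) % 13 = 1 → 5 ∣ q := by
  decide +kernel

namespace Core

variable {B : Big z c N} {Y : Subgroup G} (K : Core B Y)

include K

theorem no_four {d : G} (hd : d ∈ centralizer ({c 224} : Set G) ⊓ N) : orderOf d ≠ 4 := by
  intro h4
  haveI : Fact (Nat.Prime 2) := ⟨Nat.prime_two⟩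
  set D := centralizer ({c 224} : Set G) ⊓ N
  set A' := (subA1 B.sys.cod).subgroupOf D
  have hA16 : Nat.card A' = 16 := by
    rw [Nat.card_congr (subgroupOfEquivOfLe B.a1_le).toEquiv, card_subA1]
  let P : Sylow 2 D := (IsPGroup.of_card (n := 4) (by rw [hA16]; norm_num)).toSylow
    (fun h => Nat.not_even_iff_odd.2 K.odd (even_iff_two_dvd.2 h))
  have h2 : IsPGroup 2 (zpowers (⟨d, hd⟩ : D)) :=
    IsPGroup.of_card (n := 2) (by rw [Nat.card_zpowers, ← orderOf_coe, h4]; norm_num)
  obtain ⟨Q, hQ⟩ := h2.exists_le_sylow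
  obtain ⟨g, hg⟩ := MulAction.exists_smul_eq D Q P
  have hmem : g * ⟨d, hd⟩ * g⁻¹ ∈ (g • Q : Sylow 2 D) := ⟨_, hQ (mem_zpowers _), rfl⟩
  rw [hg] at hmem
  have hsq := subA1_sq B.sys.cod _ (mem_subgroupOf.1 hmem)
  push_cast at hsq
  have hd2 : d ^ 2 = 1 := by
    have : (g : G) * (d * d) * (g : G)⁻¹ = 1 := by rw [← hsq]; group
    rw [conj_eq_one_iff] at this
    rw [pow_two, this]
  have := orderOf_dvd_of_pow_eq_one hd2
  rw [h4] at this
  norm_num at this

theorem five_mem {y : G} (hy : y ∈ centralizer ({c 224} : Set G) ⊓ N) (h5 : orderOf y = 5) : y ∈ Y := by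
  set D := centralizer ({c 224} : Set G) ⊓ N
  haveI : (Y.subgroupOf D).Normal := ⟨fun n hn g => mem_subgroupOf.2 (K.normal _ g.2 _ (mem_subgroupOf.1 hn))⟩
  have hidx : (Y.subgroupOf D).index = 4 := by
    have h := (Y.subgroupOf D).index_mul_card
    rw [Nat.card_congr (subgroupOfEquivOfLe K.le).toEquiv, K.card_y, K.card_d] at h
    omega
  have h := (Y.subgroupOf D).pow_index_mem ⟨y, hy⟩
  rw [hidx, mem_subgroupOf] at h
  have e : y = (y ^ 4) ^ 4 := by
    rw [← pow_mul, show 4 * 4 = 5 * 3 + 1 from rfl, pow_succ, pow_mul, ← h5, pow_orderOf_eq_one, one_pow, one_mul]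
  rw [e]
  exact pow_mem h 4

theorem card_fives : Nat.card {u : Y // orderOf u = 5} ≤ 24 := by
  classical
  haveI : Fact (Nat.Prime 5) := ⟨by norm_num⟩
  have hf : (Nat.card Y).factorization 5 = 1 := by
    rw [K.card_y, show (60 : ℕ) = 12 * 5 by norm_num, Nat.factorization_mul (by norm_num) (by norm_num),
      Finsupp.add_apply, Nat.factorization_eq_zero_of_not_dvd (by norm_num),
      Nat.Prime.factorization_self (by norm_num), zero_add]
  have hP : ∀ P : Sylow 5 Y, Nat.card P = 5 := fun P => by rw [P.card_eq_multiplicity, hf, pow_one]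
  have hn : Nat.card (Sylow 5 Y) ≤ 6 := by
    obtain ⟨P⟩ : Nonempty (Sylow 5 Y) := inferInstance
    have hd : Nat.card (Sylow 5 Y) ∣ 12 := by
      have h := P.card_dvd_index
      have hm := (P : Subgroup Y).card_mul_index
      rw [hP P, K.card_y] at hm
      rwa [show (P : Subgroup Y).index = 12 by omega] at h
    have hmod := card_sylow_modEq_one 5 Y
    have hle := Nat.le_of_dvd (by norm_num) hd
    by_contra hgt
    have : Nat.card (Sylow 5 Y) = 12 := by
      obtain ⟨k, hk⟩ := hd
      match k, hk with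
      | 0, hk => omega
      | 1, hk => omega
      | (k + 2), hk =>
        have := Nat.mul_le_mul_left (Nat.card (Sylow 5 Y)) (show 2 ≤ k + 2 by omega)
        omega
    rw [this] at hmod
    exact absurd hmod (by decide)
  have hex : ∀ u : {u : Y // orderOf u = 5}, ∃ P : Sylow 5 Y, (u : Y) ∈ P := fun u => by
    obtain ⟨P, hP'⟩ := (IsPGroup.of_card (n := 1) (by rw [Nat.card_zpowers, u.2, pow_one]) :
      IsPGroup 5 (zpowers (u : Y))).exists_le_sylow
    exact ⟨P, hP' (mem_zpowers _)⟩
  choose P hPu using hex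
  let f : {u : Y // orderOf u = 5} → Σ Q : Sylow 5 Y, {v : (Q : Subgroup Y) // v ≠ 1} := fun u =>
    ⟨P u, ⟨⟨u, hPu u⟩, fun h => by
      have h' : (u : Y) = 1 := congrArg Subtype.val h
      have := u.2
      rw [h', orderOf_one] at this
      norm_num at this⟩⟩
  have hinj : Function.Injective f := fun u v h => Subtype.ext
    (congrArg (fun s : Σ Q : Sylow 5 Y, {v : (Q : Subgroup Y) // v ≠ 1} => ((s.2.1 : Y))) h)
  refine (Nat.card_le_card_of_injective f hinj).trans ?_
  haveI := Fintype.ofFinite (Sylow 5 Y)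
  rw [Nat.card_sigma, Finset.sum_congr rfl (g := fun _ => 4) (fun Q _ => ?_), Finset.sum_const, smul_eq_mul,
    Finset.card_univ, ← Nat.card_eq_fintype_card]
  · omega
  · haveI := Fintype.ofFinite (Q : Subgroup Y)
    rw [Nat.card_eq_fintype_card, Fintype.card_subtype_compl, Fintype.card_subtype_eq,
      ← Nat.card_eq_fintype_card, hP Q]

theorem card_cent_five {y : G} (hy : y ∈ centralizer ({c 224} : Set G) ⊓ N) (h5 : orderOf y = 5) :
    Nat.card {v : G // v ∈ centralizer ({c 224} : Set G) ⊓ N ∧ v * y = y * v} = 20 := by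
  classical
  set D := centralizer ({c 224} : Set G) ⊓ N
  have hyY := K.five_mem hy h5
  set yd : D := ⟨y, hy⟩
  set C := centralizer ({yd} : Set D)
  have hCc : Nat.card {v : G // v ∈ D ∧ v * y = y * v} = Nat.card C :=
    Nat.card_congr
      { toFun := fun v => ⟨⟨v.1, v.2.1⟩, mem_centralizer_singleton_iff.2 (Subtype.ext v.2.2)⟩
        invFun := fun v => ⟨(v.1 : G), v.1.2, congrArg Subtype.val (mem_centralizer_singleton_iff.1 v.2)⟩
        left_inv := fun _ => rfl
        right_inv := fun _ => rfl }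
  rw [hCc]
  -- the class is at most half of the elements of order five
  have hclass := card_conjClass yd
  rw [K.card_d] at hclass
  set k := Nat.card {u : D // IsConj yd u}
  replace hclass : k * Nat.card C = 240 := hclass
  have hk : 2 * k ≤ 24 := by
    have hu5 : ∀ u : D, IsConj yd u → (u : G) ∈ Y ∧ orderOf (u : G) = 5 := fun u hu => by
      have : orderOf (u : G) = 5 := by
        obtain ⟨g, rfl⟩ := isConj_iff.1 hu
        push_cast
        rw [orderOf_conj_eq, h5]
      exact ⟨K.five_mem u.2 this, this⟩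
    let f : {u : D // IsConj yd u} × Bool → {v : Y // orderOf v = 5} := fun q =>
      ⟨⟨(cond q.2 (q.1.1 : G) ((q.1.1 : G) ^ 2)), by
        cases q.2
        · exact pow_mem (hu5 _ q.1.2).1 2
        · exact (hu5 _ q.1.2).1⟩, by
        rw [← orderOf_coe]
        show orderOf (cond q.2 (q.1.1 : G) ((q.1.1 : G) ^ 2)) = 5
        cases q.2
        · show orderOf ((q.1.1 : G) ^ 2) = 5
          rw [Nat.Coprime.orderOf_pow (by rw [(hu5 _ q.1.2).2]; norm_num), (hu5 _ q.1.2).2]
        · exact (hu5 _ q.1.2).2⟩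
    have hsep : ∀ u v : D, IsConj yd u → IsConj yd v → (u : G) ≠ (v : G) ^ 2 := by
      intro u v hu hv he
      obtain ⟨g, hg⟩ := isConj_iff.1 (hv.symm.trans hu)
      have hg' : (g : G) * (v : G) * (g : G)⁻¹ = (v : G) ^ 2 := by
        rw [← he, ← hg]; push_cast; rfl
      have hpow : ∀ n : ℕ, (g : G) ^ n * (v : G) * ((g : G) ^ n)⁻¹ = (v : G) ^ (2 ^ n) := by
        intro n
        induction n with
        | zero => simp
        | succ n ih =>
          rw [pow_succ', show (g : G) * (g : G) ^ n * (v : G) * ((g : G) * (g : G) ^ n)⁻¹ =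
            (g : G) * ((g : G) ^ n * (v : G) * ((g : G) ^ n)⁻¹) * (g : G)⁻¹ by group, ih,
            ← conj_pow, hg', ← pow_mul, ← pow_succ']
      have hv5 : orderOf (v : G) = 5 := (hu5 v hv).2
      -- a power of order four
      have h4 : 4 ∣ orderOf (g : G) := by
        have h := hpow (orderOf (g : G))
        rw [pow_orderOf_eq_one, one_mul, inv_one, mul_one] at h
        have h1 : (v : G) ^ 1 = (v : G) ^ (2 ^ orderOf (g : G)) := by rw [pow_one]; exact h
        rw [pow_inj_mod, hv5] at h1
        set n := orderOf (g : G)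
        have hm : 2 ^ n % 5 = 2 ^ (n % 4) % 5 := by
          conv_lhs => rw [← Nat.div_add_mod n 4]
          rw [pow_add, pow_mul, Nat.mul_mod, Nat.pow_mod]
          norm_num
        rw [hm] at h1
        have := Nat.mod_lt n (show 4 > 0 by norm_num)
        interval_cases h : n % 4
        · omega
        all_goals norm_num at h1
      obtain ⟨q, hq⟩ := h4
      refine K.no_four (d := (g : G) ^ q) (pow_mem g.2 q) ?_
      rw [orderOf_pow, hq, Nat.gcd_eq_right (dvd_mul_left q 4)]
      refine Nat.mul_div_cancel 4 (Nat.pos_of_ne_zero fun h0 => ?_)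
      rw [h0, mul_zero] at hq
      exact (orderOf_pos (g : G)).ne' hq
    have hinj : Function.Injective f := by
      rintro ⟨u, p⟩ ⟨v, r⟩ h
      have h' : cond p (u.1 : G) ((u.1 : G) ^ 2) = cond r (v.1 : G) ((v.1 : G) ^ 2) :=
        congrArg (fun w : {v : Y // orderOf v = 5} => ((w.1 : Y) : G)) h
      cases p <;> cases r <;> simp only [cond_true, cond_false] at h'
      · refine Prod.ext (Subtype.ext (Subtype.ext ?_)) rfl
        have hx : ∀ x : G, orderOf x = 5 → (x ^ 2) ^ 3 = x := fun x hx => by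
          rw [← pow_mul, show 2 * 3 = 5 + 1 from rfl, pow_succ, ← hx, pow_orderOf_eq_one, one_mul]
        rw [← hx _ (hu5 _ u.2).2, h', hx _ (hu5 _ v.2).2]
      · exact absurd h'.symm (hsep _ _ v.2 u.2)
      · exact absurd h' (hsep _ _ u.2 v.2)
      · exact Prod.ext (Subtype.ext (Subtype.ext h')) rfl
    have := (Nat.card_le_card_of_injective f hinj).trans K.card_fives
    rw [Nat.card_prod, show Nat.card Bool = 2 from Nat.card_eq_fintype_card.trans rfl] at this
    omega
  have hge : 20 ≤ Nat.card C := by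
    by_contra h
    have h19 : Nat.card C ≤ 19 := by omega
    have := Nat.mul_le_mul (show k ≤ 12 by omega) h19
    omega
  -- the centralizer in `Y`
  set yy : Y := ⟨y, hyY⟩
  set CY := centralizer ({yy} : Set Y)
  have hodd : ¬ 2 ∣ Nat.card CY := by
    intro h2
    haveI : Fact (Nat.Prime 2) := ⟨Nat.prime_two⟩
    obtain ⟨j, hj⟩ := exists_prime_orderOf_dvd_card' (G := CY) 2 h2
    have hj2 : orderOf ((j : Y) : G) = 2 := by rw [orderOf_coe, orderOf_coe, hj]
    obtain ⟨hVsq, hCent⟩ : (∀ w ∈ fourSub B.sys.cod, w * w = 1) ∧ True := ⟨B.four_sq, trivial⟩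
    -- `z` is conjugate in `Y` to this involution
    have hjc : Commute (c 224) ((j : Y) : G) :=
      (mem_centralizer_singleton_iff.1 (mem_inf.1 (K.le (j : Y).2)).1).symm
    have hz0 : z ∈ Y := K.four ((mem_fourSub B.sys.cod).2 (Or.inr (Or.inl rfl)))
    set V' := (fourSub B.sys.cod).subgroupOf Y
    have hV4 : Nat.card V' = 4 := by
      rw [Nat.card_congr (subgroupOfEquivOfLe K.four).toEquiv, card_fourSub]
    have hCz : centralizer ({(⟨z, hz0⟩ : Y)} : Set Y) = V' := by
      ext v
      refine ⟨fun hv => mem_subgroupOf.2 (K.cent (v : G) v.2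
        (congrArg Subtype.val (mem_centralizer_singleton_iff.1 hv))), fun hv => ?_⟩
      rw [mem_centralizer_singleton_iff]
      exact Subtype.ext (mul_comm_of_sq B.four_sq (mem_subgroupOf.1 hv)
        ((mem_fourSub B.sys.cod).2 (Or.inr (Or.inl rfl))))
    -- all involutions of `Y` are conjugate
    have hconj : IsConj (⟨z, hz0⟩ : Y) (j : Y) := by
      by_contra hne
      have heven : Even (orderOf ((⟨z, hz0⟩ : Y) * (j : Y))) := by
        rw [← Nat.not_odd_iff_even]
        intro ho
        obtain ⟨i, hi⟩ := Invol.exists_pow_conj_of_odd (by rw [← orderOf_coe]; exact B.sys.hz)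
          (by rw [← orderOf_coe]; exact hj2) ho
        exact hne (isConj_iff.2 ⟨_, hi⟩)
      have h60 : Nat.card {t : Y // IsConj (⟨z, hz0⟩ : Y) t} * 4 = 60 := by
        rw [← hV4, ← hCz, card_conjClass, K.card_y]
      obtain ⟨hodd', hcases⟩ := four_cases hV4 (fun w hw => Subtype.ext (B.four_sq _ (mem_subgroupOf.1 hw)))
        (fun w hw hw1 => by
          refine le_antisymm (fun v hv => ?_) fun v hv => ?_
          · by_cases hwz : w = ⟨z, hz0⟩
            · rw [hwz, hCz] at hv; exact hv
            · obtain ⟨g, -, hg⟩ := B.conj_in (B.four_class (mem_subgroupOf.1 hw) fun h => hw1 (Subtype.ext h))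
              exact mem_subgroupOf.2 (K.cent_all _ (mem_subgroupOf.1 hw) (fun h => hw1 (Subtype.ext h)) v v.2
                (congrArg Subtype.val (mem_centralizer_singleton_iff.1 hv)))
          · rw [mem_centralizer_singleton_iff]
            exact Subtype.ext (mul_comm_of_sq B.four_sq (mem_subgroupOf.1 hv) (mem_subgroupOf.1 hw)))
      rcases hcases with ⟨h, -⟩ | ⟨h, -⟩ | ⟨-, -, h15⟩
      · rw [K.card_y] at h; omega
      · rw [K.card_y] at h; omega
      · have hsub : ∀ t : Y, IsConj (⟨z, hz0⟩ : Y) t → orderOf t = 2 := fun t ht => by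
          obtain ⟨g, rfl⟩ := isConj_iff.1 ht
          rw [orderOf_conj_eq, ← orderOf_coe]
          exact B.sys.hz
        let i : {t : Y // IsConj (⟨z, hz0⟩ : Y) t} → {t : Y // orderOf t = 2} := fun t => ⟨t.1, hsub _ t.2⟩
        have hb : Function.Bijective i := (Nat.bijective_iff_injective_and_card i).2
          ⟨fun a b h => Subtype.ext (Subtype.mk.inj h :), by omega⟩
        obtain ⟨t, ht⟩ := hb.2 ⟨(j : Y), by rw [← orderOf_coe]; exact hj2⟩
        exact hne ((congrArg Subtype.val ht :) ▸ t.2)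
    obtain ⟨g, hg⟩ := isConj_iff.1 hconj
    have hjy : Commute (j : Y) yy := mem_centralizer_singleton_iff.1 j.2
    have hmem : g⁻¹ * yy * g ∈ centralizer ({(⟨z, hz0⟩ : Y)} : Set Y) := by
      rw [mem_centralizer_singleton_iff]
      calc g⁻¹ * yy * g * ⟨z, hz0⟩ = g⁻¹ * (yy * (g * ⟨z, hz0⟩ * g⁻¹)) * g := by group
        _ = g⁻¹ * ((j : Y) * yy) * g := by rw [hg, hjy.eq]
        _ = _ := by rw [← hg]; group
    rw [hCz] at hmem
    have hsq := B.four_sq _ (mem_subgroupOf.1 hmem)
    push_cast at hsq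
    have hy2 : y ^ 2 = 1 := by
      have : (g : G)⁻¹ * (y * y) * (g : G) = 1 := by
        rw [← hsq]; show _ = (g : G)⁻¹ * y * g * ((g : G)⁻¹ * y * g); group
      calc y ^ 2 = (g : G) * ((g : G)⁻¹ * (y * y) * g) * (g : G)⁻¹ := by rw [pow_two]; group
        _ = 1 := by rw [this]; group
    have := orderOf_dvd_of_pow_eq_one hy2
    rw [h5] at this
    norm_num at this
  have hCY5 : 5 ∣ Nat.card CY := by
    have h := CY.orderOf_dvd_natCard (x := yy) (mem_centralizer_singleton_iff.2 rfl)
    rwa [← orderOf_coe, show ((yy : Y) : G) = y from rfl, h5] at h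
  have hCY60 : Nat.card CY ∣ 60 := K.card_y ▸ card_subgroup_dvd_card CY
  have hCYle : Nat.card CY = 5 := by
    obtain ⟨q, hq⟩ := hCY5
    rw [hq] at hCY60 hodd ⊢
    have hq12 : q ∣ 12 := Nat.dvd_of_mul_dvd_mul_left (by norm_num) (show 5 * q ∣ 5 * 12 by simpa using hCY60)
    have hqle := Nat.le_of_dvd (by norm_num) hq12
    have hq2 : ¬ 2 ∣ q := fun h => hodd (Dvd.dvd.mul_left h 5)
    have : q = 1 ∨ q = 3 := by
      interval_cases q <;> simp_all (config := { decide := true })
    rcases this with rfl | rfl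
    · rfl
    · exfalso
      have hidx : CY.index = 4 := by
        have := CY.card_mul_index
        rw [hq, K.card_y] at this
        omega
      have := index_gt_four K.perfect CY hidx.le
      rw [this, index_top] at hidx
      norm_num at hidx
  -- at most twenty
  have hle : Nat.card C ≤ 20 := by
    haveI : (Y.subgroupOf D).Normal := ⟨fun n hn g => mem_subgroupOf.2 (K.normal _ g.2 _ (mem_subgroupOf.1 hn))⟩
    have hidx : (Y.subgroupOf D).index = 4 := by
      have h := (Y.subgroupOf D).index_mul_card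
      rw [Nat.card_congr (subgroupOfEquivOfLe K.le).toEquiv, K.card_y, K.card_d] at h
      omega
    have hrel : ((Y.subgroupOf D).subgroupOf C).index ∣ 4 := hidx ▸ relIndex_dvd_index_of_normal _ C
    have h := ((Y.subgroupOf D).subgroupOf C).index_mul_card
    have h5' : Nat.card ((Y.subgroupOf D).subgroupOf C) = 5 := by
      rw [← hCYle]
      exact Nat.card_congr
        { toFun := fun v => ⟨⟨((v.1 : D) : G), mem_subgroupOf.1 (mem_subgroupOf.1 v.2)⟩,
            mem_centralizer_singleton_iff.2 (Subtype.ext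
              (congrArg Subtype.val (mem_centralizer_singleton_iff.1 v.1.2) :))⟩
          invFun := fun v => ⟨⟨⟨((v : Y) : G), K.le v.1.2⟩, mem_centralizer_singleton_iff.2 (Subtype.ext
              (congrArg Subtype.val (mem_centralizer_singleton_iff.1 v.2) :))⟩,
            mem_subgroupOf.2 (mem_subgroupOf.2 v.1.2)⟩
          left_inv := fun _ => rfl
          right_inv := fun _ => rfl }
    rw [h5'] at h
    have := Nat.le_of_dvd (by norm_num) hrel
    omega
  omega

theorem contra : False := by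
  classical
  have h224 : (224 : Nat) < 768 := by norm_num
  set D := centralizer ({c 224} : Set G) ⊓ N with hD
  have hbD : c 224 ∈ D := mem_inf.2 ⟨mem_centralizer_singleton_iff.2 rfl, (B.mem 224 h224).2 (by decide +kernel)⟩
  haveI := B.normal
  -- the involutions of `N`
  have hinvN : ∀ j ∈ N, orderOf j = 2 → IsConj z j ∨ IsConj (c 224) j := by
    intro j hj hj2
    have key : ∀ n, n < 768 → inH1 n = false → ¬ IsConj j (c n) := fun n hn hf h => by
      obtain ⟨g, hg⟩ := isConj_iff.1 h
      have := (B.mem n hn).1 (hg ▸ B.normal.conj_mem _ hj g)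
      rw [hf] at this
      exact absurd this (by simp)
    rcases B.reps hj2 with h | h | h | h | h
    · exact Or.inl (by rw [← B.sys.cod.zeq] at h; exact h.symm)
    · exact Or.inr h.symm
    · exact absurd h (key 1 (by norm_num) (by decide +kernel))
    · exact absurd h (key 32 (by norm_num) (by decide +kernel))
    · exact absurd h (key 33 (by norm_num) (by decide +kernel))
  have htrans : ∀ {a b : G}, IsConj a b →
      Nat.card {v : G // v ∈ N ∧ v * b = b * v} = Nat.card {v : G // v ∈ N ∧ v * a = a * v} := by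
    intro a b hab
    obtain ⟨g, rfl⟩ := isConj_iff.1 hab
    refine (card_conj g _ _ fun v => ?_).symm
    rw [comm_conj g v a]
    refine and_congr_left' ⟨fun h => B.normal.conj_mem _ h g, fun h => ?_⟩
    have := B.normal.conj_mem _ h g⁻¹
    rwa [inv_inv, show g⁻¹ * (g * v * g⁻¹) * g = v by group] at this
  have hcz : Nat.card {v : G // v ∈ N ∧ v * z = z * v} = 192 := by
    have h : Nat.card {v : G // v * z = z * v ∧ v ∈ N} = 192 := by
      rw [B.sys.cod.card_filter (fun v => v ∈ N) inH1 fun j hj => (B.mem j hj).symm]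
      have := count_ok
      simp only [Bool.and_eq_true] at this
      exact Nat.eq_of_beq_eq_true this.1.2
    rw [← h]
    exact Nat.card_congr (Equiv.subtypeEquivRight fun v => and_comm)
  have hcb : Nat.card {v : G // v ∈ N ∧ v * c 224 = c 224 * v} = 240 := by
    rw [← K.card_d]
    exact Nat.card_congr (Equiv.subtypeEquivRight fun v => by
      rw [mem_inf, mem_centralizer_singleton_iff]; exact and_comm)
  -- an element of order thirteen
  haveI : Fact (Nat.Prime 13) := ⟨by norm_num⟩
  haveI : Fact (Nat.Prime 5) := ⟨by norm_num⟩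
  haveI : Fact (Nat.Prime 2) := ⟨Nat.prime_two⟩
  obtain ⟨P⟩ : Nonempty (Sylow 13 N) := inferInstance
  have hP13 : Nat.card P = 13 := by
    rw [P.card_eq_multiplicity, K.card_n, show (37440 : ℕ) = 2880 * 13 by norm_num,
      Nat.factorization_mul (by norm_num) (by norm_num), Finsupp.add_apply,
      Nat.factorization_eq_zero_of_not_dvd (by norm_num), Nat.Prime.factorization_self (by norm_num),
      zero_add, pow_one]
  obtain ⟨⟨x, hxP⟩, hx⟩ := exists_prime_orderOf_dvd_card' (G := (P : Subgroup N)) 13 (by rw [hP13])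
  rw [orderOf_mk] at hx
  have hPx : (P : Subgroup N) = zpowers x :=
    (eq_of_le_of_card_ge (zpowers_le.2 hxP) (by rw [Nat.card_zpowers, hx, hP13])).symm
  set C := centralizer (((P : Subgroup N)) : Set N) with hC
  have hodd : ¬ 2 ∣ Nat.card C := by
    intro h2
    obtain ⟨⟨j, hjC⟩, hj⟩ := exists_prime_orderOf_dvd_card' (G := C) 2 h2
    rw [orderOf_mk] at hj
    have hj2 : orderOf (j : G) = 2 := by rw [orderOf_coe, hj]
    have hxj : (x : G) * (j : G) = (j : G) * (x : G) :=
      congrArg Subtype.val (mem_centralizer_iff.1 hjC x hxP)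
    have hdvd : 13 ∣ Nat.card {v : G // v ∈ N ∧ v * (j : G) = (j : G) * v} := by
      let H : Subgroup G := N ⊓ centralizer ({(j : G)} : Set G)
      have : Nat.card {v : G // v ∈ N ∧ v * (j : G) = (j : G) * v} = Nat.card H :=
        Nat.card_congr (Equiv.subtypeEquivRight fun v => by
          show _ ↔ v ∈ H
          rw [mem_inf, mem_centralizer_singleton_iff])
      rw [this]
      have h := H.orderOf_dvd_natCard (x := (x : G)) (mem_inf.2 ⟨x.2, mem_centralizer_singleton_iff.2 hxj⟩)
      rwa [orderOf_coe, hx] at h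
    rcases hinvN _ j.2 hj2 with h | h
    · rw [htrans h, hcz] at hdvd; norm_num at hdvd
    · rw [htrans h, hcb] at hdvd; norm_num at hdvd
  -- counting Sylow subgroups forces an element of order five in the centralizer
  set M := normalizer ((P : Subgroup N) : Set N)
  have hCM : C ≤ M := centralizer_le_normalizer ((P : Subgroup N) : Set N)
  have hn : Nat.card (Sylow 13 N) * Nat.card M = 37440 := by
    rw [Sylow.card_eq_index_normalizer P]
    exact (index_mul_card M).trans K.card_n
  have he : (C.subgroupOf M).index ∣ 12 := by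
    haveI : IsCyclic (P : Subgroup N) := isCyclic_of_prime_card hP13
    rw [hC, ← normalizerMonoidHom_ker, index_ker]
    have h12 : Nat.card (MulAut (P : Subgroup N)) = 12 := by
      rw [IsCyclic.card_mulAut, hP13, Nat.totient_prime (by norm_num)]
    rw [← h12]
    exact card_subgroup_dvd_card _
  have hM : (C.subgroupOf M).index * Nat.card C = Nat.card M := by
    rw [← Nat.card_congr (subgroupOfEquivOfLe hCM).toEquiv, index_mul_card]
  have hC13 : 13 ∣ Nat.card C := by
    have h := C.orderOf_dvd_natCard (x := x) (mem_centralizer_iff.2 fun a ha => by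
      rw [hPx] at ha
      obtain ⟨i, rfl⟩ := mem_zpowers_iff.1 ha
      exact ((Commute.refl x).zpow_left i).eq)
    rwa [hx] at h
  have hmod := card_sylow_modEq_one 13 N
  have h5C : 5 ∣ Nat.card C := by
    obtain ⟨q, hq⟩ := hC13
    set e := (C.subgroupOf M).index
    set n := Nat.card (Sylow 13 N)
    rw [hq] at hM hodd
    rw [← hM] at hn
    have hqe : n * (e * q) = 2880 := by nlinarith
    have hqodd : ¬ 2 ∣ q := fun h => hodd (Dvd.dvd.mul_left h 13)
    have hq45 : q ∣ 45 := by
      have hcop : Nat.Coprime q 64 := by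
        rw [show (64 : ℕ) = 2 ^ 6 by norm_num]
        exact Nat.Coprime.pow_right 6 ((Nat.prime_two.coprime_iff_not_dvd).2 hqodd).symm
      exact hcop.dvd_of_dvd_mul_left ⟨n * e, by rw [show 64 * 45 = 2880 by norm_num, ← hqe]; ring⟩
    have hqle := Nat.le_of_dvd (by norm_num) hq45
    have hele := Nat.le_of_dvd (by norm_num) he
    have hpos : 0 < e * q := Nat.pos_of_ne_zero fun h => by simp [h] at hqe
    rw [hq]
    refine Dvd.dvd.mul_left (sylow_key q (by omega) e (by omega) hq45 he ?_ ?_) 13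
    · rw [← hqe, Nat.mul_mod_left]
    · rw [← hqe, Nat.mul_div_cancel _ hpos]
      exact hmod
  obtain ⟨⟨y, hyC⟩, hy⟩ := exists_prime_orderOf_dvd_card' (G := C) 5 h5C
  rw [orderOf_mk] at hy
  have hxy : (x : G) * (y : G) = (y : G) * (x : G) := congrArg Subtype.val (mem_centralizer_iff.1 hyC x hxP)
  -- move it into the centralizer of `224`
  obtain ⟨⟨w, hwD⟩, hw⟩ := exists_prime_orderOf_dvd_card' (G := D) 5 (by rw [K.card_d]; norm_num)
  rw [orderOf_mk] at hw
  have hw' : orderOf (⟨w, (mem_inf.1 hwD).2⟩ : N) = 5 := by rw [orderOf_mk, hw]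
  have hf5 : (Nat.card N).factorization 5 = 1 := by
    rw [K.card_n, show (37440 : ℕ) = 7488 * 5 by norm_num,
      Nat.factorization_mul (by norm_num) (by norm_num), Finsupp.add_apply,
      Nat.factorization_eq_zero_of_not_dvd (by norm_num), Nat.Prime.factorization_self (by norm_num), zero_add]
  let Py : Sylow 5 N := Sylow.ofCard (zpowers y) (by rw [Nat.card_zpowers, hy, hf5, pow_one])
  let Pw : Sylow 5 N := Sylow.ofCard (zpowers (⟨w, (mem_inf.1 hwD).2⟩ : N))
    (by rw [Nat.card_zpowers, hw', hf5, pow_one])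
  obtain ⟨g, hg⟩ := MulAction.exists_smul_eq N Py Pw
  have hgy : g * y * g⁻¹ ∈ (g • Py : Sylow 5 N) := ⟨y, (mem_zpowers y : y ∈ zpowers y), rfl⟩
  rw [hg] at hgy
  have hy1D : (g : G) * (y : G) * (g : G)⁻¹ ∈ D := by
    obtain ⟨i, hi⟩ := mem_zpowers_iff.1 (show g * y * g⁻¹ ∈ zpowers (⟨w, (mem_inf.1 hwD).2⟩ : N) from hgy)
    have := congrArg Subtype.val hi
    push_cast at this
    rw [← this]
    exact zpow_mem hwD i
  set y1 := (g : G) * (y : G) * (g : G)⁻¹ with hy1
  have hy15 : orderOf y1 = 5 := by rw [hy1, orderOf_conj_eq, orderOf_coe, hy]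
  set KK := N ⊓ centralizer ({y1} : Set G) with hKK
  have h13 : 13 ∣ Nat.card KK := by
    have h := KK.orderOf_dvd_natCard (x := (g : G) * (x : G) * (g : G)⁻¹)
      (mem_inf.2 ⟨B.normal.conj_mem _ x.2 g, mem_centralizer_singleton_iff.2
        ((show Commute (x : G) (y : G) from hxy).map (MulAut.conj (g : G)).toMonoidHom)⟩)
    rwa [orderOf_conj_eq, orderOf_coe, hx] at h
  -- the quotient by `y1`
  have h20 : ∀ j : G, j ∈ KK → orderOf j = 2 → Nat.card {v : G // v ∈ KK ∧ v * j = j * v} = 20 := by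
    intro j hj hj2
    obtain ⟨hjN, hjy⟩ := mem_inf.1 hj
    rw [mem_centralizer_singleton_iff] at hjy
    rcases hinvN j hjN hj2 with h | h
    · exfalso
      have hd : 5 ∣ Nat.card {v : G // v ∈ N ∧ v * j = j * v} := by
        let H : Subgroup G := N ⊓ centralizer ({j} : Set G)
        rw [Nat.card_congr (Equiv.subtypeEquivRight fun v => (show _ ↔ v ∈ H by
          rw [mem_inf, mem_centralizer_singleton_iff]))]
        have h := H.orderOf_dvd_natCard (x := y1)
          (mem_inf.2 ⟨(mem_inf.1 hy1D).2, mem_centralizer_singleton_iff.2 hjy.symm⟩)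
        rwa [hy15] at h
      rw [htrans h, hcz] at hd
      norm_num at hd
    · obtain ⟨f, hf⟩ := isConj_iff.1 h.symm
      have hy2 : f * y1 * f⁻¹ ∈ D := mem_inf.2 ⟨mem_centralizer_singleton_iff.2 (by
        rw [← hf]; exact (comm_conj f y1 j).1 hjy.symm), B.normal.conj_mem _ (mem_inf.1 hy1D).2 f⟩
      rw [← K.card_cent_five hy2 (by rw [orderOf_conj_eq, hy15])]
      refine card_conj f _ _ fun v => ?_
      rw [hKK, mem_inf, mem_centralizer_singleton_iff, mem_inf, mem_centralizer_singleton_iff,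
        comm_conj f v y1, comm_conj f v j, hf]
      refine ⟨fun ⟨⟨a, b⟩, d⟩ => ⟨⟨d, B.normal.conj_mem _ a f⟩, b⟩, fun ⟨⟨d, a⟩, b⟩ => ⟨⟨?_, b⟩, d⟩⟩
      have := B.normal.conj_mem _ a f⁻¹
      rwa [inv_inv, show f⁻¹ * (f * v * f⁻¹) * f = v by group] at this
  have hCD := K.card_cent_five hy1D hy15
  let HD : Subgroup G := D ⊓ centralizer ({y1} : Set G)
  have hHD : Nat.card HD = 20 := by
    rw [← hCD]
    exact Nat.card_congr (Equiv.subtypeEquivRight fun v => by
      show v ∈ HD ↔ _
      rw [mem_inf, mem_centralizer_singleton_iff])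
  obtain ⟨S, hS⟩ := Sylow.exists_subgroup_card_pow_prime (G := HD) 2 (n := 2) (by rw [hHD]; norm_num)
  have hSsq : ∀ s ∈ S, ((s : HD) : G) * ((s : HD) : G) = 1 := by
    intro s hs
    have hd : orderOf ((s : HD) : G) ∣ 2 ^ 2 := by
      rw [orderOf_coe, ← hS]; exact S.orderOf_dvd_natCard hs
    obtain ⟨i, hi, he⟩ := (Nat.dvd_prime_pow Nat.prime_two).1 hd
    interval_cases i
    · rw [pow_zero, orderOf_eq_one_iff] at he; rw [he, one_mul]
    · rw [pow_one] at he; exact Invol.mul_self_eq_one he
    · exact absurd (by rw [he]; rfl) (K.no_four (mem_inf.1 (s : HD).2).1)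
  have hy1KK : y1 ∈ KK := mem_inf.2 ⟨(mem_inf.1 hy1D).2, mem_centralizer_singleton_iff.2 rfl⟩
  set Z5 : Subgroup KK := zpowers ⟨y1, hy1KK⟩
  haveI : Z5.Normal := ⟨fun n hn k => by
    obtain ⟨i, rfl⟩ := mem_zpowers_iff.1 hn
    have hc : Commute k (⟨y1, hy1KK⟩ : KK) := Subtype.ext (mem_centralizer_singleton_iff.1 (mem_inf.1 k.2).2)
    rw [(hc.zpow_right i).eq, mul_inv_cancel_right]
    exact zpow_mem (mem_zpowers _) i⟩
  let ι : S →* KK ⧸ Z5 := (QuotientGroup.mk' Z5).comp
    { toFun := fun s => ⟨((s : HD) : G), mem_inf.2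
        ⟨(mem_inf.1 (mem_inf.1 (s : HD).2).1).2, (mem_inf.1 (s : HD).2).2⟩⟩
      map_one' := rfl
      map_mul' := fun _ _ => rfl }
  have hι : Function.Injective ι := by
    rw [← MonoidHom.ker_eq_bot_iff, eq_bot_iff_forall]
    intro s hs
    have hs' : (⟨((s : HD) : G), _⟩ : KK) ∈ Z5 := (QuotientGroup.eq_one_iff _).1 (MonoidHom.mem_ker.1 hs)
    obtain ⟨i, hi⟩ := mem_zpowers_iff.1 hs'
    have hi' : y1 ^ i = ((s : HD) : G) := by simpa using congrArg Subtype.val hi
    have h5 : (((s : HD) : G)) ^ 5 = 1 := by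
      rw [← hi', ← zpow_natCast, ← zpow_mul, mul_comm, zpow_mul, zpow_natCast, ← hy15, pow_orderOf_eq_one, one_zpow]
    have h1 : ((s : HD) : G) = 1 := by
      rwa [show (5 : ℕ) = 2 * 2 + 1 from rfl, pow_succ, pow_mul,
        show ((s : HD) : G) ^ 2 = 1 by rw [pow_two, hSsq _ s.2], one_pow, one_mul] at h5
    exact Subtype.ext (Subtype.ext h1)
  have hV4 : Nat.card ι.range = 4 := by
    rw [← Nat.card_congr (MonoidHom.ofInjective hι).toEquiv, hS]; norm_num
  have hVsq : ∀ w ∈ ι.range, w * w = 1 := by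
    rintro _ ⟨s, rfl⟩
    rw [← map_mul, show s * s = 1 from Subtype.ext (Subtype.ext (hSsq _ s.2)), map_one]
  have hVc : ∀ w ∈ ι.range, w ≠ 1 → centralizer ({w} : Set (KK ⧸ Z5)) = ι.range := by
    rintro _ ⟨s, rfl⟩ hs1
    have hs2 : orderOf ((s : HD) : G) = 2 := orderOf_eq_prime (by rw [pow_two, hSsq _ s.2]) fun h => by
      refine hs1 ?_
      rw [show s = 1 from Subtype.ext (Subtype.ext h), map_one]
    set j : KK := ⟨((s : HD) : G), mem_inf.2
      ⟨(mem_inf.1 (mem_inf.1 (s : HD).2).1).2, (mem_inf.1 (s : HD).2).2⟩⟩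
    have hle : ι.range ≤ centralizer ({ι s} : Set (KK ⧸ Z5)) := fun v hv =>
      mem_centralizer_singleton_iff.2 (mul_comm_of_sq hVsq hv ⟨s, rfl⟩)
    refine (eq_of_le_of_card_ge hle ?_).symm
    set Cj := centralizer ({j} : Set KK)
    have hZC : Z5 ≤ Cj := by
      rw [zpowers_le, mem_centralizer_singleton_iff]
      exact Subtype.ext (mem_centralizer_singleton_iff.1 (mem_inf.1 j.2).2).symm
    have hpre : (centralizer ({ι s} : Set (KK ⧸ Z5))).comap (QuotientGroup.mk' Z5) ≤ Cj := by
      intro k hk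
      rw [mem_comap, mem_centralizer_singleton_iff] at hk
      have hk' : j⁻¹ * (k * j * k⁻¹) ∈ Z5 := by
        rw [← QuotientGroup.eq_one_iff]
        have : (QuotientGroup.mk' Z5 k) * ι s * (QuotientGroup.mk' Z5 k)⁻¹ = ι s := by
          rw [hk, mul_inv_cancel_right]
        have hιs : ι s = QuotientGroup.mk' Z5 j := rfl
        rw [hιs] at this
        show QuotientGroup.mk' Z5 _ = 1
        rw [map_mul, map_mul, map_mul, map_inv, map_inv, this, inv_mul_cancel]
      obtain ⟨i, hi⟩ := mem_zpowers_iff.1 hk'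
      have hi' : y1 ^ i = (j : G)⁻¹ * ((k : G) * (j : G) * (k : G)⁻¹) := by simpa using congrArg Subtype.val hi
      have hjy : Commute (j : G) y1 := mem_centralizer_singleton_iff.1 (mem_inf.1 j.2).2
      have hconj : (k : G) * (j : G) * (k : G)⁻¹ = (j : G) * y1 ^ i := by rw [hi']; group
      have hjj : (j : G) * (j : G) = 1 := hSsq _ s.2
      have h2i : y1 ^ (2 * i) = 1 := by
        have h : ((k : G) * (j : G) * (k : G)⁻¹) * ((k : G) * (j : G) * (k : G)⁻¹) = 1 := by
          calc _ = (k : G) * ((j : G) * (j : G)) * (k : G)⁻¹ := by group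
            _ = 1 := by rw [hjj]; group
        rw [hconj] at h
        have e : (j : G) * y1 ^ i * ((j : G) * y1 ^ i) = (j : G) * (j : G) * (y1 ^ i * y1 ^ i) := by
          rw [mul_assoc, ← mul_assoc (y1 ^ i), ← (hjy.zpow_right i).eq]; simp only [mul_assoc]
        rw [e, hjj, one_mul, ← zpow_add] at h
        rwa [two_mul]
      have h1 : y1 ^ i = 1 := by
        have h5 : y1 ^ (5 : ℤ) = 1 := by
          rw [show (5 : ℤ) = ((5 : ℕ) : ℤ) from rfl, zpow_natCast, ← hy15, pow_orderOf_eq_one]
        calc y1 ^ i = y1 ^ (3 * (2 * i) + 5 * (-i)) := by ring_nf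
          _ = 1 := by rw [zpow_add, mul_comm 3, zpow_mul, h2i, one_zpow, one_mul, zpow_mul, h5, one_zpow]
      rw [h1, mul_one] at hconj
      exact mem_centralizer_singleton_iff.2 (Subtype.ext (mul_inv_eq_iff_eq_mul.1 hconj))
    have hcardCj : Nat.card Cj = 20 := by
      rw [← h20 j j.2 hs2]
      exact Nat.card_congr
        { toFun := fun v => ⟨((v : KK) : G), (v : KK).2,
            congrArg Subtype.val (mem_centralizer_singleton_iff.1 v.2)⟩
          invFun := fun v => ⟨⟨v.1, v.2.1⟩, mem_centralizer_singleton_iff.2 (Subtype.ext v.2.2)⟩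
          left_inv := fun _ => rfl
          right_inv := fun _ => rfl }
    have hcp : Nat.card ((centralizer ({ι s} : Set (KK ⧸ Z5))).comap (QuotientGroup.mk' Z5)) =
        5 * Nat.card (centralizer ({ι s} : Set (KK ⧸ Z5))) := by
      have h := QuotientGroup.card_preimage_mk Z5 ((centralizer ({ι s} : Set (KK ⧸ Z5)) : Set (KK ⧸ Z5)))
      rw [Nat.card_zpowers, orderOf_mk, hy15] at h
      exact h
    have := card_le_of_le hpre
    rw [hcp, hcardCj] at this
    rw [hV4]
    omega
  obtain ⟨-, hcases⟩ := four_cases hV4 hVsq hVc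
  have hKc : Nat.card KK = 5 * Nat.card (KK ⧸ Z5) := by
    rw [← Z5.card_mul_index, index_eq_card, Nat.card_zpowers, orderOf_mk, hy15]
  rw [hKc] at h13
  rcases hcases with ⟨h, -⟩ | ⟨h, -⟩ | ⟨h, -⟩ <;> rw [h] at h13 <;> norm_num at h13

end Core

end CfsgLib.ChzL34
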